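import Cfsg.Agent.Lib.PGroup.Frattini
import Cfsg.Agent.Lib.HallPetresco.Basic
import Cfsg.Agent.Lib.SectRank.Basic

/-!
Tools for sections of a finite `p`-group of sectional rank at most three: Frattini-type
subgroups, counting, and commutator identities in sections of small class.
-/

set_option autoImplicit false
set_option linter.unusedSectionVars false

namespace Cfsg.Agent.Lib.RankThreeEss69

open Subgroup
open scoped commutatorElement

variable {G : Type*} [Group G] {p : ℕ}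

/-- The subgroup generated by the `p`-th powers of the elements of `H`. -/
def pw (p : ℕ) (H : Subgroup G) : Subgroup G := closure ((fun x => x ^ p) '' (H : Set G))

/-- Powers and commutators of `H`. -/
def fr (p : ℕ) (H : Subgroup G) : Subgroup G := pw p H ⊔ ⁅H, H⁆

/-- Powers of `fr H` and its commutators with `H`. -/
def frK (p : ℕ) (H : Subgroup G) : Subgroup G := pw p (fr p H) ⊔ ⁅fr p H, H⁆

theorem pow_mem_pw {H : Subgroup G} {x : G} (hx : x ∈ H) : x ^ p ∈ pw p H :=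
  subset_closure ⟨x, hx, rfl⟩

theorem pow_mem_fr {H : Subgroup G} {x : G} (hx : x ∈ H) : x ^ p ∈ fr p H :=
  mem_sup_left (pow_mem_pw hx)

theorem comm_mem_fr {H : Subgroup G} {x y : G} (hx : x ∈ H) (hy : y ∈ H) : ⁅x, y⁆ ∈ fr p H :=
  mem_sup_right (commutator_mem_commutator hx hy)

theorem pw_le {H : Subgroup G} : pw p H ≤ H := by
  rw [pw, closure_le]
  rintro _ ⟨x, hx, rfl⟩
  exact H.pow_mem hx p

theorem fr_le {H : Subgroup G} : fr p H ≤ H := sup_le pw_le (commutator_le.2 fun _ ha _ hb =>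
  H.mul_mem (H.mul_mem (H.mul_mem ha hb) (H.inv_mem ha)) (H.inv_mem hb))

theorem fr_le_of {H K : Subgroup G} (hp : ∀ x ∈ H, x ^ p ∈ K) (hc : ∀ x ∈ H, ∀ y ∈ H, ⁅x, y⁆ ∈ K) :
    fr p H ≤ K :=
  sup_le ((closure_le _).2 (by rintro _ ⟨x, hx, rfl⟩; exact hp x hx)) (commutator_le.2 hc)

theorem pw_mono {H K : Subgroup G} (h : H ≤ K) : pw p H ≤ pw p K :=
  closure_mono (Set.image_mono h)

theorem fr_mono {H K : Subgroup G} (h : H ≤ K) : fr p H ≤ fr p K :=
  sup_le_sup (pw_mono h) (commutator_mono h h)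

section Maps

variable {G' : Type*} [Group G'] (f : G →* G') (H : Subgroup G)

theorem map_pw : (pw p H).map f = pw p (H.map f) := by
  rw [pw, MonoidHom.map_closure, pw]
  congr 1
  ext y
  simp only [Set.mem_image, SetLike.mem_coe, Subgroup.mem_map]
  constructor
  · rintro ⟨_, ⟨x, hx, rfl⟩, rfl⟩
    exact ⟨f x, ⟨x, hx, rfl⟩, (map_pow f x p).symm⟩
  · rintro ⟨_, ⟨x, hx, rfl⟩, rfl⟩
    exact ⟨x ^ p, ⟨x, hx, rfl⟩, map_pow f x p⟩

theorem map_fr : (fr p H).map f = fr p (H.map f) := by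
  rw [fr, Subgroup.map_sup, map_pw, map_commutator, fr]

theorem map_frK : (frK p H).map f = frK p (H.map f) := by
  rw [frK, Subgroup.map_sup, map_pw, map_fr, map_commutator, map_fr, frK]

/-- A homomorphism defined on `H` with values in `A` carries `fr H` into `fr A`. -/
theorem apply_mem_fr (φ : H →* G') (A : Subgroup G') (hA : ∀ x, φ x ∈ A) {x : H}
    (hx : (x : G) ∈ fr p H) : φ x ∈ fr p A := by
  have e : fr p H = (fr p (⊤ : Subgroup H)).map H.subtype := by
    rw [map_fr, ← MonoidHom.range_eq_map, range_subtype]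
  rw [e] at hx
  obtain ⟨y, hy, hyx⟩ := hx
  rw [H.subtype_injective hyx] at hy
  have h : (fr p (⊤ : Subgroup H)).map φ ≤ fr p A := by
    rw [map_fr]; exact fr_mono (by rintro _ ⟨z, -, rfl⟩; exact hA z)
  exact h (mem_map_of_mem φ hy)

theorem apply_mem_frK (φ : H →* G') (A : Subgroup G') (hA : ∀ x, φ x ∈ A) {x : H}
    (hx : (x : G) ∈ frK p H) : φ x ∈ frK p A := by
  have e : frK p H = (frK p (⊤ : Subgroup H)).map H.subtype := by
    rw [map_frK, ← MonoidHom.range_eq_map, range_subtype]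
  rw [e] at hx
  obtain ⟨y, hy, hyx⟩ := hx
  rw [H.subtype_injective hyx] at hy
  have hle : (⊤ : Subgroup H).map φ ≤ A := by rintro _ ⟨z, -, rfl⟩; exact hA z
  have h : (frK p (⊤ : Subgroup H)).map φ ≤ frK p A := by
    rw [map_frK]
    exact sup_le_sup (pw_mono (fr_mono hle)) (commutator_mono (fr_mono hle) hle)
  exact h (mem_map_of_mem φ hy)

end Maps

theorem normal_of_map {K : Subgroup G} (h : ∀ g : G, K.map (MulAut.conj g).toMonoidHom ≤ K) :
    K.Normal :=
  ⟨fun n hn g => h g ⟨n, hn, rfl⟩⟩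

theorem map_conj_eq (H : Subgroup G) [H.Normal] (g : G) : H.map (MulAut.conj g).toMonoidHom = H := by
  refine le_antisymm ?_ fun x hx => ⟨g⁻¹ * x * g, ?_, by simp [mul_assoc]⟩
  · rintro _ ⟨x, hx, rfl⟩
    exact Normal.conj_mem inferInstance x hx g
  · simpa using Normal.conj_mem (H := H) inferInstance x hx g⁻¹

instance pw_normal (H : Subgroup G) [H.Normal] : (pw p H).Normal :=
  normal_of_map fun g => by rw [map_pw, map_conj_eq]

instance fr_normal (H : Subgroup G) [H.Normal] : (fr p H).Normal :=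
  normal_of_map fun g => by rw [map_fr, map_conj_eq]

instance frK_normal (H : Subgroup G) [H.Normal] : (frK p H).Normal :=
  normal_of_map fun g => by rw [map_frK, map_conj_eq]

theorem commute_mk' {K : Subgroup G} [K.Normal] {a b : G} (h : ⁅a, b⁆ ∈ K) :
    Commute (QuotientGroup.mk' K a) (QuotientGroup.mk' K b) := by
  rw [← commutatorElement_eq_one_iff_commute, ← map_commutatorElement, ← MonoidHom.mem_ker,
    QuotientGroup.ker_mk']
  exact h

theorem mk'_eq_one {K : Subgroup G} [K.Normal] {a : G} : QuotientGroup.mk' K a = 1 ↔ a ∈ K := by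
  rw [← MonoidHom.mem_ker, QuotientGroup.ker_mk']

theorem comm_mem_iff {K : Subgroup G} [K.Normal] {a b : G} :
    ⁅a, b⁆ ∈ K ↔ Commute (QuotientGroup.mk' K a) (QuotientGroup.mk' K b) := by
  rw [← commutatorElement_eq_one_iff_commute, ← map_commutatorElement, mk'_eq_one]

theorem conj_eq_comm_mul {x y : G} : x * y * x⁻¹ = ⁅x, y⁆ * y := by
  rw [commutatorElement_def, inv_mul_cancel_right]

/-- An element with an invertible exponent lies in a subgroup. -/
theorem mem_of_zpow [hp : Fact p.Prime] {H : Subgroup G} {x : G} (hx : x ^ p ∈ H) {i : ℤ}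
    (hi : (i : ZMod p) ≠ 0) (h : x ^ i ∈ H) : x ∈ H := by
  rw [Ne, ZMod.intCast_zmod_eq_zero_iff_dvd] at hi
  obtain ⟨u, v, huv⟩ := (Nat.prime_iff_prime_int.1 hp.out).coprime_iff_not_dvd.2 hi
  rw [← zpow_one x, ← huv, zpow_add, mul_comm u, mul_comm v, zpow_mul, zpow_mul, zpow_natCast]
  exact H.mul_mem (H.zpow_mem hx u) (H.zpow_mem h v)

theorem zpow_congr_mod {x : G} (hx : x ^ p = 1) {i j : ℤ} (h : (i : ZMod p) = j) : x ^ i = x ^ j := by
  obtain ⟨k, hk⟩ := (ZMod.intCast_eq_intCast_iff_dvd_sub i j p).1 h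
  rw [show j = i + (p : ℤ) * k by omega, zpow_add, zpow_mul, zpow_natCast, hx, one_zpow, mul_one]

theorem cast_zero_of_zpow [hp : Fact p.Prime] {x : G} (hx : x ^ p = 1) (hx1 : x ≠ 1) {i : ℤ}
    (h : x ^ i = 1) : (i : ZMod p) = 0 := by
  by_contra hi
  exact hx1 (mem_bot.1 (mem_of_zpow (H := ⊥) (mem_bot.2 hx) hi (mem_bot.2 h)))

theorem zpow_mem_congr [hp : Fact p.Prime] {H : Subgroup G} {x : G} (hx : x ^ p ∈ H) {i j : ℤ}
    (h : (i : ZMod p) = j) (hi : x ^ i ∈ H) : x ^ j ∈ H := by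
  obtain ⟨k, hk⟩ := (ZMod.intCast_eq_intCast_iff_dvd_sub i j p).1 h
  rw [show j = i + (p : ℤ) * k by omega, zpow_add, zpow_mul, zpow_natCast]
  exact H.mul_mem hi (H.zpow_mem hx k)

/-- An elementwise form of membership in `K ⊔ ⟨x⟩`. -/
theorem exists_of_mem_sup {K : Subgroup G} [K.Normal] {x g : G} (h : g ∈ K ⊔ zpowers x) :
    ∃ k ∈ K, ∃ i : ℤ, g = k * x ^ i := by
  obtain ⟨k, hk, _, ⟨i, rfl⟩, rfl⟩ := mem_sup_of_normal_left.1 h
  exact ⟨k, hk, i, rfl⟩

/-- Generators commuting and of exponent `p` modulo `K` give an elementary abelian section. -/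
theorem isElemSection_of_gen {K : Subgroup G} [K.Normal] {s : Set G}
    (hc : ∀ a ∈ s, ∀ b ∈ s, ⁅a, b⁆ ∈ K) (hp : ∀ a ∈ s, a ^ p ∈ K) :
    SectRank.IsElemSection p K (K ⊔ closure s) := by
  set π := QuotientGroup.mk' K
  have hmem : ∀ x ∈ K ⊔ closure s, π x ∈ closure (π '' s) := fun x hx => by
    have h := mem_map_of_mem π hx
    rwa [Subgroup.map_sup, QuotientGroup.map_mk'_self, bot_sup_eq, MonoidHom.map_closure] at h
  have hcm : ∀ x ∈ closure (π '' s), ∀ y ∈ closure (π '' s), Commute x y := by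
    intro x hx y hy
    induction hx, hy using closure_induction₂ with
    | mem a b ha hb =>
      obtain ⟨a, ha, rfl⟩ := ha
      obtain ⟨b, hb, rfl⟩ := hb
      exact commute_mk' (hc a ha b hb)
    | one_left b _ => exact Commute.one_left b
    | one_right a _ => exact Commute.one_right a
    | mul_left a b c _ _ _ h1 h2 => exact h1.mul_left h2
    | mul_right a b c _ _ _ h1 h2 => exact h1.mul_right h2
    | inv_left a b _ _ h => exact h.inv_left
    | inv_right a b _ _ h => exact h.inv_right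
  have hpw : ∀ x ∈ closure (π '' s), x ^ p = 1 := by
    intro x hx
    induction hx using closure_induction with
    | mem a ha =>
      obtain ⟨a, ha, rfl⟩ := ha
      rw [← map_pow, mk'_eq_one]; exact hp a ha
    | one => exact one_pow p
    | mul a b ha hb h1 h2 => rw [(hcm a ha b hb).mul_pow, h1, h2, one_mul]
    | inv a _ h => rw [inv_pow, h, inv_one]
  refine ⟨le_sup_left, fun a ha b hb => ?_, fun a ha => ?_⟩
  · show ⁅a, b⁆ ∈ K
    exact comm_mem_iff.2 (hcm _ (hmem a ha) _ (hmem b hb))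
  · rw [← mk'_eq_one, map_pow]; exact hpw _ (hmem a ha)

theorem fr_le_of_gen {H K : Subgroup G} [K.Normal] {s : Set G} (hH : H ≤ K ⊔ closure s)
    (hc : ∀ a ∈ s, ∀ b ∈ s, ⁅a, b⁆ ∈ K) (hp : ∀ a ∈ s, a ^ p ∈ K) : fr p H ≤ K := by
  have h := isElemSection_of_gen hc hp
  exact fr_le_of (fun x hx => h.pow x (hH hx)) fun x hx y hy => h.comm x (hH hx) y (hH hy)

section Finite

variable [hp : Fact p.Prime] [Finite G] (hG : IsPGroup p G)
include hG

theorem card_mul_le' {K H : Subgroup G} (h : K < H) : Nat.card K * p ≤ Nat.card H := by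
  obtain ⟨i, hi⟩ := IsPGroup.iff_card.1 (hG.to_subgroup K)
  obtain ⟨j, hj⟩ := IsPGroup.iff_card.1 (hG.to_subgroup H)
  have hlt : Nat.card K < Nat.card H := lt_of_le_of_ne (card_le_of_le h.le) fun e =>
    h.ne (eq_of_le_of_card_ge h.le e.ge)
  rw [hi, hj, Nat.pow_lt_pow_iff_right hp.out.one_lt] at hlt
  rw [hi, hj, ← pow_succ]
  exact Nat.pow_le_pow_right hp.out.pos hlt

omit hG in
/-- Adjoining an element with `p`-th power in `K` multiplies the order by at most `p`. -/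
theorem card_sup_zpowers_le {K : Subgroup G} [K.Normal] {x : G} (hx : x ^ p ∈ K) :
    Nat.card (K ⊔ zpowers x : Subgroup G) ≤ Nat.card K * p := by
  rw [← SectRank.card_mul_relIndex_of_le K _ le_sup_left]
  refine Nat.mul_le_mul_left _ ?_
  have e : K.relIndex (K ⊔ zpowers x) =
      Nat.card ((K ⊔ zpowers x).map (QuotientGroup.mk' K)) := by
    conv_lhs => rw [← QuotientGroup.ker_mk' K, relIndex_ker]
    rw [QuotientGroup.ker_mk']
  rw [e, Subgroup.map_sup, QuotientGroup.map_mk'_self, bot_sup_eq, MonoidHom.map_zpowers,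
    Nat.card_zpowers]
  exact orderOf_le_of_pow_eq_one hp.out.pos (by rw [← map_pow, mk'_eq_one]; exact hx)

theorem card_sup_zpowers_eq {K : Subgroup G} [K.Normal] {x : G} (hx : x ^ p ∈ K) (hxK : x ∉ K) :
    Nat.card (K ⊔ zpowers x : Subgroup G) = Nat.card K * p :=
  le_antisymm (card_sup_zpowers_le hx) (card_mul_le' hG
    (lt_of_le_of_ne le_sup_left fun e => hxK (e.ge (mem_sup_right (mem_zpowers x)))))

/-- A subgroup over `K` of index `p` is generated by any element outside `K`. -/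
theorem eq_sup_zpowers {K H : Subgroup G} (hKH : K ≤ H) (hc : Nat.card H ≤ Nat.card K * p) {x : G}
    (hx : x ∈ H) (hxK : x ∉ K) : H = K ⊔ zpowers x :=
  (eq_of_le_of_card_ge (sup_le hKH (zpowers_le.2 hx)) (hc.trans (card_mul_le' hG
    (lt_of_le_of_ne le_sup_left fun e => hxK (e.ge (mem_sup_right (mem_zpowers x))))))).symm

/-- Descent along the lower central series. -/
theorem le_of_le_comm_sup {X M : Subgroup G} [M.Normal] (h : X ≤ ⁅X, (⊤ : Subgroup G)⁆ ⊔ M) :
    X ≤ M := by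
  haveI := hG.isNilpotent
  set π := QuotientGroup.mk' M with hπ
  have hst : ∀ k, X.map π ≤ (⊤ : Subgroup (G ⧸ M)).lowerCentralSeries k := by
    intro k
    induction k with
    | zero => exact le_top
    | succ k ih =>
      refine (map_mono h).trans ?_
      rw [Subgroup.map_sup, hπ, QuotientGroup.map_mk'_self, sup_bot_eq, map_commutator,
        ← MonoidHom.range_eq_map, QuotientGroup.range_mk', Subgroup.lowerCentralSeries_succ]
      exact commutator_mono ih le_rfl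
  obtain ⟨k, hk⟩ : ∃ k, (⊤ : Subgroup (G ⧸ M)).lowerCentralSeries k = ⊥ :=
    ⟨_, Subgroup.lowerCentralSeries_eq_bot_iff_nilpotencyClass_le.2 le_rfl⟩
  intro x hx
  have := hk.le (hst k (mem_map_of_mem π hx))
  rwa [mem_bot, mk'_eq_one] at this

/-- A normal section of order at most `p` is central. -/
theorem comm_le_of_card_le {X M : Subgroup G} [X.Normal] [M.Normal] (hMX : M ≤ X)
    (hc : Nat.card X ≤ Nat.card M * p) : ⁅X, (⊤ : Subgroup G)⁆ ≤ M := by
  by_contra hne
  have hlt : M < ⁅X, (⊤ : Subgroup G)⁆ ⊔ M := lt_of_le_of_ne le_sup_right fun e =>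
    hne (le_sup_left.trans e.ge)
  have hle : ⁅X, (⊤ : Subgroup G)⁆ ⊔ M ≤ X := sup_le (commutator_le_left _ _) hMX
  have heq := eq_of_le_of_card_ge hle (hc.trans (card_mul_le' hG hlt))
  exact hne ((commutator_le_left _ _).trans (le_of_le_comm_sup hG heq.ge))

theorem pow_mem_of_card_le {X M : Subgroup G} [M.Normal] (hMX : M ≤ X)
    (hc : Nat.card X ≤ Nat.card M * p) {x : G} (hx : x ∈ X) : x ^ p ∈ M := by
  by_cases hxM : x ∈ M
  · exact M.pow_mem hxM p
  by_contra hxp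
  have e := eq_sup_zpowers hG hMX hc hx hxM
  have hlt : M < M ⊔ zpowers (x ^ p) := lt_of_le_of_ne le_sup_left fun h =>
    hxp (h.ge (mem_sup_right (mem_zpowers _)))
  have hle : M ⊔ zpowers (x ^ p) ≤ X := sup_le hMX (zpowers_le.2 (X.pow_mem hx p))
  have heq := eq_of_le_of_card_ge hle (hc.trans (card_mul_le' hG hlt))
  obtain ⟨k, hk, i, hi⟩ := exists_of_mem_sup (heq.ge hx)
  have hy : x ^ (1 - (p : ℤ) * i) ∈ M := by
    have : x ^ (1 - (p : ℤ) * i) = k := by
      rw [zpow_sub, zpow_one, zpow_mul, zpow_natCast]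
      exact mul_inv_eq_of_eq_mul hi
    exact this ▸ hk
  obtain ⟨n, hn⟩ := hG x
  obtain ⟨u, v, huv⟩ : IsCoprime (1 - (p : ℤ) * i) ((p : ℤ) ^ n) :=
    IsCoprime.pow_right ⟨1, i, by ring⟩
  refine hxM ?_
  rw [← zpow_one x, ← huv, zpow_add, mul_comm u, mul_comm v, zpow_mul, zpow_mul, ← Nat.cast_pow,
    zpow_natCast, hn, one_zpow, mul_one]
  exact M.zpow_mem hy u

/-- The rank bound on a generated elementary abelian section. -/
theorem card_le_of_rank (hr : Cfsg.SectionalPRankLE p 3 G) {K H : Subgroup G}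
    (h : SectRank.IsElemSection p K H) : Nat.card H ≤ Nat.card K * p ^ 3 := by
  rw [← SectRank.card_mul_relIndex_of_le K H h.le]
  exact Nat.mul_le_mul_left _ (h.relIndex_le hr)

theorem false_of_gen (hr : Cfsg.SectionalPRankLE p 3 G) {K : Subgroup G} [K.Normal] {s : Set G}
    (hc : ∀ a ∈ s, ∀ b ∈ s, ⁅a, b⁆ ∈ K) (hp' : ∀ a ∈ s, a ^ p ∈ K)
    (hbig : Nat.card K * p ^ 4 ≤ Nat.card (K ⊔ closure s : Subgroup G)) : False := by
  have h := (hbig.trans (card_le_of_rank hG hr (isElemSection_of_gen hc hp')))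
  exact absurd (Nat.le_of_mul_le_mul_left h Nat.card_pos)
    (not_le.2 (Nat.pow_lt_pow_right hp.out.one_lt (by norm_num)))

end Finite

section Class

/-- Class two with commutators of exponent `p`, on a subgroup. -/
structure Two (p : ℕ) (H : Subgroup G) : Prop where
  comm : ∀ a ∈ H, ∀ b ∈ H, ∀ x ∈ H, Commute ⁅a, b⁆ x
  pow : ∀ a ∈ H, ∀ b ∈ H, ⁅a, b⁆ ^ p = 1

namespace Two

variable {H : Subgroup G} (h : Two p H)
include h

theorem cl {a b c : G} (ha : a ∈ H) (hb : b ∈ H) (hc : c ∈ H) :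
    ⁅a * b, c⁆ = ⁅a, c⁆ * ⁅b, c⁆ := by
  have e : ⁅a * b, c⁆ = (a * ⁅b, c⁆ * a⁻¹) * ⁅a, c⁆ := by simp only [commutatorElement_def]; group
  rw [e, ← (h.comm b hb c hc a ha).eq, mul_inv_cancel_right]
  exact (h.comm b hb c hc _ (H.mul_mem (H.mul_mem (H.mul_mem ha hc) (H.inv_mem ha)) (H.inv_mem hc))).eq

theorem cr {a b c : G} (ha : a ∈ H) (hb : b ∈ H) (hc : c ∈ H) :
    ⁅a, b * c⁆ = ⁅a, b⁆ * ⁅a, c⁆ := by
  have e : ⁅a, b * c⁆ = ⁅a, b⁆ * (b * ⁅a, c⁆ * b⁻¹) := by simp only [commutatorElement_def]; group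
  rw [e, ← (h.comm a ha c hc b hb).eq, mul_inv_cancel_right]

theorem mul_pow_eq (hp2 : p ≠ 2) [hp : Fact p.Prime] {a b : G} (ha : a ∈ H) (hb : b ∈ H) :
    (a * b) ^ p = a ^ p * b ^ p := by
  have key : ∀ n : ℕ, (a * b) ^ n = a ^ n * b ^ n * ⁅b, a⁆ ^ n.choose 2 := by
    intro n
    induction n with
    | zero => simp
    | succ n ih =>
      have hk : ∀ x ∈ H, Commute ⁅b, a⁆ x := fun x hx => h.comm b hb a ha x hx
      have hba : b ^ n * a = a * b ^ n * ⁅b, a⁆ ^ n := by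
        clear ih
        induction n with
        | zero => simp
        | succ n ih' =>
          calc b ^ (n + 1) * a = b * (b ^ n * a) := by rw [pow_succ', mul_assoc]
            _ = (b * a) * b ^ n * ⁅b, a⁆ ^ n := by rw [ih']; simp only [mul_assoc]
            _ = (a * b * ⁅b, a⁆) * b ^ n * ⁅b, a⁆ ^ n := by
              rw [show a * b * ⁅b, a⁆ = ⁅b, a⁆ * (a * b) from (hk _ (H.mul_mem ha hb)).eq.symm,
                show ⁅b, a⁆ * (a * b) = b * a by rw [commutatorElement_def]; group]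
            _ = a * b ^ (n + 1) * ⁅b, a⁆ ^ (n + 1) := by
              rw [mul_assoc (a * b), (hk _ (H.pow_mem hb n)).eq, pow_succ' b, pow_succ' ⁅b, a⁆]
              simp only [mul_assoc]
      calc (a * b) ^ (n + 1) = a ^ n * b ^ n * (⁅b, a⁆ ^ n.choose 2 * (a * b)) := by
            rw [pow_succ, ih, mul_assoc]
        _ = a ^ n * (b ^ n * a) * b * ⁅b, a⁆ ^ n.choose 2 := by
            rw [((hk _ (H.mul_mem ha hb)).pow_left _).eq]; simp only [mul_assoc]
        _ = a ^ (n + 1) * b ^ (n + 1) * ⁅b, a⁆ ^ (n + 1).choose 2 := by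
            rw [hba, show (n + 1).choose 2 = n + n.choose 2 by
              rw [Nat.choose_succ_succ, Nat.choose_one_right], pow_add ⁅b, a⁆, pow_succ a n, pow_succ b n]
            simp only [mul_assoc]
            rw [((hk b hb).pow_left n).left_comm]
  obtain ⟨q, hq⟩ := hp.out.dvd_choose_self (two_ne_zero) (lt_of_le_of_ne hp.out.two_le (Ne.symm hp2))
  rw [key p, hq, pow_mul, h.pow b hb a ha, one_pow, mul_one]

theorem zl {a b : G} (ha : a ∈ H) (hb : b ∈ H) (i : ℤ) : ⁅a ^ i, b⁆ = ⁅a, b⁆ ^ i := by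
  induction i using Int.induction_on with
  | zero => simp
  | succ n ih => rw [zpow_add_one, h.cl (H.zpow_mem ha _) ha hb, ih, zpow_add_one]
  | pred n ih =>
    have hq : ⁅a ^ (-(n : ℤ) - 1), b⁆ * ⁅a, b⁆ = ⁅a, b⁆ ^ (-(n : ℤ)) := by
      rw [← h.cl (H.zpow_mem ha _) ha hb, ← zpow_add_one, sub_add_cancel, ih]
    rw [zpow_sub_one ⁅a, b⁆, ← hq, mul_inv_cancel_right]

theorem zr {a b : G} (ha : a ∈ H) (hb : b ∈ H) (i : ℤ) : ⁅a, b ^ i⁆ = ⁅a, b⁆ ^ i := by
  rw [← commutatorElement_inv (b ^ i) a, h.zl hb ha, ← inv_zpow, commutatorElement_inv]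

end Two

theorem two_map {E M K : Subgroup G} [K.Normal] (hc : ⁅E, E⁆ ≤ M) (hM : ⁅M, E⁆ ≤ K)
    (hp : ∀ x ∈ M, x ^ p ∈ K) : Two p (E.map (QuotientGroup.mk' K)) := by
  refine ⟨?_, ?_⟩
  · rintro _ ⟨a, ha, rfl⟩ _ ⟨b, hb, rfl⟩ _ ⟨x, hx, rfl⟩
    rw [← map_commutatorElement]
    exact commute_mk' (hM (commutator_mem_commutator (hc (commutator_mem_commutator ha hb)) hx))
  · rintro _ ⟨a, ha, rfl⟩ _ ⟨b, hb, rfl⟩
    rw [← map_commutatorElement, ← map_pow, mk'_eq_one]
    exact hp _ (hc (commutator_mem_commutator ha hb))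

/-- In class three with commutators of exponent `p`, the `p`-th power map is multiplicative for
`p ≥ 5`. -/
theorem mul_pow_class3 [hp : Fact p.Prime] (h5 : 5 ≤ p) {K Z1 Z2 : Subgroup G} [K.Normal]
    (h1 : ⁅Z1, (⊤ : Subgroup G)⁆ ≤ K) (h2 : ⁅Z2, (⊤ : Subgroup G)⁆ ≤ Z1)
    (h3 : ⁅(⊤ : Subgroup G), (⊤ : Subgroup G)⁆ ≤ Z2) (hp' : ∀ x ∈ Z2, x ^ p ∈ K) (a b : G) :
    (QuotientGroup.mk' K a * QuotientGroup.mk' K b) ^ p =
      QuotientGroup.mk' K a ^ p * QuotientGroup.mk' K b ^ p := by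
  set π := QuotientGroup.mk' K
  obtain ⟨c, hc, hc0, hc1, hf⟩ := HallPetresco.hallPetresco (π a) (π b)
  have htop : (⊤ : Subgroup G).map π = ⊤ :=
    map_top_of_surjective _ (QuotientGroup.mk'_surjective K)
  have hl1 : (⊤ : Subgroup (G ⧸ K)).lowerCentralSeries 1 ≤ Z2.map π := by
    rw [Subgroup.lowerCentralSeries_succ, Subgroup.lowerCentralSeries_zero, ← htop,
      ← map_commutator]
    exact map_mono h3
  have hl2 : (⊤ : Subgroup (G ⧸ K)).lowerCentralSeries 2 ≤ Z1.map π := by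
    rw [Subgroup.lowerCentralSeries_succ]
    refine (commutator_mono hl1 le_rfl).trans ?_
    rw [← htop, ← map_commutator]
    exact map_mono h2
  have hl3 : (⊤ : Subgroup (G ⧸ K)).lowerCentralSeries 3 = ⊥ := by
    rw [eq_bot_iff, Subgroup.lowerCentralSeries_succ]
    refine (commutator_mono hl2 le_rfl).trans ?_
    rw [← htop, ← map_commutator, ← QuotientGroup.map_mk'_self K]
    exact map_mono h1
  rw [hf p]
  rw [List.prod_eq_one]
  · rw [mul_one]
  intro x hx
  obtain ⟨i, hi, rfl⟩ := List.mem_map.1 hx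
  rw [List.mem_range] at hi
  rcases Nat.lt_or_ge i 2 with h | h
  · interval_cases i <;> simp [hc0, hc1]
  rcases Nat.lt_or_ge i p with h' | h'
  · obtain ⟨q, hq⟩ := hp.out.dvd_choose_self (by omega) h'
    obtain ⟨z, hz, hzx⟩ :=
      (Subgroup.lowerCentralSeries_antitone _ (show 1 ≤ i - 1 by omega)).trans hl1 (hc i)
    rw [hq, pow_mul, ← hzx, ← map_pow, (mk'_eq_one).2 (hp' z hz), one_pow]
  · have := (Subgroup.lowerCentralSeries_antitone _ (show 3 ≤ i - 1 by omega)).trans hl3.le (hc i)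
    rw [mem_bot.1 this, one_pow]

end Class

end Cfsg.Agent.Lib.RankThreeEss69
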