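import Cfsg.Agent.Lib.RankThreeEss69.Index
import Cfsg.Agent.Lib.FusionOrderFive.Tools

/-!
An essential subgroup with three generators inside its normaliser.
-/

set_option autoImplicit false
set_option linter.unusedSectionVars false

namespace Cfsg.Agent.Lib.RankThreeEss69

open Cfsg Cfsg.FusionSystem Cfsg.Agent.Lib.Fusion Cfsg.Agent.Lib.Fusion87 Cfsg.Agent.Lib.FusionOrderFive
open scoped commutatorElement

universe u

theorem fr_top_eq_frattini {P : Type*} [Group P] [Finite P] {p : ℕ} [Fact p.Prime] (hP : IsPGroup p P) :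
    fr p (⊤ : Subgroup P) = frattini P := by
  refine le_antisymm (fr_le_of (fun x _ => Lib.PFrattini.pow_mem_frattini hP x) fun x hx y hy => ?_)
    (Lib.PFrattini.frattini_le (p := p) ?_ fun x => pow_mem_fr (Subgroup.mem_top x))
  · exact Lib.PFrattini.commutator_le_frattini hP (Subgroup.commutator_mem_commutator hx hy)
  · exact Subgroup.commutator_le.2 fun x hx y hy => comm_mem_fr hx hy

theorem sectionalPRankLE_of_injective {G H : Type*} [Group G] [Group H] {p k : ℕ}
    (hr : Cfsg.SectionalPRankLE p k G) (f : H →* G) (hf : Function.Injective f) :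
    Cfsg.SectionalPRankLE p k H :=
  SectRank.sectionalPRankLE_of_forall fun N K h => by
    have := (h.map f).relIndex_le hr
    rwa [Subgroup.relIndex_map_map_of_injective _ _ hf] at this

variable {Ω : Type u} [Group Ω] {S : Subgroup Ω} [Finite S] {F : FusionSystem S} {p : ℕ}
  [hp : Fact p.Prime]

omit hp [Finite S] in
theorem rank_le_of_le {P : Subgroup Ω} (hr : Cfsg.SectionalPRankLE p 3 S) (hP : P ≤ S) :
    Cfsg.SectionalPRankLE p 3 P :=
  sectionalPRankLE_of_injective hr _ (Subgroup.inclusion_injective hP)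

variable (hS : IsPGroup p S) (hF : F.IsSaturated p) {E : Subgroup Ω} (hE : F.IsEssential p E)
include hS hF hE

theorem mem_of_trivial {x : Ω} (hxS : x ∈ S) (hxn : x ∈ Subgroup.normalizer (E : Set Ω))
    (h : quotHom E (conjAut E x hxn) = 1) : x ∈ E := by
  refine mem_of_conjAut_mem_inn hE.1 hxS (hgN := hxn) ?_
  exact mem_inn_of_quot_trivial hS hF hE
    (autInducedBy_le_autGroup hE.1.1 (mem_autInducedBy_normalizer.2 ⟨x, hxn, hxS, rfl⟩)) h

/-- The normaliser is `p` times bigger. -/
theorem card_normalizer_of (hp2 : p ≠ 2)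
    (hrk : (frattini E).index = p ^ 2 ∨ (frattini E).index = p ^ 3) :
    Nat.card (normalizerIn S E) = Nat.card E * p := by
  haveI := finite_of_le hE.1.1
  haveI := finite_normalizerIn (S := S) E
  let f : normalizerIn S E →* MulAut (E ⧸ frattini E) :=
    (quotHom E).comp ((Subgroup.normalizerMonoidHom E).comp
      (Subgroup.inclusion (inf_le_right : normalizerIn S E ≤ Subgroup.normalizer (E : Set Ω))))
  have hf : ∀ g : normalizerIn S E, f g = quotHom E (conjAut E g g.2.2) := fun g => rfl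
  have hker : f.ker = E.subgroupOf (normalizerIn S E) := by
    ext g
    rw [MonoidHom.mem_ker, Subgroup.mem_subgroupOf, hf]
    refine ⟨mem_of_trivial hS hF hE g.2.1 g.2.2, fun hg => ?_⟩
    rw [show conjAut E (g : Ω) g.2.2 = MulAut.conj (⟨g, hg⟩ : E) from MulEquiv.ext fun y => Subtype.ext rfl]
    exact quotHom_inn (hS.to_le hE.1.1) _
  have hEN : E ≤ normalizerIn S E := le_normalizerIn hE.1.1
  have hle : f.range ≤ (F.autGroup E).map (quotHom E) := by
    rintro _ ⟨g, rfl⟩
    rw [hf]
    exact Subgroup.mem_map_of_mem _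
      (autInducedBy_le_autGroup hE.1.1 (mem_autInducedBy_normalizer.2 ⟨g, g.2.2, g.2.1, rfl⟩))
  have hNp : IsPGroup p (normalizerIn S E) := hS.to_le inf_le_left
  have hrp : IsPGroup p f.range := hNp.of_surjective f.rangeRestrict f.rangeRestrict_surjective
  have hc := card_le_prime_quot hS hF hE hp2 hrk hle hrp
  obtain ⟨j, hj⟩ := IsPGroup.iff_card.1 hrp
  have hlt : E < normalizerIn S E := lt_normalizerIn hS
    (lt_of_le_of_ne hE.1.1 fun e => not_isEssential_self hS hF (e ▸ hE))
  have hmul := Subgroup.card_mul_index f.ker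
  rw [Subgroup.index_ker, hker, Nat.card_congr (Subgroup.subgroupOfEquivOfLe hEN).toEquiv] at hmul
  have hj1 : j ≠ 0 := fun h0 => hlt.ne (Subgroup.eq_of_le_of_card_ge hlt.le
    (by rw [← hmul, hj, h0, pow_zero, mul_one]))
  rw [← hmul, le_antisymm hc (by rw [hj]; exact Nat.le_self_pow hj1 p)]

theorem card_normalizer' (hp2 : p ≠ 2) (hrk : (frattini E).index = p ^ 3) :
    Nat.card (normalizerIn S E) = Nat.card E * p :=
  card_normalizer_of hS hF hE hp2 (Or.inr hrk)

omit hF hE in
theorem fr_bar (hES : E ≤ S) :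
    fr p (E.subgroupOf (normalizerIn S E)) =
      (frattini E).map (Subgroup.inclusion (le_normalizerIn hES)) := by
  haveI := finite_of_le hES
  rw [← fr_top_eq_frattini (hS.to_le hES), map_fr, ← MonoidHom.range_eq_map, Subgroup.inclusion_range]

omit hF hE in
theorem mem_fr_bar (hES : E ≤ S) (x : E) :
    Subgroup.inclusion (le_normalizerIn hES) x ∈ fr p (E.subgroupOf (normalizerIn S E)) ↔
      x ∈ frattini E := by
  rw [fr_bar hS hES]
  exact Subgroup.mem_map_iff_mem (Subgroup.inclusion_injective _)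

omit hE in
theorem idx_bar (hE : F.IsEssential p E) (hp2 : p ≠ 2) (hrk : (frattini E).index = p ^ 3) :
    Idx p (E.subgroupOf (normalizerIn S E)) := by
  haveI := finite_of_le hE.1.1
  haveI := finite_normalizerIn (S := S) E
  have hEN : E ≤ normalizerIn S E := le_normalizerIn hE.1.1
  have hc : Nat.card (E.subgroupOf (normalizerIn S E)) = Nat.card E :=
    Nat.card_congr (Subgroup.subgroupOfEquivOfLe hEN).toEquiv
  refine ⟨Subgroup.normal_subgroupOf_of_le_normalizer inf_le_right, ?_, ?_⟩
  · have h := (E.subgroupOf (normalizerIn S E)).card_mul_index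
    rw [hc, card_normalizer' hS hF hE hp2 hrk] at h
    exact Nat.eq_of_mul_eq_mul_left Nat.card_pos h
  · rw [hc, fr_bar hS hE.1.1, Subgroup.card_map_of_injective (Subgroup.inclusion_injective _), ← hrk,
      Subgroup.card_mul_index]

omit hS hF hE in
theorem map_conjAut_pow {P : Subgroup Ω} {y : Ω} (hy : y ∈ Subgroup.normalizer (P : Set Ω)) (j : ℕ) :
    conjAut P y hy ^ j = conjAut P (y ^ j) (pow_mem hy j) :=
  (map_pow (Subgroup.normalizerMonoidHom P) ⟨y, hy⟩ j).symm

omit hS hF hE in
/-- The conjugation keeps `E` exactly when it normalises it. -/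
theorem map_bar_eq_iff {N : Subgroup Ω} [Finite N] (hEN : E ≤ N) {y : Ω}
    (hy : y ∈ Subgroup.normalizer (N : Set Ω)) :
    (E.subgroupOf N).map (conjAut N y hy).toMonoidHom = E.subgroupOf N ↔
      y ∈ Subgroup.normalizer (E : Set Ω) := by
  constructor
  · intro h
    have h1 : ∀ x ∈ E, y * x * y⁻¹ ∈ E := fun x hx => by
      have := h.le (Subgroup.mem_map_of_mem (conjAut N y hy).toMonoidHom
        (show (⟨x, hEN hx⟩ : N) ∈ E.subgroupOf N from hx))
      exact this
    rw [Subgroup.mem_normalizer_iff]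
    refine fun x => ⟨h1 x, fun hx => ?_⟩
    obtain ⟨w, hw, hwe⟩ := h.ge (show (⟨y * x * y⁻¹, hEN hx⟩ : N) ∈ E.subgroupOf N from hx)
    have h2 : y * (w : Ω) * y⁻¹ = y * x * y⁻¹ := congrArg Subtype.val hwe
    exact (mul_left_cancel (mul_right_cancel h2)) ▸ hw
  · intro h
    refine Subgroup.eq_of_le_of_card_ge ?_
      (Subgroup.card_map_of_injective (conjAut N y hy).injective).ge
    rintro _ ⟨x, hx, rfl⟩
    exact (Subgroup.mem_normalizer_iff.1 h _).1 hx

omit hF hE in
/-- An element normalising `N_S(E)` with an orbit of length `p` on `E`. -/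
theorem exists_orbit (hES : E ≤ S) (hne : normalizerIn S E ≠ S) : ∃ (y : Ω) (hy : y ∈ normalizerIn S (normalizerIn S E)),
    y ∉ normalizerIn S E ∧ y ^ p ∈ normalizerIn S E ∧
    (∀ j : ℕ, 0 < j → j < p → (E.subgroupOf (normalizerIn S E)).map
      (conjAut (normalizerIn S E) y hy.2 ^ j).toMonoidHom ≠ E.subgroupOf (normalizerIn S E)) ∧
    (E.subgroupOf (normalizerIn S E)).map
      (conjAut (normalizerIn S E) y hy.2 ^ p).toMonoidHom = E.subgroupOf (normalizerIn S E) := by
  classical
  haveI := finite_normalizerIn (S := S) E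
  obtain ⟨w, hw, hwN⟩ := SetLike.exists_of_lt
    (lt_normalizerIn hS (lt_of_le_of_ne (inf_le_left : normalizerIn S E ≤ S) hne))
  obtain ⟨k, hk⟩ := hS ⟨w, hw.1⟩
  have hk' : w ^ p ^ k ∈ normalizerIn S E := by
    have h : w ^ p ^ k = 1 := by simpa using congrArg Subtype.val hk
    rw [h]; exact one_mem _
  have hex : ∃ j, w ^ p ^ j ∈ normalizerIn S E := ⟨k, hk'⟩
  obtain ⟨j, hj⟩ : ∃ j, Nat.find hex = j + 1 := by
    refine Nat.exists_eq_succ_of_ne_zero fun h0 => hwN ?_
    have h := Nat.find_spec hex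
    rw [h0, pow_zero, pow_one] at h
    exact h
  have hyp : (w ^ p ^ j) ^ p ∈ normalizerIn S E := by
    rw [← pow_mul, ← pow_succ, ← hj]; exact Nat.find_spec hex
  have hy0 : w ^ p ^ j ∉ normalizerIn S E := Nat.find_min hex (by omega)
  refine ⟨w ^ p ^ j, pow_mem hw _, hy0, hyp, fun i hi hip h => hy0 ?_, ?_⟩
  · rw [map_conjAut_pow, map_bar_eq_iff (le_normalizerIn hES)] at h
    refine mem_of_zpow hyp (i := i) ?_ ?_
    · rw [Int.cast_natCast, Ne, ZMod.natCast_eq_zero_iff]
      exact fun hd => absurd (Nat.le_of_dvd hi hd) (by omega)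
    · rw [zpow_natCast]
      exact ⟨S.pow_mem (S.pow_mem hw.1 _) i, h⟩
  · rw [map_conjAut_pow, map_bar_eq_iff (le_normalizerIn hES)]
    exact hyp.2

end Cfsg.Agent.Lib.RankThreeEss69
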