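import Cfsg.Agent.Lib.RankThreeEss69.RegularFinal
import Cfsg.Agent.Lib.RankThreeEss69.Setup
import Cfsg.Agent.Lib.FusionOrderFive.Jordan

/-!
An essential subgroup with a block of size three is normal.
-/

set_option autoImplicit false
set_option linter.unusedSectionVars false

namespace Cfsg.Agent.Lib.RankThreeEss69

open Cfsg Cfsg.FusionSystem Cfsg.Agent.Lib.Fusion Cfsg.Agent.Lib.Fusion87 Cfsg.Agent.Lib.FusionOrderFive
  Cfsg.Agent.Lib.Fusion87.RankThree
open scoped commutatorElement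

universe u

/-- A normal non-trivial `p`-subgroup excludes strong embedding. -/
theorem false_of_normal_pgroup {G : Type*} [Group G] [Finite G] {p : ℕ} [Fact p.Prime] {H : Subgroup G}
    (hH : Cfsg.IsStronglyPEmbedded p H) {Q : Subgroup G} (hQn : Q.Normal) (hQ : IsPGroup p Q)
    (hQ1 : Q ≠ ⊥) : False := by
  haveI := hQn
  obtain ⟨P, hP⟩ := StronglyP.exists_sylow_le hH
  refine hH.2.1 (eq_top_iff.2 ?_)
  rw [← Subgroup.normalizer_eq_top (H := Q)]
  exact StronglyP.normalizer_le hH ((hQ.le_sylow_of_normal P).trans hP) hQ hQ1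

variable {Ω : Type u} [Group Ω] {S : Subgroup Ω} [Finite S] {F : FusionSystem S} {p : ℕ}
  [hp : Fact p.Prime]

theorem false_of_regular (h5 : 5 ≤ p) (hS : IsPGroup p S) (hsr : Cfsg.SectionalPRankLE p 3 S)
    (hF : F.IsSaturated p) {E : Subgroup Ω} (hE : F.IsEssential p E)
    (hrk : (frattini E).index = p ^ 3) (hne : normalizerIn S E ≠ S)
    (hreg : Regular p (E.subgroupOf (normalizerIn S E))) : False := by
  classical
  have hES := hE.1.1
  haveI := finite_of_le hES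
  haveI := finite_normalizerIn (S := S) E
  have hp2 : p ≠ 2 := by omega
  set N := normalizerIn S E with hN
  have hEN : E ≤ N := le_normalizerIn hES
  set Eb := E.subgroupOf N with hEb
  obtain ⟨y, hy, -, -, hmove, -⟩ := exists_orbit hS hES hne
  set σ := conjAut N y hy.2
  have m1 := hmove 1 one_pos hp.out.one_lt
  have m2 := hmove 2 two_pos (by omega)
  rw [pow_one] at m1
  rw [sq] at m2
  have hσσ : (Eb.map σ.toMonoidHom).map σ.toMonoidHom = Eb.map (σ * σ).toMonoidHom := by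
    rw [Subgroup.map_map]; rfl
  have hNS : N ≤ S := inf_le_left
  haveI : Finite N := finite_of_le hNS
  have iE : Idx p Eb := idx_bar hS hF hE hp2 hrk
  have h02 : Eb ≠ (Eb.map σ.toMonoidHom).map σ.toMonoidHom := fun h => m2 (h.trans hσσ).symm
  obtain ⟨r, e, hrE, heE, hd, hc, hm, hdec, hinv⟩ := regular_invariant (G := N) (hS.to_le hNS) h5
    (rank_le_of_le hsr hNS) iE hreg σ m1.symm h02
    (fun h => m1 (Subgroup.map_injective σ.injective h).symm)
  set ι := Subgroup.inclusion hEN with hι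
  have hιE : ∀ x : E, ι x ∈ Eb := fun x => x.2
  haveI := (idx_bar hS hF hE hp2 hrk).normal
  have hcE : ⁅r, e⁆ ∈ Eb := iE.comm_mem (hS.to_le hNS) r e
  have hdE : ⁅r, ⁅r, e⁆⁆ ∈ Eb := iE.comm_mem (hS.to_le hNS) _ _
  set eE : E := ⟨(e : Ω), heE⟩
  set cE : E := ⟨((⁅r, e⁆ : N) : Ω), hcE⟩
  set dE : E := ⟨((⁅r, ⁅r, e⁆⁆ : N) : Ω), hdE⟩
  have hιe : ι eE = e := Subtype.ext rfl
  have hιc : ι cE = ⁅r, e⁆ := Subtype.ext rfl
  have hιd : ι dE = ⁅r, ⁅r, e⁆⁆ := Subtype.ext rfl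
  have hPp := hS.to_le hES
  letI := quotCommGroup hPp
  have hexp := pow_quot hPp
  have hmem : ∀ x : E, x ∈ frattini E ↔ ι x ∈ fr p Eb := fun x => (mem_fr_bar hS hES x).symm
  set rn := (r : N).2.2
  set a := conjAut E (r : Ω) rn with ha
  have haS : a ∈ autInducedBy S E := mem_autInducedBy_normalizer.2 ⟨r, rn, r.2.1, rfl⟩
  have haι : ∀ x : E, ι (a x) = r * ι x * r⁻¹ := fun x => Subtype.ext rfl
  set x1 : E ⧸ frattini E := QuotientGroup.mk eE with hx1
  set x2 : E ⧸ frattini E := QuotientGroup.mk cE with hx2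
  set x3 : E ⧸ frattini E := QuotientGroup.mk dE with hx3
  have mk_eq : ∀ a b : E, (ι a)⁻¹ * ι b ∈ fr p Eb → (a : E ⧸ frattini E) = b := fun a b h =>
    QuotientGroup.eq.2 ((hmem _).2 (by rwa [map_mul, map_inv]))
  have h1 : quotHom E a x1 = x1 * x2 := by
    rw [hx1, quotHom_mk, hx2, mul_comm, ← QuotientGroup.mk_mul]
    refine mk_eq _ _ ?_
    rw [haι, map_mul, hιe, hιc, conj_eq_comm_mul, inv_mul_cancel]
    exact one_mem _
  have h2 : quotHom E a x2 = x2 * x3 := by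
    rw [hx2, quotHom_mk, hx3, mul_comm, ← QuotientGroup.mk_mul]
    refine mk_eq _ _ ?_
    rw [haι, map_mul, hιc, hιd, conj_eq_comm_mul, inv_mul_cancel]
    exact one_mem _
  have h3 : quotHom E a x3 = x3 := by
    rw [hx3, quotHom_mk]
    refine (mk_eq _ _ ?_).symm
    rw [haι, hιd, conj_eq_comm_mul]
    have h := Subgroup.Normal.conj_mem' (inferInstance : (fr p Eb).Normal) _ hm ⁅r, ⁅r, e⁆⁆
    simpa [mul_assoc] using h
  have h30 : x3 ≠ 1 := fun h => hd (by
    rw [← hιd]; exact (hmem _).1 ((QuotientGroup.eq_one_iff _).1 h))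
  have h23 : x2 ∉ Subgroup.zpowers x3 := fun h => hc (by
    obtain ⟨k, hk⟩ := Subgroup.mem_zpowers_iff.1 h
    rw [hx3, hx2, ← QuotientGroup.mk_zpow, QuotientGroup.eq] at hk
    have h' := (hmem _).1 hk
    rw [map_mul, map_inv, map_zpow, hιd, hιc] at h'
    have := mul_mem (Subgroup.mem_sup_right (Subgroup.zpow_mem _ (Subgroup.mem_zpowers _) k) :
      ⁅r, ⁅r, e⁆⁆ ^ k ∈ fr p Eb ⊔ Subgroup.zpowers ⁅r, ⁅r, e⁆⁆) (Subgroup.mem_sup_left h')
    rwa [mul_inv_cancel_left] at this)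
  have hgen : ∀ v : E ⧸ frattini E, ∃ i j k : ℤ, v = x1 ^ i * x2 ^ j * x3 ^ k := by
    intro v
    induction v using QuotientGroup.induction_on with
    | _ x =>
    obtain ⟨f, hf, k, j, i, hx⟩ := hdec (ι x) (hιE x)
    refine ⟨i, j, k, ?_⟩
    have hfE : f ∈ Eb := fr_le hf
    have e0 : x = (⟨(f : Ω), hfE⟩ : E) * dE ^ k * cE ^ j * eE ^ i := by
      apply Subgroup.inclusion_injective hEN
      rw [← hι, map_mul, map_mul, map_mul, map_zpow, map_zpow, map_zpow, hιd, hιc, hιe, hx]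
      rfl
    have hf0 : ((⟨(f : Ω), hfE⟩ : E) : E ⧸ frattini E) = 1 :=
      (QuotientGroup.eq_one_iff _).2 ((hmem _).2 (by rw [show ι ⟨(f : Ω), hfE⟩ = f from Subtype.ext rfl]; exact hf))
    rw [e0, QuotientGroup.mk_mul, QuotientGroup.mk_mul, QuotientGroup.mk_mul, hf0, one_mul,
      QuotientGroup.mk_zpow, QuotientGroup.mk_zpow, QuotientGroup.mk_zpow, ← hx1, ← hx2, ← hx3]
    rw [mul_comm (x3 ^ k * x2 ^ j), mul_comm (x3 ^ k), mul_assoc]
  set A := (F.autGroup E).map (quotHom E) with hA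
  have hA' : ∀ a ∈ A, ∀ b ∈ A, a ^ p = 1 → b ^ p = 1 → Commute a b → a ≠ 1 → b ∈ Subgroup.zpowers a :=
    fun a ha b hb => mem_zpowers_of_commute hS hF hE hp2 (Or.inr hrk) ha hb
  have haA : quotHom E a ∈ A := Subgroup.mem_map_of_mem _ (autInducedBy_le_autGroup hES haS)
  have hL : ∀ g ∈ A, g x3 ∈ Subgroup.zpowers x3 := by
    rintro _ ⟨α, -, rfl⟩
    set eqv := (Subgroup.subgroupOfEquivOfLe hEN).symm
    have h := hinv (MulAut.congr eqv α) (eqv dE) (by
      show ι dE ∈ _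
      rw [hιd]; exact Subgroup.mem_sup_right (Subgroup.mem_zpowers _))
    have h' : ι (α dE) ∈ fr p Eb ⊔ Subgroup.zpowers ⁅r, ⁅r, e⁆⁆ := by
      have e1 : MulAut.congr eqv α (eqv dE) = eqv (α dE) := by
        show eqv (α (eqv.symm (eqv dE))) = _
        rw [MulEquiv.symm_apply_apply]
      rw [e1] at h
      exact h
    obtain ⟨f, hf, k, hk⟩ := exists_of_mem_sup h'
    refine Subgroup.mem_zpowers_iff.2 ⟨k, ?_⟩
    rw [hx3, quotHom_mk, ← QuotientGroup.mk_zpow]
    refine mk_eq _ _ ?_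
    rw [map_zpow, hιd, hk]
    exact Subgroup.Normal.conj_mem' inferInstance _ hf _ |> fun h => by simpa [mul_assoc] using h
  have h3card : Nat.card (E ⧸ frattini E) = p ^ 3 := by rw [← Subgroup.index_eq_card, hrk]
  have hab := comm_quot hPp
  have hdisp : ∀ v, disp (quotHom E a) v ∈ Subgroup.zpowers x2 ⊔ Subgroup.zpowers x3 := by
    intro v
    obtain ⟨i, j, k, rfl⟩ := hgen v
    rw [disp_mul hab, disp_mul hab, disp_zpow hab, disp_zpow hab, disp_zpow hab]
    have e1 : disp (quotHom E a) x1 = x2 := by rw [disp, h1, mul_right_comm, mul_inv_cancel, one_mul]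
    have e2 : disp (quotHom E a) x2 = x3 := by rw [disp, h2, mul_right_comm, mul_inv_cancel, one_mul]
    rw [e1, e2, disp_eq_one.2 h3, one_zpow, mul_one]
    exact mul_mem (Subgroup.mem_sup_left (Subgroup.zpow_mem _ (Subgroup.mem_zpowers _) _))
      (Subgroup.mem_sup_right (Subgroup.zpow_mem _ (Subgroup.mem_zpowers _) _))
  have haSt : quotHom E a ∈ seriesStab hab x2 x3 :=
    ⟨h3, by rw [disp, h2, mul_right_comm, mul_inv_cancel, one_mul]; exact Subgroup.mem_zpowers _, hdisp⟩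
  have hap : quotHom E a ^ p = 1 := seriesStab_pow hab h3card hexp hp2 haSt
  have ha1 : quotHom E a ≠ 1 := fun h => h30 (by
    have := h2; rw [h] at this; simpa using this.symm)
  have hplane : ∀ g ∈ A, ∀ w ∈ Subgroup.zpowers x2 ⊔ Subgroup.zpowers x3,
      g w ∈ Subgroup.zpowers x2 ⊔ Subgroup.zpowers x3 := by
    intro g hg w hw
    have hle : (Subgroup.zpowers x2 ⊔ Subgroup.zpowers x3).map g.toMonoidHom ≤
        Subgroup.zpowers x2 ⊔ Subgroup.zpowers x3 := by
      rw [Subgroup.map_sup, MonoidHom.map_zpowers, MonoidHom.map_zpowers]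
      refine sup_le (Subgroup.zpowers_le.2 ?_) (Subgroup.zpowers_le.2 (Subgroup.mem_sup_right (hL g hg)))
      obtain ⟨j, k, hjk⟩ := preserve_of_jordan hp2 hexp hA' haA hap h1 h2 h3 h23 h30 hgen hL hg
      show g x2 ∈ _
      rw [hjk]
      exact mul_mem (Subgroup.mem_sup_left (Subgroup.zpow_mem _ (Subgroup.mem_zpowers _) _))
        (Subgroup.mem_sup_right (Subgroup.zpow_mem _ (Subgroup.mem_zpowers _) _))
    exact hle (Subgroup.mem_map_of_mem _ hw)
  set Q := (seriesStab hab x2 x3).subgroupOf A with hQ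
  have hQn : Q.Normal := by
    refine ⟨fun s hs g => ?_⟩
    obtain ⟨s1, s2, s3⟩ := hs
    have hd' : ∀ v, disp ((g : MulAut (E ⧸ frattini E)) * (s : MulAut (E ⧸ frattini E)) * (g : MulAut (E ⧸ frattini E))⁻¹) v =
        (g : MulAut (E ⧸ frattini E)) (disp (s : MulAut (E ⧸ frattini E)) ((g : MulAut (E ⧸ frattini E))⁻¹ v)) := fun v => by
      simp [disp, MulAut.mul_apply]
    have hfix : ∀ w ∈ Subgroup.zpowers x3, (s : MulAut (E ⧸ frattini E)) w = w := fun w hw => by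
      obtain ⟨k, rfl⟩ := Subgroup.mem_zpowers_iff.1 hw
      rw [map_zpow]; exact congrArg (· ^ k) s1
    refine ⟨?_, ?_, fun v => ?_⟩
    · show (g : MulAut (E ⧸ frattini E)) ((s : MulAut (E ⧸ frattini E)) ((g : MulAut (E ⧸ frattini E))⁻¹ x3)) = x3
      rw [hfix _ (hL _ (A.inv_mem g.2)), MulAut.apply_inv_self]
    · show disp ((g : MulAut (E ⧸ frattini E)) * (s : MulAut (E ⧸ frattini E)) * (g : MulAut (E ⧸ frattini E))⁻¹) x2 ∈ _
      rw [hd']
      obtain ⟨j, k, hjk⟩ := preserve_of_jordan hp2 hexp hA' haA hap h1 h2 h3 h23 h30 hgen hL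
        (A.inv_mem g.2)
      rw [show ((g : MulAut (E ⧸ frattini E)))⁻¹ x2 = x2 ^ j * x3 ^ k from hjk, disp_mul hab,
        disp_zpow hab, disp_zpow hab, disp_eq_one.2 (hfix x3 (Subgroup.mem_zpowers x3)),
        one_zpow, mul_one]
      obtain ⟨i, hi⟩ := Subgroup.mem_zpowers_iff.1 s2
      rw [show disp (s : MulAut (E ⧸ frattini E)) x2 = x3 ^ i from hi.symm, map_zpow, map_zpow]
      exact Subgroup.zpow_mem _ (Subgroup.zpow_mem _ (hL g g.2) i) j
    · show disp ((g : MulAut (E ⧸ frattini E)) * (s : MulAut (E ⧸ frattini E)) * (g : MulAut (E ⧸ frattini E))⁻¹) v ∈ _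
      rw [hd']
      exact hplane g g.2 _ (s3 _)
  have hQp : IsPGroup p Q := fun s => ⟨1, by
    rw [pow_one]
    exact Subtype.ext (Subtype.ext (seriesStab_pow hab h3card hexp hp2 s.2))⟩
  haveI : Finite (MulAut (E ⧸ frattini E)) := Finite.of_injective
    (fun a : MulAut (E ⧸ frattini E) => (a : E ⧸ frattini E → E ⧸ frattini E)) DFunLike.coe_injective
  obtain ⟨H, hH⟩ := exists_stronglyP_quot hS hF hE
  refine false_of_normal_pgroup hH hQn hQp fun hbot => ha1 ?_
  have : (⟨quotHom E a, haA⟩ : A) ∈ Q := haSt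
  rw [hbot, Subgroup.mem_bot] at this
  exact congrArg Subtype.val this

end Cfsg.Agent.Lib.RankThreeEss69
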