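import Cfsg.Agent.Lib.RankThreeEss69.TData

/-!
Weights one step above the normaliser.
-/

set_option autoImplicit false
set_option linter.unusedSectionVars false

namespace Cfsg.Agent.Lib.RankThreeEss69

open Subgroup
open scoped commutatorElement

variable {H : Type*} [Group H] {p : ℕ}

/-- The group `N₂ = N⟨y⟩` with the layers `F < F⟨z⟩ < W₀ < W₀⟨r⟩ < N`. -/
structure UpData (p : ℕ) (F N : Subgroup H) (γ : MulAut H) (n m a : ℤ) (z e v r y : H) : Prop where
  Fn : F.Normal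
  Nn : N.Normal
  Φn : (F ⊔ zpowers z).Normal
  Wn : (F ⊔ zpowers z ⊔ zpowers v).Normal
  FN : F ≤ N
  zN : z ∈ N
  eN : e ∈ N
  vN : v ∈ N
  rN : r ∈ N
  gen : N ≤ F ⊔ zpowers z ⊔ zpowers v ⊔ zpowers r ⊔ zpowers e
  top : (⊤ : Subgroup H) = N ⊔ zpowers y
  yN : y ∉ N
  ypN : y ^ p ∈ N
  zc : ∀ x ∈ N, ⁅z, x⁆ ∈ F
  vc : ∀ x ∈ N, ⁅v, x⁆ ∈ F
  expN : ∀ x ∈ N, x ^ p ∈ F
  zeq : z = ⁅r, e⁆
  zF : z ∉ F
  vΦ : v ∉ F ⊔ zpowers z
  rW : r ∉ F ⊔ zpowers z ⊔ zpowers v
  yz : ⁅y, z⁆ ∈ F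
  yv : ⁅y, v⁆ ∈ F ⊔ zpowers z
  yr : ⁅y, r⁆ ∈ F ⊔ zpowers z ⊔ zpowers v
  ye : (r ^ a)⁻¹ * ⁅y, e⁆ ∈ F ⊔ zpowers z ⊔ zpowers v
  a0 : (a : ZMod p) ≠ 0
  gF : F.map γ.toMonoidHom ≤ F
  gN : N.map γ.toMonoidHom ≤ N
  nm : ((n * m : ℤ) : ZMod p) = 1
  n1 : (n : ZMod p) ≠ 1
  n2 : (n : ZMod p) ^ 2 ≠ 1
  n3 : (n : ZMod p) ^ 3 ≠ 1
  n5 : (n : ZMod p) ^ 5 ≠ 1
  gz : (z ^ n)⁻¹ * γ z ∈ F
  ge : (e ^ m)⁻¹ * γ e ∈ F
  gv : v⁻¹ * γ v ∈ F
  gr : (r ^ (n * n))⁻¹ * γ r ∈ F ⊔ zpowers z

theorem comm_mul_left_of {x u y : H} (h : Commute u y) : ⁅x * u, y⁆ = ⁅x, y⁆ := by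
  rw [commutatorElement_def, commutatorElement_def, mul_inv_rev]
  calc x * u * y * (u⁻¹ * x⁻¹) * y⁻¹ = x * (u * y * u⁻¹) * x⁻¹ * y⁻¹ := by group
    _ = x * y * x⁻¹ * y⁻¹ := by rw [h.eq, mul_inv_cancel_right]

theorem comm_zpow_zpow {x y : H} (hx : Commute x ⁅x, y⁆) (hy : Commute y ⁅x, y⁆) (i j : ℤ) :
    ⁅x ^ i, y ^ j⁆ = ⁅x, y⁆ ^ (i * j) := by
  have key : ∀ {x y : H}, Commute x ⁅x, y⁆ → ∀ i : ℤ, ⁅x ^ i, y⁆ = ⁅x, y⁆ ^ i := by
    intro x y hx i
    have e : y * x⁻¹ * y⁻¹ = x⁻¹ * ⁅x, y⁆ := by rw [commutatorElement_def]; group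
    have e2 : y * x ^ (-i) * y⁻¹ = x ^ (-i) * ⁅x, y⁆ ^ i := by
      rw [show x ^ (-i) = (x⁻¹) ^ i by rw [inv_zpow, zpow_neg], ← conj_zpow, e, hx.inv_left.mul_zpow]
    calc ⁅x ^ i, y⁆ = x ^ i * (y * x ^ (-i) * y⁻¹) := by rw [commutatorElement_def, zpow_neg]; group
      _ = ⁅x, y⁆ ^ i := by rw [e2, ← mul_assoc, ← zpow_add, add_neg_cancel, zpow_zero, one_mul]
  have h1 : ⁅y ^ j, x⁆ = ⁅y, x⁆ ^ j := key (by rw [← commutatorElement_inv]; exact hy.inv_right) j
  have h2 : ⁅x, y ^ j⁆ = ⁅x, y⁆ ^ j := by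
    rw [← commutatorElement_inv, h1, ← inv_zpow, commutatorElement_inv]
  rw [key (by rw [h2]; exact hx.zpow_right j), h2, ← zpow_mul, mul_comm]

theorem zpow_eq_zero_iff' [hp : Fact p.Prime] {K : Subgroup H} [K.Normal] {x : H} (hx : x ^ p ∈ K)
    (hxK : x ∉ K) {i j : ℤ} (h : QuotientGroup.mk' K x ^ i = QuotientGroup.mk' K x ^ j) :
    (i : ZMod p) = j := by
  rw [← sub_eq_zero, ← Int.cast_sub]
  refine cast_zero_of_zpow (x := QuotientGroup.mk' K x) (by rw [← map_pow]; exact mk'_eq_one.2 hx)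
    (fun h1 => hxK (mk'_eq_one.1 h1)) ?_
  rw [zpow_sub, h, mul_inv_cancel]

theorem UpData.false [hp : Fact p.Prime] [Finite H] {F N : Subgroup H} {γ : MulAut H} {n m a : ℤ}
    {z e v r y : H} (U : UpData p F N γ n m a z e v r y) (hH : IsPGroup p H) (h5 : 5 ≤ p)
    (hr : Cfsg.SectionalPRankLE p 3 H) : False := by
  haveI := U.Fn
  haveI := U.Nn
  haveI := U.Φn
  haveI := U.Wn
  set W := F ⊔ zpowers z ⊔ zpowers v with hW
  set Φ := F ⊔ zpowers z with hΦ
  have hΦN : Φ ≤ N := sup_le U.FN (zpowers_le.2 U.zN)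
  have hWN : W ≤ N := sup_le hΦN (zpowers_le.2 U.vN)
  have hΦW : Φ ≤ W := le_sup_left
  have hzΦ : z ∈ Φ := mem_sup_right (mem_zpowers z)
  have hnm : (n : ZMod p) * (m : ZMod p) = 1 := by simpa using U.nm
  obtain ⟨u, hu, k, hγy⟩ : ∃ u ∈ N, ∃ k : ℤ, γ y = y ^ k * u := by
    obtain ⟨w, hw, i, hi⟩ := exists_of_mem_sup (U.top.le (mem_top (γ y)))
    refine ⟨(y ^ i)⁻¹ * w * y ^ i, ?_, i, by rw [hi]; group⟩
    simpa using U.Nn.conj_mem w hw (y ^ i)⁻¹
  obtain ⟨wz, hwz, hγz⟩ : ∃ w ∈ F, γ z = z ^ n * w := ⟨_, U.gz, (mul_inv_cancel_left _ _).symm⟩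
  obtain ⟨we, hwe, hγe⟩ : ∃ w ∈ F, γ e = e ^ m * w := ⟨_, U.ge, (mul_inv_cancel_left _ _).symm⟩
  obtain ⟨wv, hwv, hγv⟩ : ∃ w ∈ F, γ v = v * w := ⟨_, U.gv, (mul_inv_cancel_left _ _).symm⟩
  obtain ⟨wr, hwr, hγr⟩ : ∃ w ∈ Φ, γ r = r ^ (n * n) * w := ⟨_, U.gr, (mul_inv_cancel_left _ _).symm⟩
  have hgΦ : Φ.map γ.toMonoidHom ≤ Φ := by
    rw [hΦ, Subgroup.map_sup, MonoidHom.map_zpowers]
    refine sup_le (U.gF.trans le_sup_left) (zpowers_le.2 ?_)
    show γ z ∈ _
    rw [hγz]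
    exact mul_mem (mem_sup_right (zpow_mem (mem_zpowers z) n)) (mem_sup_left hwz)
  have hgW : W.map γ.toMonoidHom ≤ W := by
    rw [hW, Subgroup.map_sup, MonoidHom.map_zpowers]
    refine sup_le (hgΦ.trans le_sup_left) (zpowers_le.2 ?_)
    show γ v ∈ _
    rw [hγv]
    exact mul_mem (mem_sup_right (mem_zpowers v)) (mem_sup_left (mem_sup_left hwv))
  -- weight of `y`
  have hk : (k : ZMod p) = (n : ZMod p) ^ 3 := by
    set π := QuotientGroup.mk' W with hπ
    have hrc : ∀ g : H, ⁅r, g⁆ ∈ W := by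
      have key : ∀ g, ⁅r, g⁆ ∈ W ↔ g ∈ (centralizer ({π r} : Set (H ⧸ W))).comap π := fun g => by
        rw [comm_mem_iff, mem_comap, mem_centralizer_singleton_iff]
        exact ⟨fun h => h.eq.symm, fun h => h.symm⟩
      intro g
      rw [key]
      refine (?_ : (⊤ : Subgroup H) ≤ _) (mem_top g)
      rw [U.top]
      refine sup_le (U.gen.trans (sup_le (sup_le ?_ (zpowers_le.2 ((key _).1
        (by rw [commutatorElement_self]; exact one_mem _)))) (zpowers_le.2 ((key _).1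
        (hΦW (by rw [← U.zeq]; exact hzΦ)))))) (zpowers_le.2 ((key _).1 (by
          rw [← commutatorElement_inv]; exact inv_mem U.yr)))
      intro w hw
      rw [← key, ← commutatorElement_inv]
      exact inv_mem (commutator_le_left W ⊤ (commutator_mem_commutator hw (mem_top r)))
    have hye : π ⁅y, e⁆ = π r ^ a := by
      have h : π ((r ^ a)⁻¹ * ⁅y, e⁆) = 1 := mk'_eq_one.2 U.ye
      rw [map_mul, map_inv, map_zpow, inv_mul_eq_one] at h
      exact h.symm
    have hcen : ∀ g, Commute (π g) ⁅π y, π e⁆ := fun g => by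
      rw [← map_commutatorElement, hye]
      exact (commute_mk' (hrc g)).symm.zpow_right a
    have hue : Commute (π u) (π e ^ m) := by
      refine Commute.zpow_right ?_ m
      -- `N` is abelian modulo `W`
      refine commute_mk' (comm_mem_of_gen (K := W) (s := {r, e}) ?_ ?_ ?_)
      · rintro a' (rfl | rfl) b' (rfl | rfl)
        all_goals first
          | (rw [commutatorElement_self]; exact one_mem _)
          | exact hrc _
          | (rw [← commutatorElement_inv]; exact inv_mem (hrc _))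
      · refine (U.gen.trans (sup_le (sup_le le_sup_left ?_) ?_)) hu
        all_goals exact (zpowers_le.2 (subset_closure (by simp))).trans le_sup_right
      · exact mem_sup_right (subset_closure (by simp))
    have h1 : π (γ ⁅y, e⁆) = π r ^ (a * (k * m)) := by
      rw [map_commutatorElement, hγy, hγe, map_commutatorElement, map_mul, map_mul, map_zpow, map_zpow,
        show π we = 1 from mk'_eq_one.2 (mem_sup_left (mem_sup_left hwe)), mul_one, comm_mul_left_of hue,
        comm_zpow_zpow (hcen y) (hcen e), ← map_commutatorElement, hye, ← zpow_mul]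
    have h2 : π (γ ⁅y, e⁆) = π r ^ (n * n * a) := by
      obtain ⟨w, hw, hwy⟩ : ∃ w ∈ W, ⁅y, e⁆ = r ^ a * w := ⟨_, U.ye, (mul_inv_cancel_left _ _).symm⟩
      rw [hwy, map_mul γ, map_zpow γ, hγr, map_mul,
        show π (γ w) = 1 from mk'_eq_one.2 (hgW (mem_map_of_mem _ hw)), mul_one, map_zpow, map_mul,
        show π wr = 1 from mk'_eq_one.2 (hΦW hwr), mul_one, map_zpow, ← zpow_mul]
    have h3 := zpow_eq_zero_iff' (K := W) (mem_sup_left (mem_sup_left (U.expN r U.rN))) U.rW (h1.symm.trans h2)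
    push_cast at h3
    have h4 : (a : ZMod p) * ((k : ZMod p) * m - n * n) = 0 := by linear_combination h3
    have h6 := (mul_eq_zero.1 h4).resolve_left U.a0
    linear_combination (n : ZMod p) * h6 - (k : ZMod p) * hnm
  have hkn : (k : ZMod p) - n ≠ 0 := by
    rw [hk]
    intro h
    have : (n : ZMod p) * ((n : ZMod p) ^ 2 - 1) = 0 := by linear_combination h
    rcases mul_eq_zero.1 this with h0 | h0
    · rw [h0, zero_mul] at hnm; exact zero_ne_one hnm
    · exact U.n2 (sub_eq_zero.1 h0)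
  have hk1 : (k : ZMod p) - 1 ≠ 0 := by rw [hk]; exact sub_ne_zero.2 U.n3
  set π := QuotientGroup.mk' F with hπ
  have hπc : ∀ x ∈ F, π x = 1 := fun x hx => mk'_eq_one.2 hx
  -- `z` is central
  have hzall : ∀ g : H, ⁅z, g⁆ ∈ F := fun g => by
    obtain ⟨w, hw, j, rfl⟩ := exists_of_mem_sup (U.top.le (mem_top g))
    rw [comm_mem_iff, map_mul, map_zpow]
    exact (commute_mk' (U.zc w hw)).mul_right ((commute_mk' U.yz).symm.zpow_right j)
  have hyv : ⁅y, v⁆ ∈ F := by
    obtain ⟨f, hf, b, hb⟩ := exists_of_mem_sup U.yv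
    have hyv' : π ⁅y, v⁆ = π z ^ b := by rw [hb, map_mul, hπc f hf, one_mul, map_zpow]
    have hcen : ∀ g, Commute (π g) ⁅π y, π v⁆ := fun g => by
      rw [← map_commutatorElement, hyv']
      exact (commute_mk' (hzall g)).symm.zpow_right b
    have h1 : π (γ ⁅y, v⁆) = π z ^ (b * k) := by
      rw [map_commutatorElement, hγy, hγv, map_commutatorElement, map_mul, map_mul, map_zpow,
        hπc wv hwv, mul_one, comm_mul_left_of (commute_mk' (U.vc u hu)).symm]
      nth_rw 1 [← zpow_one (π v)]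
      rw [comm_zpow_zpow (hcen y) (hcen v), ← map_commutatorElement, hyv', ← zpow_mul, mul_one]
    have h2 : π (γ ⁅y, v⁆) = π z ^ (n * b) := by
      rw [hb, map_mul γ, map_zpow γ, hγz, map_mul, hπc (γ f) (U.gF (mem_map_of_mem _ hf)), one_mul,
        map_zpow, map_mul, hπc wz hwz, mul_one, map_zpow, ← zpow_mul]
    have h3 := zpow_eq_zero_iff' (K := F) (U.expN z U.zN) U.zF (h1.symm.trans h2)
    push_cast at h3
    have hb0 : (b : ZMod p) = 0 :=
      (mul_eq_zero.1 (show ((k : ZMod p) - n) * b = 0 by linear_combination h3)).resolve_left hkn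
    rw [hb]
    exact mul_mem hf (zpow_mem_congr (U.expN z U.zN) (i := 0) (by rw [hb0, Int.cast_zero])
      (by rw [zpow_zero]; exact one_mem _))
  have hvall : ∀ g : H, ⁅v, g⁆ ∈ F := fun g => by
    obtain ⟨w, hw, j, rfl⟩ := exists_of_mem_sup (U.top.le (mem_top g))
    rw [comm_mem_iff, map_mul, map_zpow]
    exact (commute_mk' (U.vc w hw)).mul_right ((commute_mk' hyv).symm.zpow_right j)
  have hWc : ∀ x ∈ W, ∀ g, ⁅x, g⁆ ∈ F := fun x hx g => by
    obtain ⟨w, hw, j, rfl⟩ := exists_of_mem_sup hx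
    obtain ⟨f, hf, i, rfl⟩ := exists_of_mem_sup hw
    rw [comm_mem_iff, map_mul, map_mul, map_zpow, map_zpow, hπc f hf, one_mul]
    exact ((commute_mk' (hzall g)).zpow_left i).mul_left ((commute_mk' (hvall g)).zpow_left j)
  obtain ⟨t, hyr⟩ : ∃ t : ℤ, π ⁅y, r⁆ = π z ^ t := by
    obtain ⟨x, hx, c, hc⟩ := exists_of_mem_sup U.yr
    set πΦ := QuotientGroup.mk' Φ with hπΦ
    have hyr' : πΦ ⁅y, r⁆ = πΦ v ^ c := by
      rw [hc, map_mul, show πΦ x = 1 from mk'_eq_one.2 hx, one_mul, map_zpow]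
    have hcen : ∀ g, Commute (πΦ g) ⁅πΦ y, πΦ r⁆ := fun g => by
      rw [← map_commutatorElement, hyr']
      exact (commute_mk' (mem_sup_left (hvall g))).symm.zpow_right c
    have hur : Commute (πΦ u) (πΦ r ^ (n * n)) := by
      refine Commute.zpow_right ?_ _
      refine commute_mk' (comm_mem_of_gen (K := Φ) (s := {v, e, r}) ?_ ?_ ?_)
      · have h1 : ⁅r, e⁆ ∈ Φ := by rw [← U.zeq]; exact hzΦ
        have h2 : ∀ g, ⁅v, g⁆ ∈ Φ := fun g => mem_sup_left (hvall g)
        rintro a' (rfl | rfl | rfl) b' (rfl | rfl | rfl)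
        all_goals first
          | (rw [commutatorElement_self]; exact one_mem _)
          | exact h2 _
          | exact h1
          | (rw [← commutatorElement_inv]; exact inv_mem h1)
          | (rw [← commutatorElement_inv]; exact inv_mem (h2 _))
      · refine (U.gen.trans (sup_le (sup_le (sup_le le_sup_left ?_) ?_) ?_)) hu
        all_goals exact (zpowers_le.2 (subset_closure (by simp))).trans le_sup_right
      · exact mem_sup_right (subset_closure (by simp))
    have h1 : πΦ (γ ⁅y, r⁆) = πΦ v ^ (c * (k * (n * n))) := by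
      rw [map_commutatorElement, hγy, hγr, map_commutatorElement, map_mul, map_mul, map_zpow, map_zpow,
        show πΦ wr = 1 from mk'_eq_one.2 hwr, mul_one, comm_mul_left_of hur,
        comm_zpow_zpow (hcen y) (hcen r), ← map_commutatorElement, hyr', ← zpow_mul]
    have h2 : πΦ (γ ⁅y, r⁆) = πΦ v ^ c := by
      rw [hc, map_mul γ, map_zpow γ, hγv, map_mul,
        show πΦ (γ x) = 1 from mk'_eq_one.2 (hgΦ (mem_map_of_mem _ hx)), one_mul, map_zpow, map_mul,
        show πΦ wv = 1 from mk'_eq_one.2 (mem_sup_left hwv), mul_one]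
    have h3 := zpow_eq_zero_iff' (K := Φ) (mem_sup_left (U.expN v U.vN)) U.vΦ (h1.symm.trans h2)
    push_cast at h3
    rw [hk] at h3
    have hc0 : (c : ZMod p) = 0 := (mul_eq_zero.1
      (show ((n : ZMod p) ^ 5 - 1) * c = 0 by linear_combination h3)).resolve_left (sub_ne_zero.2 U.n5)
    obtain ⟨f, hf, i, hfi⟩ := exists_of_mem_sup hx
    refine ⟨i, ?_⟩
    rw [hc, hfi, map_mul, map_mul, hπc f hf, one_mul, map_zpow, map_zpow,
      zpow_congr_mod (show π v ^ p = 1 by rw [← map_pow]; exact hπc _ (U.expN v U.vN))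
        (show (c : ZMod p) = ((0 : ℤ) : ZMod p) by rw [hc0, Int.cast_zero]), zpow_zero, mul_one]
  -- the corrected element
  set y' := y * e ^ t with hy'
  have hy'N : y' ∉ N := fun h => U.yN (by simpa [hy'] using N.mul_mem h (N.inv_mem (N.zpow_mem U.eN t)))
  have hre : ⁅π r, π e⁆ = π z := by rw [← map_commutatorElement, ← U.zeq]
  have hZc : ∀ g, Commute (π z) (π g) := fun g => commute_mk' (hzall g)
  have hy'r : Commute (π y') (π r) := by
    rw [← commutatorElement_eq_one_iff_commute, hy', map_mul, map_zpow,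
      show ⁅π y * π e ^ t, π r⁆ = π y * ⁅π e ^ t, π r⁆ * (π y)⁻¹ * ⁅π y, π r⁆ by
        simp only [commutatorElement_def]; group,
      ← map_commutatorElement π y r, hyr]
    have h2 : Commute (π e) ⁅π e, π r⁆ := by
      rw [← commutatorElement_inv, hre]; exact (hZc e).inv_left.symm
    have h3 : Commute (π r) ⁅π e, π r⁆ := by
      rw [← commutatorElement_inv, hre]; exact (hZc r).inv_left.symm
    have h4 := comm_zpow_zpow h2 h3 t 1
    rw [zpow_one, mul_one] at h4
    rw [h4, ← commutatorElement_inv, hre, inv_zpow, ((hZc y).zpow_left t).inv_left.symm.eq,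
      mul_inv_cancel_right, inv_mul_cancel]
  set R := W ⊔ zpowers r with hR
  have hRN : R ≤ N := sup_le hWN (zpowers_le.2 U.rN)
  have hrW : ∀ g : H, ⁅r, g⁆ ∈ W := by
    have hw : ∀ w ∈ N, ⁅r, w⁆ ∈ W := fun w hw => by
      refine comm_mem_of_gen (K := W) (s := {r, e}) ?_ (mem_sup_right (subset_closure (by simp))) ?_
      · have h1 : ⁅r, e⁆ ∈ W := by rw [← U.zeq]; exact hΦW hzΦ
        rintro a' (rfl | rfl) b' (rfl | rfl)
        all_goals first
          | (rw [commutatorElement_self]; exact one_mem _)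
          | exact h1
          | (rw [← commutatorElement_inv]; exact inv_mem h1)
      · refine (U.gen.trans (sup_le (sup_le le_sup_left ?_) ?_)) hw
        all_goals exact (zpowers_le.2 (subset_closure (by simp))).trans le_sup_right
    intro g
    obtain ⟨w, hwN, j, rfl⟩ := exists_of_mem_sup (U.top.le (mem_top g))
    rw [comm_mem_iff, map_mul, map_zpow]
    exact (commute_mk' (hw w hwN)).mul_right ((commute_mk' U.yr).symm.zpow_right j)
  haveI : R.Normal := sup_zpowers_normal hrW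
  have hder : ⁅(⊤ : Subgroup H), (⊤ : Subgroup H)⁆ ≤ R := by
    refine commutator_le.2 fun g _ g' _ => ?_
    have hmem : ∀ x : H, x ∈ R ⊔ closure {e, y} := fun x => by
      refine (?_ : (⊤ : Subgroup H) ≤ _) (mem_top x)
      rw [U.top]
      refine sup_le (U.gen.trans (sup_le le_sup_left ?_)) ?_
      all_goals exact (zpowers_le.2 (subset_closure (by simp))).trans le_sup_right
    refine comm_mem_of_gen ?_ (hmem g) (hmem g')
    have h1 : ⁅y, e⁆ ∈ R := by
      have := mul_mem (mem_sup_right (zpow_mem (mem_zpowers r) a) : r ^ a ∈ R) (mem_sup_left U.ye)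
      rwa [mul_inv_cancel_left] at this
    rintro a' (rfl | rfl) b' (rfl | rfl)
    all_goals first
      | (rw [commutatorElement_self]; exact one_mem _)
      | exact h1
      | (rw [← commutatorElement_inv]; exact inv_mem h1)
  have hom : ∀ a b : H, (π a * π b) ^ p = π a ^ p * π b ^ p := fun a b =>
    mul_pow_class3 h5 (Z1 := W) (Z2 := R) (commutator_le.2 fun x hx g _ => hWc x hx g)
      (commutator_le.2 fun x hx g _ => by
        obtain ⟨w, hw, j, rfl⟩ := exists_of_mem_sup hx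
        rw [comm_mem_iff, map_mul, map_zpow]
        exact (commute_mk' ((commutator_le_left W ⊤) (commutator_mem_commutator hw (mem_top g)))).mul_left
          ((commute_mk' (hrW g)).zpow_left j))
      hder (fun x hx => U.expN x (hRN hx)) a b
  have hexp : ∀ x ∈ N, π x ^ p = 1 := fun x hx => by rw [← map_pow]; exact hπc _ (U.expN x hx)
  obtain ⟨x, hx, hxy⟩ : ∃ x ∈ N, π y' ^ p = π x := by
    refine ⟨y ^ p * (e ^ t) ^ p, N.mul_mem U.ypN (N.pow_mem (N.zpow_mem U.eN t) p), ?_⟩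
    rw [hy', map_mul, hom, map_mul π (y ^ p), map_pow, map_pow]
  -- it is central in `N` and has two weights
  have hxr : Commute (π x) (π r) := hxy ▸ hy'r.pow_left p
  have hxe : Commute (π x) (π e) := by
    rw [← hxy]
    have hy'R : ∀ w ∈ R, Commute (π y') (π w) := fun w hw => by
      obtain ⟨w', hw', j, rfl⟩ := exists_of_mem_sup hw
      rw [map_mul, map_zpow]
      exact (commute_mk' (hWc w' hw' y')).symm.mul_right (hy'r.zpow_right j)
    obtain ⟨ρ, hρ, hρy⟩ : ∃ ρ ∈ R, π y' * π e * (π y')⁻¹ = π ρ * π e :=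
      ⟨⁅y', e⁆, hder (commutator_mem_commutator (mem_top _) (mem_top _)), by
        rw [← map_inv, ← map_mul, ← map_mul, ← map_mul, conj_eq_comm_mul]⟩
    have hit : ∀ j : ℕ, π y' ^ j * π e * (π y' ^ j)⁻¹ = π ρ ^ j * π e := by
      intro j
      induction j with
      | zero => simp
      | succ j ih =>
        rw [pow_succ', show π y' * π y' ^ j * π e * (π y' * π y' ^ j)⁻¹ =
          π y' * (π y' ^ j * π e * (π y' ^ j)⁻¹) * (π y')⁻¹ by group, ih,
          show π y' * (π ρ ^ j * π e) * (π y')⁻¹ =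
            (π y' * π ρ ^ j * (π y')⁻¹) * (π y' * π e * (π y')⁻¹) by group,
          ((hy'R ρ hρ).pow_right j).eq, mul_inv_cancel_right, hρy, ← mul_assoc, ← pow_succ]
    have h := hit p
    rw [hexp ρ (hRN hρ), one_mul, mul_inv_eq_iff_eq_mul] at h
    exact h
  obtain ⟨w, hw, b, hxb⟩ := exists_of_mem_sup (U.gen hx)
  obtain ⟨w', hw', d, hwd⟩ := exists_of_mem_sup hw
  obtain ⟨f', hf', c, hwc⟩ := exists_of_mem_sup hw'
  obtain ⟨f, hf, i, hfi⟩ := exists_of_mem_sup hf'
  subst hxb hwd hwc hfi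
  have hVc : ∀ g, Commute (π v) (π g) := fun g => commute_mk' (hvall g)
  have hEv : π (f * z ^ i * v ^ c * r ^ d * e ^ b) = π z ^ i * π v ^ c * π r ^ d * π e ^ b := by
    rw [map_mul, map_mul, map_mul, map_mul, hπc f hf, one_mul, map_zpow, map_zpow, map_zpow, map_zpow]
  rw [hEv] at hxr hxe hxy
  have hzp1 : π z ^ p = 1 := hexp z U.zN
  have hz1 : π z ≠ 1 := fun h => U.zF (mk'_eq_one.1 h)
  have hER : Commute (π r) ⁅π r, π e⁆ ∧ Commute (π e) ⁅π r, π e⁆ := by
    rw [hre]; exact ⟨(hZc r).symm, (hZc e).symm⟩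
  have hb0 : (b : ZMod p) = 0 := by
    have h1 : Commute (π e ^ b) (π r) := by
      have h2 : Commute (π z ^ i * π v ^ c * π r ^ d) (π r) :=
        (((hZc r).zpow_left i).mul_left ((hVc r).zpow_left c)).mul_left
          ((Commute.refl (π r)).zpow_left d)
      have := h2.inv_left.mul_left hxr
      rwa [inv_mul_cancel_left] at this
    have h3 := comm_zpow_zpow hER.1 hER.2 1 b
    rw [zpow_one, one_mul, commutatorElement_eq_one_iff_commute.2 h1.symm, hre] at h3
    exact cast_zero_of_zpow hzp1 hz1 h3.symm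
  have hE1 : π e ^ b = 1 := by
    rw [zpow_congr_mod (hexp e U.eN) (show (b : ZMod p) = ((0 : ℤ) : ZMod p) by rw [hb0, Int.cast_zero]),
      zpow_zero]
  rw [hE1, mul_one] at hxe hxy
  have hd0 : (d : ZMod p) = 0 := by
    have h1 : Commute (π r ^ d) (π e) := by
      have h2 : Commute (π z ^ i * π v ^ c) (π e) :=
        ((hZc e).zpow_left i).mul_left ((hVc e).zpow_left c)
      have := h2.inv_left.mul_left hxe
      rwa [inv_mul_cancel_left] at this
    have h3 := comm_zpow_zpow hER.1 hER.2 d 1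
    rw [zpow_one, mul_one, commutatorElement_eq_one_iff_commute.2 h1, hre] at h3
    exact cast_zero_of_zpow hzp1 hz1 h3.symm
  rw [zpow_congr_mod (hexp r U.rN) (show (d : ZMod p) = ((0 : ℤ) : ZMod p) by rw [hd0, Int.cast_zero]),
    zpow_zero, mul_one] at hxy
  -- weights
  have hτF : F ≤ F.comap γ.toMonoidHom := map_le_iff_le_comap.1 U.gF
  set γ' := QuotientGroup.map F F γ.toMonoidHom hτF with hγ'
  have hγπ : ∀ g, γ' (π g) = π (γ g) := fun g => rfl
  have hγy' : ∃ u' ∈ N, γ y' = y' ^ k * u' := by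
    refine ⟨(y' ^ k)⁻¹ * γ y', ?_, by rw [mul_inv_cancel_left]⟩
    set πN := QuotientGroup.mk' N
    rw [← mk'_eq_one (K := N), map_mul, map_inv, map_zpow, hy', map_mul γ, map_zpow γ, map_mul πN,
      map_mul πN, map_zpow πN (γ e), map_zpow πN e, hγy, map_mul πN, map_zpow πN y,
      show πN u = 1 from mk'_eq_one.2 hu, show πN e = 1 from mk'_eq_one.2 U.eN,
      show πN (γ e) = 1 from mk'_eq_one.2 (U.gN (mem_map_of_mem _ U.eN)), one_zpow, mul_one, mul_one,
      mul_one, inv_mul_cancel]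
  obtain ⟨u', hu', hγy'⟩ := hγy'
  have hγp : γ' (π y' ^ p) = (π y' ^ p) ^ k := by
    rw [map_pow, hγπ, hγy', map_mul, hom, hexp u' hu', mul_one, map_zpow, ← zpow_natCast, ← zpow_mul,
      mul_comm, zpow_mul, zpow_natCast]
  rw [hxy, map_mul, map_zpow, map_zpow, hγπ, hγπ, hγz, hγv, map_mul, map_mul, hπc wz hwz, hπc wv hwv,
    mul_one, mul_one, map_zpow, ← zpow_mul, ((hZc v).zpow_zpow i c).mul_zpow, ← zpow_mul, ← zpow_mul]
    at hγp
  have hzv : ∀ i c : ℤ, π z ^ i * π v ^ c = 1 → (i : ZMod p) = 0 ∧ (c : ZMod p) = 0 := by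
    intro i c h
    have hm : z ^ i * v ^ c ∈ F := by rw [← mk'_eq_one, map_mul, map_zpow, map_zpow]; exact h
    have hc0 : (c : ZMod p) = 0 := by
      by_contra hc0
      refine U.vΦ (mem_of_zpow (mem_sup_left (U.expN v U.vN)) hc0 ?_)
      simpa using mul_mem (inv_mem (mem_sup_right (zpow_mem (mem_zpowers z) i) : z ^ i ∈ Φ))
        (mem_sup_left hm)
    refine ⟨?_, hc0⟩
    rw [zpow_congr_mod (hexp v U.vN) (show (c : ZMod p) = ((0 : ℤ) : ZMod p) by rw [hc0, Int.cast_zero]),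
      zpow_zero, mul_one] at h
    exact cast_zero_of_zpow hzp1 hz1 h
  obtain ⟨hi', hc'⟩ := hzv (n * i - i * k) (c - c * k) (by
    rw [zpow_sub, zpow_sub, (((hZc v).zpow_zpow (i * k) c).inv_left.mul_mul_mul_comm _ _), hγp,
      ← mul_inv_rev, ← ((hZc v).zpow_zpow (i * k) (c * k)).eq, mul_inv_cancel])
  push_cast at hi' hc'
  have hi0 : (i : ZMod p) = 0 :=
    (mul_eq_zero.1 (show ((k : ZMod p) - n) * i = 0 by linear_combination -hi')).resolve_left hkn
  have hc0 : (c : ZMod p) = 0 :=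
    (mul_eq_zero.1 (show ((k : ZMod p) - 1) * c = 0 by linear_combination -hc')).resolve_left hk1
  have hy'p : y' ^ p ∈ F := by
    rw [← mk'_eq_one, map_pow]
    rw [zpow_congr_mod hzp1 (show (i : ZMod p) = ((0 : ℤ) : ZMod p) by rw [hi0, Int.cast_zero]),
      zpow_congr_mod (hexp v U.vN) (show (c : ZMod p) = ((0 : ℤ) : ZMod p) by rw [hc0, Int.cast_zero]),
      zpow_zero, zpow_zero, mul_one] at hxy
    exact hxy
  have hFall : ∀ f ∈ F, ∀ g, ⁅f, g⁆ ∈ F := fun f hf g =>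
    commutator_le_left F ⊤ (commutator_mem_commutator hf (mem_top g))
  have hy'r' : ⁅y', r⁆ ∈ F := comm_mem_iff.2 hy'r
  refine false_of_gen hH hr (K := F) (s := {z, v, r, y'}) ?_ ?_ ?_
  · rintro a' (rfl | rfl | rfl | rfl) b' (rfl | rfl | rfl | rfl)
    all_goals first
      | exact hzall _
      | exact hvall _
      | (rw [← commutatorElement_inv]; exact inv_mem (hzall _))
      | (rw [← commutatorElement_inv]; exact inv_mem (hvall _))
      | (rw [commutatorElement_self]; exact one_mem _)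
      | exact hy'r'
      | (rw [← commutatorElement_inv]; exact inv_mem hy'r')
  · rintro a' (rfl | rfl | rfl | rfl)
    exacts [U.expN _ U.zN, U.expN _ U.vN, U.expN _ U.rN, hy'p]
  · set S := F ⊔ closure {z, v, r, y'}
    have hRS : R < S := by
      refine lt_of_le_of_ne (sup_le (sup_le (sup_le le_sup_left
        (zpowers_le.2 (mem_sup_right (subset_closure (by simp)))))
        (zpowers_le.2 (mem_sup_right (subset_closure (by simp)))))
        (zpowers_le.2 (mem_sup_right (subset_closure (by simp))))) fun h => ?_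
      exact hy'N (hRN (h.ge (mem_sup_right (subset_closure (by simp)))))
    refine le_trans ?_ (card_mul_le' hH hRS)
    rw [show Nat.card F * p ^ 4 = Nat.card F * p * p * p * p by ring]
    refine Nat.mul_le_mul_right p ?_
    rw [hR, hW, card_sup_zpowers_eq hH (mem_sup_left (mem_sup_left (U.expN r U.rN))) U.rW,
      card_sup_zpowers_eq hH (mem_sup_left (U.expN v U.vN)) U.vΦ,
      card_sup_zpowers_eq hH (U.expN z U.zN) U.zF]

end Cfsg.Agent.Lib.RankThreeEss69
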