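import Cfsg.Agent.Lib.RankThreeEss69.Torus
import Cfsg.Agent.Lib.RankThreeEss69.Weights
import Cfsg.Agent.Lib.RankTwoAut.Essential

/-!
An essential subgroup with transvections is normal.
-/

set_option autoImplicit false
set_option linter.unusedSectionVars false

namespace Cfsg.Agent.Lib.RankThreeEss69

open Cfsg Cfsg.FusionSystem Cfsg.Agent.Lib.Fusion Cfsg.Agent.Lib.Fusion87 Cfsg.Agent.Lib.FusionOrderFive
open scoped commutatorElement

universe u

/-- Automorphisms fixing three subgroups. -/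
def keep {G : Type*} [Group G] (A B C : Subgroup G) : Subgroup (MulAut G) where
  carrier := {g | A.map g.toMonoidHom = A ∧ B.map g.toMonoidHom = B ∧ C.map g.toMonoidHom = C}
  one_mem' := ⟨map_aut_one A, map_aut_one B, map_aut_one C⟩
  mul_mem' := by
    rintro g h ⟨g1, g2, g3⟩ ⟨h1, h2, h3⟩
    exact ⟨by rw [← map_aut_mul, h1, g1], by rw [← map_aut_mul, h2, g2], by rw [← map_aut_mul, h3, g3]⟩
  inv_mem' := by
    rintro g ⟨g1, g2, g3⟩
    exact ⟨by conv_lhs => rw [← g1, map_aut_mul, inv_mul_cancel, map_aut_one],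
      by conv_lhs => rw [← g2, map_aut_mul, inv_mul_cancel, map_aut_one],
      by conv_lhs => rw [← g3, map_aut_mul, inv_mul_cancel, map_aut_one]⟩

theorem keep_mem {G : Type*} [Group G] {A B C : Subgroup G} {g : MulAut G} (hg : g ∈ keep A B C) :
    (∀ x ∈ A, g x ∈ A) ∧ (∀ x ∈ B, g x ∈ B) ∧ (∀ x ∈ C, g x ∈ C) :=
  ⟨fun _ hx => hg.1.le (Subgroup.mem_map_of_mem g.toMonoidHom hx),
   fun _ hx => hg.2.1.le (Subgroup.mem_map_of_mem g.toMonoidHom hx),
   fun _ hx => hg.2.2.le (Subgroup.mem_map_of_mem g.toMonoidHom hx)⟩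

/-- Automorphisms acting trivially on the layers `G / R`, `R / W`, `W / P`. -/
def layers {G : Type*} [Group G] (R W P : Subgroup G) : Subgroup (MulAut G) where
  carrier := {g | g ∈ keep R W P ∧ (∀ x, x⁻¹ * g x ∈ R) ∧ (∀ x ∈ R, x⁻¹ * g x ∈ W) ∧ ∀ x ∈ W, x⁻¹ * g x ∈ P}
  one_mem' := ⟨one_mem _, fun x => by simp, fun x _ => by simp, fun x _ => by simp⟩
  mul_mem' := by
    rintro g h ⟨gk, g1, g2, g3⟩ ⟨hk, h1, h2, h3⟩
    have e : ∀ x, x⁻¹ * (g * h) x = (x⁻¹ * h x) * ((h x)⁻¹ * g (h x)) := fun x => by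
      rw [MulAut.mul_apply]; group
    exact ⟨mul_mem gk hk, fun x => e x ▸ mul_mem (h1 x) (g1 _),
      fun x hx => e x ▸ mul_mem (h2 x hx) (g2 _ ((keep_mem hk).1 x hx)),
      fun x hx => e x ▸ mul_mem (h3 x hx) (g3 _ ((keep_mem hk).2.1 x hx))⟩
  inv_mem' := by
    rintro g ⟨gk, g1, g2, g3⟩
    have e : ∀ x, x⁻¹ * g⁻¹ x = ((g⁻¹ x)⁻¹ * g (g⁻¹ x))⁻¹ := fun x => by
      rw [MulAut.apply_inv_self]; group
    have hk := keep_mem (inv_mem gk)
    exact ⟨inv_mem gk, fun x => e x ▸ inv_mem (g1 _),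
      fun x hx => e x ▸ inv_mem (g2 _ (hk.1 x hx)), fun x hx => e x ▸ inv_mem (g3 _ (hk.2.1 x hx))⟩

theorem layers_conj {G : Type*} [Group G] {R W P : Subgroup G} {g k : MulAut G}
    (hg : g ∈ layers R W P) (hk : k ∈ keep R W P) : k * g * k⁻¹ ∈ layers R W P := by
  obtain ⟨gk, g1, g2, g3⟩ := hg
  have e : ∀ x, x⁻¹ * (k * g * k⁻¹) x = k ((k⁻¹ x)⁻¹ * g (k⁻¹ x)) := fun x => by
    rw [MulAut.mul_apply, MulAut.mul_apply, map_mul, map_inv, MulAut.apply_inv_self]
  have h := keep_mem (inv_mem hk)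
  have h' := keep_mem hk
  exact ⟨mul_mem (mul_mem hk gk) (inv_mem hk), fun x => e x ▸ h'.1 _ (g1 _),
    fun x hx => e x ▸ h'.2.1 _ (g2 _ (h.1 x hx)), fun x hx => e x ▸ h'.2.2 _ (g3 _ (h.2.1 x hx))⟩

theorem pow_triv {G : Type*} [Group G] {p : ℕ} {A B : Subgroup G} [B.Normal] {g : MulAut G}
    (hB : ∀ x ∈ B, g x ∈ B) (h1 : ∀ x, x⁻¹ * g x ∈ A) (h2 : ∀ a ∈ A, a⁻¹ * g a ∈ B)
    (hp : ∀ a ∈ A, a ^ p ∈ B) (x : G) : x⁻¹ * (g ^ p) x ∈ B := by
  set π := QuotientGroup.mk' B
  have key : ∀ k : ℕ, π ((g ^ k) x) = π x * π (x⁻¹ * g x) ^ k := by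
    intro k
    induction k with
    | zero => simp
    | succ k ih =>
      have hy : π ((g ^ k) x) = π (x * (x⁻¹ * g x) ^ k) := by rw [ih, map_mul π x, map_pow]
      have hb : (x * (x⁻¹ * g x) ^ k)⁻¹ * (g ^ k) x ∈ B := QuotientGroup.eq.1 hy.symm
      rw [pow_succ', MulAut.mul_apply]
      have e : g ((g ^ k) x) = g x * g (x⁻¹ * g x) ^ k * g ((x * (x⁻¹ * g x) ^ k)⁻¹ * (g ^ k) x) := by
        rw [← map_pow g, ← map_mul g, ← map_mul g, mul_inv_cancel_left]
      rw [e, map_mul, map_mul, map_pow, show π (g ((x * (x⁻¹ * g x) ^ k)⁻¹ * (g ^ k) x)) = 1 from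
        mk'_eq_one.2 (hB _ hb), mul_one,
        show π (g (x⁻¹ * g x)) = π (x⁻¹ * g x) from (QuotientGroup.eq.2 (h2 _ (h1 x))).symm,
        show π (g x) = π x * π (x⁻¹ * g x) by rw [← map_mul, mul_inv_cancel_left], mul_assoc, ← pow_succ']
  have h := key p
  rw [← map_pow π (x⁻¹ * g x), show π ((x⁻¹ * g x) ^ p) = 1 from mk'_eq_one.2 (hp _ (h1 x)), mul_one] at h
  exact QuotientGroup.eq.1 h.symm

theorem isPGroup_layers {G : Type*} [Group G] [Finite G] {p : ℕ} [Fact p.Prime] (hG : IsPGroup p G)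
    {R W : Subgroup G} [W.Normal] (hW : frattini G ≤ W) :
    IsPGroup p (layers R W (frattini G)) := by
  haveI : (frattini G).Normal := inferInstance
  set K : Subgroup (MulAut G) :=
    (FusionOrderFive.quotHom G).ker
  have hK : IsPGroup p K := RankTwoAut.isPGroup_of_trivial_on_frattini hG K fun α hα x =>
    quotHom_eq_one.1 hα x
  have hpow : ∀ a : G, a ^ p ∈ frattini G := Lib.PFrattini.pow_mem_frattini hG
  rintro ⟨g, gk, g1, g2, g3⟩
  have hk := keep_mem gk
  have h1 : ∀ x, x⁻¹ * (g ^ p) x ∈ W := fun x =>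
    pow_triv (A := R) hk.2.1 g1 g2 (fun a _ => hW (hpow a)) x
  have hp3 : ∀ a ∈ W, a⁻¹ * (g ^ p) a ∈ frattini G := by
    intro a ha
    have : ∀ j : ℕ, ∀ b ∈ W, b⁻¹ * (g ^ j) b ∈ frattini G := by
      intro j
      induction j with
      | zero => intro b _; simp
      | succ j ih =>
        intro b hb
        rw [pow_succ, MulAut.mul_apply,
          show b⁻¹ * (g ^ j) (g b) = (b⁻¹ * g b) * ((g b)⁻¹ * (g ^ j) (g b)) by group]
        exact mul_mem (g3 b hb) (ih _ (hk.2.1 b hb))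
    exact this p a ha
  have hk' : g ^ p ∈ keep R W (frattini G) := pow_mem gk p
  have h2 : (g ^ p) ^ p ∈ K := quotHom_eq_one.2 fun x =>
    pow_triv (A := W) (keep_mem hk').2.2 h1 hp3 (fun a _ => hpow a) x
  obtain ⟨j, hj⟩ := hK ⟨_, h2⟩
  refine ⟨2 + j, Subtype.ext ?_⟩
  show g ^ p ^ (2 + j) = 1
  rw [pow_add, pow_mul, sq, pow_mul]
  simpa using congrArg Subtype.val hj

variable {Ω : Type u} [Group Ω] {S : Subgroup Ω} [Finite S] {F : FusionSystem S} {p : ℕ}
  [hp : Fact p.Prime]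

theorem false_of_transvection (h5 : 5 ≤ p) (hS : IsPGroup p S) (hsr : Cfsg.SectionalPRankLE p 3 S)
    (hF : F.IsSaturated p) {E : Subgroup Ω} (hE : F.IsEssential p E)
    (hrk : (frattini E).index = p ^ 3) (hne : normalizerIn S E ≠ S)
    (hreg : ¬ Regular p (E.subgroupOf (normalizerIn S E)))
    (hNn : F.IsFullyNormalized (normalizerIn S E)) : False := by
  classical
  have hES := hE.1.1
  haveI := finite_of_le hES
  have hp2 : p ≠ 2 := by omega
  obtain ⟨y, hy, hyN, hyp, hmove, hfix⟩ := exists_orbit hS hES hne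
  set N := normalizerIn S E with hN
  have hNS : N ≤ S := inf_le_left
  haveI : Finite N := finite_of_le hNS
  have hG : IsPGroup p N := hS.to_le hNS
  have hrank : Cfsg.SectionalPRankLE p 3 N := rank_le_of_le hsr hNS
  have hEN : E ≤ N := le_normalizerIn hES
  set Eb := E.subgroupOf N with hEb
  obtain ⟨τ, hτ, n, m, r, e, v, T⟩ := exists_tdata hS hF hE h5 hrk hreg
  haveI := T.iE.normal
  set σ := conjAut N y hy.2 with hσ
  have hσF := T.map_fr_of_orbit hG h5 hrank σ hfix hmove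
  have hσE : Eb ≠ Eb.map σ.toMonoidHom := fun h => by
    have h1 := hmove 1 one_pos hp.out.one_lt
    rw [pow_one] at h1
    exact h1 h.symm
  set N2 := normalizerIn S N with hN2
  have hN2S : N2 ≤ S := inf_le_left
  haveI : Finite N2 := finite_of_le hN2S
  have hH : IsPGroup p N2 := hS.to_le hN2S
  have hρ : ∀ (w : Ω) (hw : w ∈ N2), (fr p Eb).map (conjAut N w hw.2).toMonoidHom = fr p Eb := by
    intro w hw
    obtain ⟨k, hk⟩ := hS ⟨w, hw.1⟩
    refine T.map_fr_of_pow hG h5 hrank σ hσF hσE _ (k := k) ?_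
    rw [map_conjAut_pow]
    have h : w ^ p ^ k = 1 := by simpa using congrArg Subtype.val hk
    exact MulEquiv.ext fun x => Subtype.ext (by rw [conjAut_apply, h]; simp)
  set Φ := fr p Eb ⊔ Subgroup.zpowers ⁅r, e⁆ with hΦ
  set W := Φ ⊔ Subgroup.zpowers v with hW
  haveI hΦn : Φ.Normal := sup_zpowers_normal (T.z_central hG)
  haveI hWn : W.Normal := T.zv_normal hG
  have hρΦ : ∀ (w : Ω) (hw : w ∈ N2), Φ.map (conjAut N w hw.2).toMonoidHom = Φ :=
    fun w hw => T.map_Phi hG hp2 _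
  have hρW : ∀ (w : Ω) (hw : w ∈ N2), W.map (conjAut N w hw.2).toMonoidHom = W :=
    fun w hw => T.map_zv_of_good hG hp2 _ (hρ w hw) σ hσF hσE
  have hNN2 : N ≤ N2 := le_normalizerIn hNS
  set ι : N →* N2 := Subgroup.inclusion hNN2 with hι
  have hιinj : Function.Injective ι := Subgroup.inclusion_injective _
  have hιconj : ∀ (g : N2) (x : N), g * ι x * g⁻¹ = ι (conjAut N g g.2.2 x) :=
    fun g x => Subtype.ext rfl
  have hnorm : ∀ K : Subgroup N, (∀ (w : Ω) (hw : w ∈ N2), K.map (conjAut N w hw.2).toMonoidHom = K) →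
      (K.map ι).Normal := by
    intro K hK
    refine ⟨?_⟩
    rintro _ ⟨x, hx, rfl⟩ g
    rw [hιconj]
    exact Subgroup.mem_map_of_mem ι ((hK g g.2).le (Subgroup.mem_map_of_mem _ hx))
  set Fh := (fr p Eb).map ι with hFh
  set Φh := Φ.map ι with hΦh
  set Wh := W.map ι with hWh
  set Nh := (⊤ : Subgroup N).map ι with hNh
  set Eh := Eb.map ι with hEh
  haveI hFn : Fh.Normal := hnorm _ hρ
  haveI : Φh.Normal := hnorm _ hρΦ
  haveI hWhn : Wh.Normal := hnorm _ hρW
  haveI hNhn : Nh.Normal := hnorm _ fun w hw => map_top_aut _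
  have hNh_iff : ∀ g : N2, g ∈ Nh ↔ (g : Ω) ∈ N := fun g =>
    ⟨fun ⟨x, _, hx⟩ => by rw [← hx]; exact x.2,
     fun h => ⟨⟨g, h⟩, Subgroup.mem_top _, Subtype.ext rfl⟩⟩
  set yH : N2 := ⟨y, hy⟩ with hyH
  set q := ⁅yH, ι e⁆ with hq
  set X := ⁅Nh, (⊤ : Subgroup N2)⁆ ⊔ Wh with hX
  have hWN : Wh ≤ Nh := Subgroup.map_mono le_top
  have hcN : Nat.card Nh = Nat.card (fr p Eb) * p * p * p * p := by
    rw [hNh, Subgroup.card_map_of_injective hιinj, Subgroup.card_top, T.iE.card_top, T.iE.card]; ring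
  have hcW : Nat.card Wh = Nat.card (fr p Eb) * p * p := by
    rw [hWh, Subgroup.card_map_of_injective hιinj]; exact T.card_zv hG
  have hXlt : X < Nh := by
    refine lt_of_le_of_ne (sup_le (Subgroup.commutator_le_left _ _) hWN) fun h => ?_
    have h1 := Subgroup.card_le_of_le (le_of_le_comm_sup hH h.ge)
    rw [hcN, hcW] at h1
    have h2 : Nat.card (fr p Eb) * p * p * (p * p) ≤ Nat.card (fr p Eb) * p * p * 1 := by
      rw [mul_one]; exact le_trans (le_of_eq (by ring)) h1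
    exact absurd (Nat.le_of_mul_le_mul_left h2 (Nat.mul_pos (Nat.mul_pos Nat.card_pos hp.out.pos) hp.out.pos))
      (_root_.not_le.2 (Nat.lt_of_lt_of_le hp.out.one_lt (Nat.le_mul_self p)))
  have hqX : q ∈ X := Subgroup.mem_sup_left (by
    rw [hq, ← commutatorElement_inv]
    exact inv_mem (Subgroup.commutator_mem_commutator (Subgroup.mem_map_of_mem ι (Subgroup.mem_top e))
      (Subgroup.mem_top yH)))
  have hWE : W ≤ Eb := sup_le (sup_le fr_le (Subgroup.zpowers_le.2 (T.z_mem hG))) (Subgroup.zpowers_le.2 T.vE)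
  have hEh' : Eb = W ⊔ Subgroup.zpowers e := eq_sup_zpowers hG hWE
    (by rw [T.iE.card, hW, hΦ, T.card_zv hG]; exact le_of_eq (by ring)) T.eE (fun h => by
      haveI := hWn
      obtain ⟨w, hw, c, hc⟩ := exists_of_mem_sup h
      obtain ⟨f, hf, a, ha⟩ := exists_of_mem_sup hw
      have := (T.coord hG (a := a) (b := -1) (c := c) ?_).2.1
      · rw [Int.cast_neg, Int.cast_one] at this
        exact one_ne_zero (neg_eq_zero.1 this)
      · rw [← mk'_eq_one (K := fr p Eb), map_mul, map_mul, map_zpow, map_zpow, map_zpow, zpow_neg_one]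
        have h0 : QuotientGroup.mk' (fr p Eb) e =
            QuotientGroup.mk' (fr p Eb) ⁅r, e⁆ ^ a * QuotientGroup.mk' (fr p Eb) v ^ c := by
          conv_lhs => rw [hc, ha]
          rw [map_mul, map_mul, show QuotientGroup.mk' (fr p Eb) f = 1 from mk'_eq_one.2 hf, one_mul,
            map_zpow, map_zpow]
        have hcm : Commute (QuotientGroup.mk' (fr p Eb) e)⁻¹ (QuotientGroup.mk' (fr p Eb) v ^ c) :=
          ((commute_mk' (comm_mem_fr T.eE T.vE)).zpow_right c).inv_left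
        rw [mul_assoc, hcm.eq, ← mul_assoc, ← h0, mul_inv_cancel])
  have hqE : q ∉ Eh := by
    intro h
    refine hσE (Subgroup.eq_of_le_of_card_ge ?_ (Subgroup.card_map_of_injective σ.injective).ge).symm
    conv_lhs => rw [hEh']
    rw [Subgroup.map_sup]
    refine sup_le ((hρW y hy).le.trans hWE) ?_
    rw [MonoidHom.map_zpowers]
    refine Subgroup.zpowers_le.2 ?_
    have h1 : ι (σ e) ∈ Eh := by
      rw [show ι (σ e) = q * ι e by rw [hq, ← conj_eq_comm_mul, hιconj]]
      exact mul_mem h (Subgroup.mem_map_of_mem ι T.eE)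
    exact (Subgroup.mem_map_iff_mem hιinj).1 h1
  have hqW : q ∉ Wh := fun h => hqE (Subgroup.map_mono hWE h)
  have hcX : Nat.card X ≤ Nat.card Wh * p := by
    have h := card_mul_le' hH hXlt
    rw [hcN] at h
    rw [hcW]
    exact Nat.le_of_mul_le_mul_right h hp.out.pos
  have hXq : X = Wh ⊔ Subgroup.zpowers q := eq_sup_zpowers hH le_sup_right hcX hqX hqW
  haveI hXn : X.Normal := by rw [hX]; infer_instance
  have hXW : ⁅X, (⊤ : Subgroup N2)⁆ ≤ Wh := comm_le_of_card_le hH le_sup_right hcX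
  set π := QuotientGroup.mk' Wh with hπ
  have hqc : ∀ g : N2, Commute (π q) (π g) := fun g =>
    commute_mk' (hXW (Subgroup.commutator_mem_commutator hqX (Subgroup.mem_top g)))
  have hye : ∀ t : ℤ, π yH ^ t * π (ι e) * (π yH ^ t)⁻¹ = π q ^ t * π (ι e) := by
    have h1 : π yH * π (ι e) * (π yH)⁻¹ = π q * π (ι e) := by
      rw [← map_inv, ← map_mul, ← map_mul, ← map_mul, conj_eq_comm_mul]
    intro t
    have hcq : Commute (π yH) ⁅π yH, π (ι e)⁆ := by
      rw [← map_commutatorElement]; exact (hqc yH).symm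
    have hce : Commute (π (ι e)) ⁅π yH, π (ι e)⁆ := by
      rw [← map_commutatorElement]; exact (hqc _).symm
    have h2 := comm_zpow_zpow hcq hce t 1
    rw [zpow_one, mul_one, ← map_commutatorElement] at h2
    rw [conj_eq_comm_mul, h2]
  have hEhW : Eh = Wh ⊔ Subgroup.zpowers (ι e) := by
    rw [hEh, hEh', Subgroup.map_sup, MonoidHom.map_zpowers]
  have htop : (⊤ : Subgroup N2) = Nh ⊔ Subgroup.zpowers yH := by
    refine (eq_top_iff.2 fun g _ => ?_).symm
    obtain ⟨w, hw, t, hwt⟩ := exists_of_mem_sup (hXq.le (Subgroup.mem_sup_left (by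
      rw [← commutatorElement_inv]
      exact inv_mem (Subgroup.commutator_mem_commutator (Subgroup.mem_map_of_mem ι (Subgroup.mem_top e))
        (Subgroup.mem_top g)) : ⁅g, ι e⁆ ∈ ⁅Nh, (⊤ : Subgroup N2)⁆)))
    set h := (yH ^ t)⁻¹ * g with hh
    have hhN : h ∈ Nh := by
      rw [hNh_iff]
      refine Subgroup.mem_inf.2 ⟨hN2S h.2, ?_⟩
      rw [← map_bar_eq_iff (N := N) hEN h.2.2]
      refine Subgroup.eq_of_le_of_card_ge ?_
        (Subgroup.card_map_of_injective (conjAut N (h : Ω) h.2.2).injective).ge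
      conv_lhs => rw [← hEb, hEh']
      rw [Subgroup.map_sup, hρW h h.2, MonoidHom.map_zpowers]
      refine sup_le hWE (Subgroup.zpowers_le.2 ?_)
      have h1 : ι (conjAut N (h : Ω) h.2.2 e) ∈ Eh := by
        rw [← hιconj, hEhW]
        refine mem_normal_of (K := Wh) (Subgroup.mem_sup_right (Subgroup.mem_zpowers (ι e))) le_sup_left ?_
        have hg : π g * π (ι e) * (π g)⁻¹ = π q ^ t * π (ι e) := by
          rw [← map_inv, ← map_mul, ← map_mul, conj_eq_comm_mul, hwt, map_mul, map_mul,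
            show π w = 1 from mk'_eq_one.2 hw, one_mul, map_zpow]
        rw [hh, map_mul, map_mul, map_inv, map_mul, map_inv, map_zpow,
          show (π yH ^ t)⁻¹ * π g * π (ι e) * ((π yH ^ t)⁻¹ * π g)⁻¹ =
            (π yH ^ t)⁻¹ * (π g * π (ι e) * (π g)⁻¹) * π yH ^ t by group, hg, ← hye]
        group
        rfl
      exact (Subgroup.mem_map_iff_mem hιinj).1 h1
    have : g = yH ^ t * h := by rw [hh, mul_inv_cancel_left]
    rw [this]
    exact mul_mem (Subgroup.mem_sup_right (Subgroup.zpow_mem _ (Subgroup.mem_zpowers yH) t))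
      (Subgroup.mem_sup_left hhN)
  -- coordinates of `q`
  have hgen : Nh ≤ Fh ⊔ Subgroup.zpowers (ι ⁅r, e⁆) ⊔ Subgroup.zpowers (ι v) ⊔ Subgroup.zpowers (ι r) ⊔
      Subgroup.zpowers (ι e) := by
    rw [hNh, T.iE.top_eq hG T.rE]
    show (Eb ⊔ Subgroup.zpowers r).map ι ≤ _
    rw [hEh', hW, hΦ, Subgroup.map_sup, Subgroup.map_sup, Subgroup.map_sup,
      Subgroup.map_sup, MonoidHom.map_zpowers, MonoidHom.map_zpowers, MonoidHom.map_zpowers,
      MonoidHom.map_zpowers]
    exact le_of_eq (sup_right_comm _ _ _)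
  have hWh_eq : Wh = Fh ⊔ Subgroup.zpowers (ι ⁅r, e⁆) ⊔ Subgroup.zpowers (ι v) := by
    rw [hWh, hW, hΦ, Subgroup.map_sup, Subgroup.map_sup, MonoidHom.map_zpowers, MonoidHom.map_zpowers]
  have hΦh_eq : Φh = Fh ⊔ Subgroup.zpowers (ι ⁅r, e⁆) := by
    rw [hΦh, hΦ, Subgroup.map_sup, MonoidHom.map_zpowers]
  have hrW : ι r ∉ Wh := fun h => T.rE (hWE ((Subgroup.mem_map_iff_mem hιinj).1 h))
  have hRn : ∀ g ∈ Nh, ⁅ι r, g⁆ ∈ Wh := by
    rintro _ ⟨x, -, rfl⟩
    rw [← map_commutatorElement]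
    exact Subgroup.mem_map_of_mem ι (Subgroup.mem_sup_left (T.comm_mem hG r x))
  obtain ⟨qN, hqN, hqe⟩ := (hXlt.le hqX : q ∈ Nh)
  obtain ⟨u0, hu0, a, hqa⟩ := exists_of_mem_sup ((T.iE.top_eq hG T.rE).le (Subgroup.mem_top qN))
  obtain ⟨w0, hw0, b, hub⟩ := exists_of_mem_sup (hEh'.le hu0)
  have hπq : π q = π (ι e) ^ b * π (ι r) ^ a := by
    rw [← hqe, hqa, hub, map_mul, map_mul, map_mul, map_mul,
      show π (ι w0) = 1 from mk'_eq_one.2 (Subgroup.mem_map_of_mem ι hw0), one_mul, map_zpow, map_zpow,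
      map_zpow, map_zpow]
  have hexpW : ∀ x : N, π (ι x) ^ p = 1 := fun x => by
    rw [← map_pow, ← map_pow]
    exact mk'_eq_one.2 (Subgroup.mem_map_of_mem ι (Subgroup.mem_sup_left (Subgroup.mem_sup_left (T.pow_mem hG hp2 x))))
  have ha0 : (a : ZMod p) ≠ 0 := by
    intro h
    refine hqE ?_
    rw [hEhW]
    refine mem_normal_of (K := Wh) (Subgroup.mem_sup_right (Subgroup.zpow_mem _ (Subgroup.mem_zpowers (ι e)) b))
      le_sup_left ?_
    rw [map_zpow, hπq, zpow_congr_mod (hexpW r) (show (a : ZMod p) = ((0 : ℤ) : ZMod p) by rw [h, Int.cast_zero]),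
      zpow_zero, mul_one]
  have hτh : ∀ {x y : N}, π (ι x) = π (ι y) → π (ι (τ x)) = π (ι (τ y)) := by
    intro x y h
    have h1 : x⁻¹ * y ∈ W := by
      have := QuotientGroup.eq.1 h
      rw [← map_inv, ← map_mul] at this
      exact (Subgroup.mem_map_iff_mem hιinj).1 this
    refine QuotientGroup.eq.2 ?_
    rw [← map_inv, ← map_mul, ← map_inv, ← map_mul]
    refine Subgroup.mem_map_of_mem ι ?_
    have hfr : (fr p Eb).map τ.toMonoidHom = fr p Eb := by rw [map_fr, T.tE]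
    have hvm : v ∈ W := Subgroup.mem_sup_right (Subgroup.mem_zpowers v)
    have hle : W.map τ.toMonoidHom ≤ W := by
      rw [hW, Subgroup.map_sup, T.map_Phi hG hp2, MonoidHom.map_zpowers]
      refine sup_le le_sup_left (Subgroup.zpowers_le.2 ?_)
      show τ v ∈ _
      have := mul_mem hvm (Subgroup.mem_sup_left (Subgroup.mem_sup_left T.tv) : v⁻¹ * τ v ∈ W)
      rwa [mul_inv_cancel_left] at this
    exact hle (Subgroup.mem_map_of_mem τ.toMonoidHom h1)
  have hπt : ∀ {x y : N}, x⁻¹ * y ∈ W → π (ι y) = π (ι x) := fun {x y} h => by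
    refine (QuotientGroup.eq.2 ?_).symm
    rw [← map_inv, ← map_mul]; exact Subgroup.mem_map_of_mem ι h
  have hτr : π (ι (τ r)) = π (ι r) ^ (n * n) := by
    rw [← map_zpow, ← map_zpow]; exact hπt (Subgroup.mem_sup_left T.tr)
  have hτe : π (ι (τ e)) = π (ι e) ^ m := by
    rw [← map_zpow, ← map_zpow]; exact hπt (Subgroup.mem_sup_left (Subgroup.mem_sup_left T.te))
  have hre : Commute (π (ι r)) (π (ι e)) := commute_mk' (hRn _ (Subgroup.mem_map_of_mem ι (Subgroup.mem_top e)))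
  have hnm : (n : ZMod p) * m = 1 := by simpa using T.nm
  have hmk : (m : ZMod p) - (n : ZMod p) * n ≠ 0 := sub_ne_zero.2 fun h => T.n3 (by
    rw [h] at hnm; linear_combination hnm)
  -- `E` is not conjugate to a subgroup normalised by `N₂`
  have hb : (b : ZMod p) = 0 := by
    by_contra hb
    obtain ⟨j, hj⟩ := exists_intCast ((b : ZMod p) / (a : ZMod p))
    obtain ⟨s, hs⟩ := exists_intCast (((b : ZMod p) / (a : ZMod p)) * ((m : ZMod p) - (n : ZMod p) * (n : ZMod p)))⁻¹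
    obtain ⟨t, ht⟩ := exists_intCast ((s : ZMod p) * ((n : ZMod p) * (n : ZMod p)) / (a : ZMod p))
    set δ : MulAut N := τ⁻¹ * σ ^ t with hδ
    set ye : N := r * e ^ j with hye'
    have hje : π (ι ye) = π (ι r) * π (ι e) ^ j := by rw [hye', map_mul, map_mul, map_zpow, map_zpow]
    have hσt : π (ι ((σ ^ t) e)) = π q ^ t * π (ι e) := by
      rw [← hye, ← map_zpow π, ← map_inv π, ← map_mul π, ← map_mul π, hιconj]
      rw [hσ, show conjAut N y hy.2 ^ t = conjAut N ((yH ^ t : N2) : Ω) (yH ^ t).2.2 from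
        (map_zpow (Subgroup.normalizerMonoidHom N) ⟨y, hy.2⟩ t).symm.trans rfl]
    have hτy : π (ι (τ ye)) = π (ι r) ^ (n * n) * π (ι e) ^ (m * j) := by
      rw [hye', map_mul τ, map_zpow τ, map_mul ι, map_mul π, map_zpow ι, map_zpow π, hτr, hτe, ← zpow_mul]
    have hkey : π (ι (τ ye)) ^ s = π (ι ((σ ^ t) e)) := by
      rw [hσt, hπq, hτy, (hre.symm.zpow_zpow b a).mul_zpow, (hre.zpow_zpow (n * n) (m * j)).mul_zpow,
        ← zpow_mul, ← zpow_mul, ← zpow_mul, ← zpow_mul, mul_assoc (π (ι e) ^ (b * t)),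
        (hre.zpow_left (a * t)).eq, ← mul_assoc, ← zpow_add_one, (hre.zpow_zpow _ _).eq]
      congr 1
      · refine zpow_congr_mod (hexpW e) ?_
        push_cast
        rw [ht, hj, hs]
        field_simp
        ring_nf
        have hmk' : (m : ZMod p) - (n : ZMod p) ^ 2 ≠ 0 := by rw [sq]; exact hmk
        linear_combination (mul_inv_cancel₀ hmk')
      · refine zpow_congr_mod (hexpW r) ?_
        push_cast
        rw [ht]
        field_simp
    set XN := W ⊔ Subgroup.zpowers ye with hXN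
    have hmemW : ∀ {x y : N}, π (ι x) = π (ι y) → x⁻¹ * y ∈ W := fun {x y} h => by
      have := QuotientGroup.eq.1 h
      rw [← map_inv, ← map_mul] at this
      exact (Subgroup.mem_map_iff_mem hιinj).1 this
    have hδe : δ e ∈ XN := by
      have h1 : π (ι (τ (ye ^ s))) = π (ι ((σ ^ t) e)) := by rw [map_zpow τ, map_zpow ι, map_zpow π, hkey]
      have h2 : τ (ye ^ s)⁻¹ * (σ ^ t) e ∈ W := by rw [map_inv]; exact hmemW h1
      have hWτ : ∀ x ∈ W, τ⁻¹ x ∈ W := by
        intro x hx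
        obtain ⟨x', rfl⟩ := τ.surjective x
        rw [MulAut.inv_apply_self]
        have hW' : W.map τ.toMonoidHom = W := by
          refine Subgroup.eq_of_le_of_card_ge ?_ (Subgroup.card_map_of_injective τ.injective).ge
          rintro _ ⟨w, hw, rfl⟩
          have := hτh (x := (1 : N)) (y := w) (hπt (by simpa using hw)).symm
          simpa using hmemW this
        obtain ⟨w, hw, hwe⟩ := hW'.ge hx
        exact τ.injective hwe ▸ hw
      have h3 := hWτ _ h2
      rw [map_mul, MulAut.inv_apply_self] at h3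
      have := mul_mem (Subgroup.mem_sup_right (Subgroup.zpow_mem _ (Subgroup.mem_zpowers ye) s) : ye ^ s ∈ XN)
        (Subgroup.mem_sup_left h3)
      rw [mul_inv_cancel_left] at this
      rw [hδ, MulAut.mul_apply]
      exact this
    have hδW : W.map δ.toMonoidHom = W := by
      have hW' : W.map τ.toMonoidHom = W := by
        refine Subgroup.eq_of_le_of_card_ge ?_ (Subgroup.card_map_of_injective τ.injective).ge
        rintro _ ⟨w, hw, rfl⟩
        have := hτh (x := (1 : N)) (y := w) (hπt (by simpa using hw)).symm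
        simpa using hmemW this
      have hσt' : σ ^ t = conjAut N ((yH ^ t : N2) : Ω) (yH ^ t).2.2 :=
        (map_zpow (Subgroup.normalizerMonoidHom N) ⟨y, hy.2⟩ t).symm.trans rfl
      rw [hδ, ← map_aut_mul, hσt', hρW _ (yH ^ t).2]
      conv_lhs => rw [← hW', map_aut_mul, inv_mul_cancel, map_aut_one]
    have hXE : Eb.map δ.toMonoidHom = XN := by
      refine Subgroup.eq_of_le_of_card_ge ?_ ?_
      · rw [hEh', Subgroup.map_sup, hδW, MonoidHom.map_zpowers]
        exact sup_le le_sup_left (Subgroup.zpowers_le.2 hδe)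
      · rw [Subgroup.card_map_of_injective δ.injective, T.iE.card]
        refine (card_sup_zpowers_le (K := W) (x := ye)
          (Subgroup.mem_sup_left (Subgroup.mem_sup_left (T.pow_mem hG hp2 ye)))).trans ?_
        rw [hW, hΦ, T.card_zv hG]
        exact le_of_eq (by ring)
    have hXh : XN.map ι = X := by
      have hyeW : ye ∉ W := fun h => T.rE (by
        have h1 := Eb.mul_mem (hWE h) (Eb.inv_mem (Eb.zpow_mem T.eE j))
        simpa [hye'] using h1)
      rw [hXN, Subgroup.map_sup, MonoidHom.map_zpowers, hXq]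
      refine (eq_sup_zpowers hH le_sup_left (card_sup_zpowers_le ?_) ?_ ?_).symm
      · rw [← mk'_eq_one, map_pow, hπq]
        rw [(hre.symm.zpow_zpow b a).mul_pow, ← zpow_natCast, ← zpow_natCast, ← zpow_mul, ← zpow_mul,
          mul_comm b, mul_comm a, zpow_mul, zpow_mul, zpow_natCast, zpow_natCast, hexpW e, hexpW r,
          one_zpow, one_zpow, one_mul]
      · obtain ⟨a', ha'⟩ := exists_intCast ((a : ZMod p)⁻¹)
        refine mem_normal_of (K := Wh) (Subgroup.mem_sup_right (Subgroup.zpow_mem _ (Subgroup.mem_zpowers q) a'))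
          le_sup_left ?_
        rw [map_zpow, hje, hπq, (hre.symm.zpow_zpow b a).mul_zpow, ← zpow_mul, ← zpow_mul,
          (hre.symm.zpow_zpow (b * a') (a * a')).eq,
          zpow_congr_mod (hexpW r) (show ((a * a' : ℤ) : ZMod p) = ((1 : ℤ) : ZMod p) by
            push_cast; rw [ha', mul_inv_cancel₀ ha0]), zpow_one,
          zpow_congr_mod (hexpW e) (show ((b * a' : ℤ) : ZMod p) = (j : ZMod p) by
            push_cast; rw [ha', hj, div_eq_mul_inv])]
      · exact fun h => hyeW ((Subgroup.mem_map_iff_mem hιinj).1 h)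
    have hσA : σ ∈ F.autGroup N :=
      autInducedBy_le_autGroup hNS (mem_autInducedBy_normalizer.2 ⟨y, hy.2, hy.1, rfl⟩)
    have hδA : δ ∈ F.autGroup N := mul_mem (inv_mem hτ) (zpow_mem hσA t)
    have hconj : F.IsConj E (imgSub (autHom δ) E) := isConj_imgSub (autGroup_hom_mem hNS hδA) hEN
    have himg : imgSub (autHom δ) E = X.map N2.subtype := by
      show Eb.map (N.subtype.comp δ.toMonoidHom) = _
      rw [← Subgroup.map_map, hXE, ← hXh, Subgroup.map_map]
      rfl
    have hle : N2 ≤ normalizerIn S (imgSub (autHom δ) E) := fun g hg => by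
      refine Subgroup.mem_inf.2 ⟨hN2S hg, ?_⟩
      rw [himg, Subgroup.mem_normalizer_iff]
      intro x
      constructor
      · rintro ⟨x', hx', rfl⟩
        exact ⟨⟨g, hg⟩ * x' * ⟨g, hg⟩⁻¹, hXn.conj_mem x' hx' _, rfl⟩
      · rintro ⟨x', hx', hxe⟩
        refine ⟨(⟨g, hg⟩ : N2)⁻¹ * x' * ⟨g, hg⟩, hXn.conj_mem' x' hx' _, ?_⟩
        show g⁻¹ * (x' : Ω) * g = x
        rw [show (x' : Ω) = g * x * g⁻¹ from hxe]; group
    haveI := finite_normalizerIn (S := S) (imgSub (autHom δ) E)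
    have h1 : Nat.card N2 ≤ Nat.card N :=
      (Subgroup.card_le_of_le hle).trans (hE.2.1.2 _ hconj)
    exact hyN ((Subgroup.eq_of_le_of_card_ge hNN2 h1).ge hy)
  rw [zpow_congr_mod (hexpW e) (show (b : ZMod p) = ((0 : ℤ) : ZMod p) by rw [hb, Int.cast_zero]),
    zpow_zero, one_mul] at hπq
  have hrX : ι r ∈ X := by
    have h1 : ι r ^ a ∈ X := mem_normal_of (K := Wh) hqX le_sup_right (by rw [map_zpow, hπq])
    refine mem_of_zpow ?_ ha0 h1
    rw [← map_pow]
    exact Subgroup.mem_sup_right (Subgroup.mem_map_of_mem ι (Subgroup.mem_sup_left (Subgroup.mem_sup_left (T.pow_mem hG hp2 r))))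
  -- extend the torus
  set R := W ⊔ Subgroup.zpowers r with hR
  have hRcard : Nat.card R ≤ Nat.card W * p :=
    card_sup_zpowers_le (Subgroup.mem_sup_left (Subgroup.mem_sup_left (T.pow_mem hG hp2 r)))
  have hRX : R.map ι = X := by
    rw [hR, Subgroup.map_sup, MonoidHom.map_zpowers]
    exact (eq_sup_zpowers hH le_sup_right hcX hrX hrW).symm
  have hfrN : frattini N = Φ := by rw [hΦ, ← T.fr_top hG hp2, fr_top_eq_frattini hG]
  have hWle : W.map τ.toMonoidHom = W := by
    refine Subgroup.eq_of_le_of_card_ge ?_ (Subgroup.card_map_of_injective τ.injective).ge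
    rintro _ ⟨w, hw, rfl⟩
    have h := hτh (x := (1 : N)) (y := w) (hπt (by simpa using hw)).symm
    have h' := QuotientGroup.eq.1 h
    rw [← map_inv, ← map_mul, map_one, inv_one, one_mul] at h'
    exact (Subgroup.mem_map_iff_mem hιinj).1 h'
  have hτk : τ ∈ keep R W (frattini N) := by
    refine ⟨?_, hWle, ?_⟩
    · refine Subgroup.eq_of_le_of_card_ge ?_ (Subgroup.card_map_of_injective τ.injective).ge
      rw [hR, Subgroup.map_sup, hWle, MonoidHom.map_zpowers]
      refine sup_le le_sup_left (Subgroup.zpowers_le.2 ?_)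
      show τ r ∈ _
      have := mul_mem (Subgroup.mem_sup_right (Subgroup.zpow_mem _ (Subgroup.mem_zpowers r) (n * n)) :
        r ^ (n * n) ∈ R) (Subgroup.mem_sup_left (Subgroup.mem_sup_left T.tr) : (r ^ (n * n))⁻¹ * τ r ∈ R)
      rwa [mul_inv_cancel_left] at this
    · rw [hfrN]; exact T.map_Phi hG hp2 τ
  have hind : autInducedBy S N ≤ layers R W (frattini N) := by
    intro α hα
    obtain ⟨w, hw, hwS, rfl⟩ := mem_autInducedBy_normalizer.1 hα
    set g : N2 := ⟨w, hwS, hw⟩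
    have key : ∀ (x : N) (A B : Subgroup N), x ∈ A → ⁅A.map ι, (⊤ : Subgroup N2)⁆ ≤ B.map ι →
        x⁻¹ * conjAut N w hw x ∈ B := by
      intro x A B hxA hAB
      refine (Subgroup.mem_map_iff_mem hιinj).1 ?_
      rw [map_mul, map_inv, ← hιconj g x,
        show (ι x)⁻¹ * (g * ι x * g⁻¹) = ⁅(ι x)⁻¹, g⁆ by rw [commutatorElement_def]; group]
      exact hAB (Subgroup.commutator_mem_commutator (inv_mem (Subgroup.mem_map_of_mem ι hxA)) (Subgroup.mem_top g))
    have hkeep : conjAut N w hw ∈ keep R W (frattini N) := by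
      refine ⟨?_, hρW w g.2, by rw [hfrN]; exact hρΦ w g.2⟩
      refine Subgroup.eq_of_le_of_card_ge ?_ (Subgroup.card_map_of_injective (conjAut N w hw).injective).ge
      rintro _ ⟨x, hx, rfl⟩
      refine (Subgroup.mem_map_iff_mem hιinj).1 ?_
      show ι (conjAut N w hw x) ∈ R.map ι
      rw [← hιconj g x, hRX]
      exact hXn.conj_mem _ (hRX ▸ Subgroup.mem_map_of_mem ι hx) g
    refine ⟨hkeep, fun x => key x ⊤ R (Subgroup.mem_top x) (by rw [hRX]; exact le_sup_left),
      fun x hx => key x R W hx (by rw [hRX]; exact hXW), fun x hx => key x W _ hx ?_⟩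
    rw [hfrN]
    refine comm_le_of_card_le hH (Subgroup.map_mono le_sup_left) ?_
    rw [Subgroup.card_map_of_injective hιinj, Subgroup.card_map_of_injective hιinj]
    exact card_sup_zpowers_le (Subgroup.mem_sup_left (T.pow_mem hG hp2 v))
  obtain ⟨-, P, hP⟩ := isFullyAutomized_of_isFullyNormalized hS hF hNn
  haveI := finite_autGroup (F := F) hNS
  set U := (layers R W (frattini N)).subgroupOf (F.autGroup N) with hU
  have hUp : IsPGroup p U := by
    haveI : W.Normal := hWn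
    exact (isPGroup_layers hG (hfrN.le.trans le_sup_left)).comap_of_injective _ (F.autGroup N).subtype_injective
  have hUP : U = (P : Subgroup (F.autGroup N)) := P.3 hUp (by rw [hP]; exact fun x hx => hind hx)
  obtain ⟨γ, -, hγx⟩ := exists_extend hS hF hNn hτ fun α hα => by
    have h1 : (⟨τ * α * τ⁻¹, mul_mem (mul_mem hτ (autInducedBy_le_autGroup hNS hα)) (inv_mem hτ)⟩ :
        F.autGroup N) ∈ U := layers_conj (hind hα) hτk
    rw [hUP, hP] at h1
    exact h1
  have hγι : ∀ x : N, γ (ι x) = ι (τ x) := fun x => Subtype.ext (hγx x _)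
  have hιF : ∀ {x : N} {K : Subgroup N}, x ∈ K → ι x ∈ K.map ι := fun h => Subgroup.mem_map_of_mem ι h
  have hgmap : ∀ K : Subgroup N, K.map τ.toMonoidHom ≤ K → (K.map ι).map γ.toMonoidHom ≤ K.map ι := by
    rintro K hK _ ⟨_, ⟨x, hx, rfl⟩, rfl⟩
    show γ (ι x) ∈ _
    rw [hγι]
    exact hιF (hK (Subgroup.mem_map_of_mem τ.toMonoidHom hx))
  have hyv : ⁅yH, ι v⁆ ∈ Φh := by
    rw [← commutatorElement_inv]
    refine inv_mem (comm_le_of_card_le hH (Subgroup.map_mono le_sup_left : Φh ≤ Wh) ?_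
      (Subgroup.commutator_mem_commutator (hιF (Subgroup.mem_sup_right (Subgroup.mem_zpowers v))) (Subgroup.mem_top yH)))
    rw [Subgroup.card_map_of_injective hιinj, Subgroup.card_map_of_injective hιinj]
    exact card_sup_zpowers_le (Subgroup.mem_sup_left (T.pow_mem hG hp2 v))
  have hyz : ⁅yH, ι ⁅r, e⁆⁆ ∈ Fh := by
    rw [← commutatorElement_inv]
    refine inv_mem (comm_le_of_card_le hH (Subgroup.map_mono le_sup_left : Fh ≤ Φh) ?_
      (Subgroup.commutator_mem_commutator (hιF (Subgroup.mem_sup_right (Subgroup.mem_zpowers ⁅r, e⁆))) (Subgroup.mem_top yH)))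
    rw [Subgroup.card_map_of_injective hιinj, Subgroup.card_map_of_injective hιinj]
    exact (T.card_Phi hG).le
  have hyr : ⁅yH, ι r⁆ ∈ Wh := by
    rw [← commutatorElement_inv]
    exact inv_mem (hXW (Subgroup.commutator_mem_commutator hrX (Subgroup.mem_top yH)))
  have hye' : (ι r ^ a)⁻¹ * q ∈ Wh := by
    rw [← mk'_eq_one, map_mul, map_inv, map_zpow, ← hπ, hπq, inv_mul_cancel]
  have U0 : UpData p Fh Nh γ n m a (ι ⁅r, e⁆) (ι e) (ι v) (ι r) yH := by
    refine
      { Fn := hFn, Nn := hNhn, Φn := hΦh_eq ▸ inferInstance, Wn := hWh_eq ▸ hWhn,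
        FN := Subgroup.map_mono le_top, zN := hιF (Subgroup.mem_top _), eN := hιF (Subgroup.mem_top _),
        vN := hιF (Subgroup.mem_top _), rN := hιF (Subgroup.mem_top _), gen := hgen, top := htop,
        yN := fun h => hyN ((hNh_iff yH).1 h), ypN := (hNh_iff _).2 hyp, zc := ?_, vc := ?_, expN := ?_,
        zeq := map_commutatorElement ι r e, zF := ?_, vΦ := ?_, rW := hWh_eq ▸ hrW, yz := hyz,
        yv := hΦh_eq ▸ hyv, yr := hWh_eq ▸ hyr, ye := hWh_eq ▸ hye', a0 := ha0,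
        gF := hgmap _ (by rw [map_fr, T.tE]), gN := hgmap _ le_top, nm := T.nm, n1 := T.n1, n2 := T.n2,
        n3 := T.n3, n5 := T.n5, gz := ?_, ge := ?_, gv := ?_, gr := ?_ }
    · rintro _ ⟨x, -, rfl⟩
      rw [← map_commutatorElement]; exact hιF (T.z_central hG x)
    · rintro _ ⟨x, -, rfl⟩
      rw [← map_commutatorElement]; exact hιF (T.v_central hG x)
    · rintro _ ⟨x, -, rfl⟩
      rw [← map_pow]; exact hιF (T.pow_mem hG hp2 x)
    · intro h
      have := (T.coord hG (a := 1) (b := 0) (c := 0) (by simpa using (Subgroup.mem_map_iff_mem hιinj).1 h)).1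
      rw [Int.cast_one] at this
      exact one_ne_zero this
    · rw [← hΦh_eq]; exact fun h => T.v_notMem hG ((Subgroup.mem_map_iff_mem hιinj).1 h)
    · rw [hγι, ← map_zpow, ← map_inv, ← map_mul]; exact hιF T.tz
    · rw [hγι, ← map_zpow, ← map_inv, ← map_mul]; exact hιF T.te
    · rw [hγι, ← map_inv, ← map_mul]; exact hιF T.tv
    · rw [hγι, ← map_zpow, ← map_inv, ← map_mul, ← hΦh_eq]; exact hιF T.tr
  exact U0.false hH h5 (rank_le_of_le hsr hN2S)

end Cfsg.Agent.Lib.RankThreeEss69
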