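import Cfsg.Agent.Lib.RankThreeEss69.CaseRegular
import Cfsg.Agent.Lib.RankThreeEss69.CaseTorus

/-!
Essential subgroups with three generators are normal in rank three.
-/

set_option autoImplicit false
set_option linter.unusedSectionVars false

namespace Cfsg.Agent.Lib.RankThreeEss69

open Cfsg Cfsg.FusionSystem Cfsg.Agent.Lib.Fusion Cfsg.Agent.Lib.Fusion87 Cfsg.Agent.Lib.FusionOrderFive

universe u

variable {Ω : Type u} [Group Ω] {S : Subgroup Ω} [Finite S] {F : FusionSystem S} {p : ℕ}
  [hp : Fact p.Prime]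

/-- A fully normalised conjugate of an essential subgroup is essential. -/
theorem isEssential_of_map {E E1 : Subgroup Ω} (hE : F.IsEssential p E) {φ : E →* Ω}
    (hφ : φ ∈ F.Hom E) (hr : φ.range = E1) (hn : F.IsFullyNormalized E1) : F.IsEssential p E1 := by
  haveI := finite_autGroup (F := F) hE.1.1
  haveI := finite_autGroup (F := F) hn.1
  obtain ⟨hc, -, hN, H, hH⟩ := hE
  set e := isoOnto φ (F.injective_of_mem hφ) hr with he
  have hA := map_congr_autGroup hφ hr
  set ψ : F.autGroup E ≃* F.autGroup E1 :=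
    ((MulAut.congr e).subgroupMap (F.autGroup E)).trans (MulEquiv.subgroupCongr hA) with hψ
  have hψv : ∀ α : F.autGroup E, (ψ α : MulAut E1) = MulAut.congr e (α : MulAut E) := fun α => rfl
  have hinn : ((Inn E).subgroupOf (F.autGroup E)).map ψ.toMonoidHom = (Inn E1).subgroupOf (F.autGroup E1) := by
    ext β
    constructor
    · rintro ⟨α, ⟨g, hg⟩, rfl⟩
      refine ⟨e g, ?_⟩
      show MulAut.conj (e g) = _
      rw [show (((F.autGroup E1).subtype (ψ.toMonoidHom α)) : MulAut E1) = MulAut.congr e (MulAut.conj g) by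
        show (ψ α : MulAut E1) = _
        rw [hψv]; exact congrArg _ hg.symm]
      exact MulEquiv.ext fun x => by simp [MulAut.congr]
    · rintro ⟨g, hg⟩
      refine ⟨ψ.symm β, ⟨e.symm g, ?_⟩, ψ.apply_symm_apply β⟩
      apply (MulAut.congr e).injective
      rw [show MulAut.congr e ((F.autGroup E).subtype (ψ.symm β)) = (β : MulAut E1) by
        rw [Subgroup.coe_subtype, ← hψv, MulEquiv.apply_symm_apply]]
      rw [show (β : MulAut E1) = MulAut.conj g from hg.symm]
      exact MulEquiv.ext fun x => by simp [MulAut.congr]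
  haveI := hN
  haveI hN1 : ((Inn E1).subgroupOf (F.autGroup E1)).Normal := hinn ▸ hN.map _ ψ.surjective
  exact ⟨isCentric_of_isConj hc ⟨φ, hφ, hr⟩, hn, hN1, _,
    Fusion87.isStronglyPEmbedded_map hH (QuotientGroup.congr _ _ ψ hinn)⟩

/-- The conclusion. -/
theorem normalizer_of_rank_three (h5 : 5 ≤ p) (hS : IsPGroup p S)
    (hsr : Cfsg.SectionalPRankLE p 3 S) (hF : F.IsSaturated p) {E : Subgroup Ω}
    (hE : F.IsEssential p E) (hrk : (frattini E).index = p ^ 3) : normalizerIn S E = S := by
  by_contra hne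
  by_cases hreg : Regular p (E.subgroupOf (normalizerIn S E))
  · exact false_of_regular h5 hS hsr hF hE hrk hne hreg
  obtain ⟨Q, ⟨φ, hφ, hφQ⟩, hQ⟩ := exists_isFullyNormalized_conj F (inf_le_left : normalizerIn S E ≤ S)
  have hEN : E ≤ normalizerIn S E := le_normalizerIn hE.1.1
  haveI : Finite E := finite_of_le hE.1.1
  haveI : Finite Q := finite_of_le hQ.1
  set E1 := imgSub φ E with hE1
  have hconj : F.IsConj E E1 := isConj_imgSub hφ hEN
  have hE1S : E1 ≤ S := isConj_le_right hconj
  haveI : Finite E1 := finite_of_le hE1S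
  haveI := finite_normalizerIn (S := S) E1
  have hQle : Q ≤ normalizerIn S E1 := by
    intro q hq
    obtain ⟨x, rfl⟩ := hφQ.ge hq
    exact apply_mem_normalizerIn hφ x x.2.2
  have hcQ : Nat.card Q = Nat.card (normalizerIn S E) := isConj_card ⟨φ, hφ, hφQ⟩
  have hQeq : normalizerIn S E1 = Q :=
    (Subgroup.eq_of_le_of_card_ge hQle (by rw [hcQ]; exact hE.2.1.2 _ hconj)).symm
  have hn1 : F.IsFullyNormalized E1 := ⟨hE1S, fun R hR => by
    rw [hQeq, hcQ]
    exact hE.2.1.2 _ (isConj_trans hconj hR)⟩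
  have hr : (φ.comp (Subgroup.inclusion hEN)).range = E1 := range_restrict φ hEN
  have hE' : F.IsEssential p E1 := isEssential_of_map hE (restrict_mem hφ hEN) hr hn1
  have hrk' : (frattini E1).index = p ^ 3 := by
    set e := isoOnto (φ.comp (Subgroup.inclusion hEN)) (F.injective_of_mem (restrict_mem hφ hEN)) hr
    rw [← hrk, ← fr_top_eq_frattini (hS.to_le hE1S), ← fr_top_eq_frattini (hS.to_le hE.1.1),
      ← Subgroup.index_map_equiv (fr p (⊤ : Subgroup E)) e]
    congr 1
    rw [map_fr, Subgroup.map_top_of_surjective (e : E →* E1) e.surjective]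
  have hne' : normalizerIn S E1 ≠ S := fun h => hne (Subgroup.eq_of_le_of_card_ge inf_le_left (by
    rw [← hcQ, ← hQeq, h]))
  by_cases hreg' : Regular p (E1.subgroupOf (normalizerIn S E1))
  · exact false_of_regular h5 hS hsr hF hE' hrk' hne' hreg'
  exact false_of_transvection h5 hS hsr hF hE' hrk' hne' hreg' (by rw [hQeq]; exact hQ)

end Cfsg.Agent.Lib.RankThreeEss69
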