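import Cfsg.Agent.Lib.RankThreeEss69.Basic

/-!
Subgroups of index `p` with three generators, and how two of them meet.
-/

set_option autoImplicit false
set_option linter.unusedSectionVars false

namespace Cfsg.Agent.Lib.RankThreeEss69

open Subgroup
open scoped commutatorElement

variable {G : Type*} [Group G] {p : ℕ}

/-- A normal subgroup of index `p` needing three generators. -/
structure Idx (p : ℕ) (E : Subgroup G) : Prop where
  normal : E.Normal
  index : E.index = p
  card : Nat.card E = Nat.card (fr p E) * p ^ 3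

/-- Some element outside acts on `E / fr E` with a block of size three. -/
def Regular (p : ℕ) (E : Subgroup G) : Prop :=
  ∃ x : G, ∃ u ∈ E, ⁅x, ⁅x, u⁆⁆ ∉ fr p E

theorem map_aut_idx (σ : MulAut G) {E : Subgroup G} (h : Idx p E) :
    Idx p (E.map σ.toMonoidHom) := by
  refine ⟨h.normal.map _ σ.surjective, ?_, ?_⟩
  · rw [← h.index]; exact E.index_map_equiv σ
  · rw [card_map_of_injective σ.injective, ← map_fr, card_map_of_injective σ.injective, h.card]

theorem map_aut_regular (σ : MulAut G) {E : Subgroup G} (h : Regular p E) :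
    Regular p (E.map σ.toMonoidHom) := by
  obtain ⟨x, u, hu, h⟩ := h
  refine ⟨σ x, σ u, mem_map_of_mem _ hu, fun h' => h ?_⟩
  rw [← map_fr, ← map_commutatorElement σ, ← map_commutatorElement σ] at h'
  obtain ⟨y, hy, hye⟩ := h'
  exact σ.injective hye ▸ hy

theorem conj_comm (R a b : G) : R * ⁅a, b⁆ * R⁻¹ = ⁅R * a * R⁻¹, R * b * R⁻¹⁆ := by
  simp only [commutatorElement_def]; group

variable [hp : Fact p.Prime] [Finite G] (hG : IsPGroup p G)
include hG

omit hp hG in
theorem Idx.card_top {E : Subgroup G} (h : Idx p E) : Nat.card G = Nat.card E * p := by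
  rw [← E.card_mul_index, h.index]

theorem Idx.comm_mem {E : Subgroup G} (h : Idx p E) (x y : G) : ⁅x, y⁆ ∈ E := by
  haveI := h.normal
  exact comm_le_of_card_le hG le_top (by rw [Subgroup.card_top, h.card_top])
    (commutator_mem_commutator (mem_top x) (mem_top y))

omit hp hG in
theorem Idx.pow_mem {E : Subgroup G} (h : Idx p E) (x : G) : x ^ p ∈ E := by
  haveI := h.normal
  rw [← h.index]; exact pow_index_mem E x

theorem Idx.top_eq {E : Subgroup G} (h : Idx p E) {x : G} (hx : x ∉ E) :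
    (⊤ : Subgroup G) = E ⊔ zpowers x :=
  eq_sup_zpowers hG le_top (by rw [Subgroup.card_top, h.card_top]) (mem_top x) hx

/-- A subgroup of `A` generating `A` together with `fr A` is everything. -/
theorem le_of_le_sup_fr {X A : Subgroup G} (hX : X ≤ A) (h : A ≤ X ⊔ fr p A) : A ≤ X := by
  have hA := hG.to_subgroup A
  have hfr : fr p A ≤ (frattini A).map A.subtype := by
    have e : fr p A = (fr p (⊤ : Subgroup A)).map A.subtype := by
      rw [map_fr, ← MonoidHom.range_eq_map, range_subtype]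
    rw [e]
    refine map_mono (fr_le_of (fun x _ => PFrattini.pow_mem_frattini hA x) fun x _ y _ => ?_)
    exact PFrattini.commutator_le_frattini hA (commutator_mem_commutator (mem_top x) (mem_top y))
  have htop : X.subgroupOf A ⊔ frattini A = ⊤ := by
    apply map_injective A.subtype_injective
    rw [Subgroup.map_sup, subgroupOf_map_subtype, inf_of_le_left hX, ← MonoidHom.range_eq_map,
      range_subtype]
    exact le_antisymm (sup_le hX (map_subtype_le _)) (h.trans (sup_le_sup_left hfr _))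
  exact subgroupOf_eq_top.1 (frattini_nongenerating htop)

omit hG in
/-- Two elements commuting modulo `K` add at most two steps. -/
theorem card_gen2_le {K : Subgroup G} [K.Normal] {x y : G} (hxy : ⁅x, y⁆ ∈ K) (hx : x ^ p ∈ K)
    (hy : y ^ p ∈ K) : Nat.card (K ⊔ zpowers x ⊔ zpowers y : Subgroup G) ≤ Nat.card K * p ^ 2 := by
  rw [← SectRank.card_mul_relIndex_of_le K _ (le_sup_left.trans le_sup_left)]
  refine Nat.mul_le_mul_left _ ?_
  set π := QuotientGroup.mk' K with hπ
  have e : K.relIndex (K ⊔ zpowers x ⊔ zpowers y) =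
      Nat.card ((K ⊔ zpowers x ⊔ zpowers y).map π) := by
    conv_lhs => rw [← QuotientGroup.ker_mk' K, relIndex_ker]
    rw [QuotientGroup.ker_mk']
  rw [e, Subgroup.map_sup, Subgroup.map_sup, hπ, QuotientGroup.map_mk'_self, bot_sup_eq,
    MonoidHom.map_zpowers, MonoidHom.map_zpowers]
  have hc : ∀ (a : zpowers (π x)) (b : zpowers (π y)),
      Commute ((zpowers (π x)).subtype a) ((zpowers (π y)).subtype b) := by
    rintro ⟨_, i, rfl⟩ ⟨_, j, rfl⟩
    exact (commute_mk' hxy).zpow_zpow i j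
  have hr : ((zpowers (π x)).subtype.noncommCoprod (zpowers (π y)).subtype hc).range =
      zpowers (π x) ⊔ zpowers (π y) := by
    rw [MonoidHom.noncommCoprod_range, range_subtype, range_subtype]
  rw [← hr]
  refine (Nat.card_le_card_of_surjective _ (MonoidHom.rangeRestrict_surjective _)).trans ?_
  rw [Nat.card_prod, Nat.card_zpowers, Nat.card_zpowers, sq]
  exact Nat.mul_le_mul (orderOf_le_of_pow_eq_one hp.out.pos (by rw [← map_pow, mk'_eq_one]; exact hx))
    (orderOf_le_of_pow_eq_one hp.out.pos (by rw [← map_pow, mk'_eq_one]; exact hy))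

theorem Idx.not_two_gen {A : Subgroup G} (h : Idx p A) {x y : G} (hx : x ∈ A) (hy : y ∈ A)
    (hle : A ≤ fr p A ⊔ zpowers x ⊔ zpowers y) : False := by
  haveI := h.normal
  have h1 := (card_le_of_le hle).trans
    (card_gen2_le (comm_mem_fr hx hy) (pow_mem_fr hx) (pow_mem_fr hy))
  rw [h.card] at h1
  exact absurd (Nat.le_of_mul_le_mul_left h1 Nat.card_pos)
    (_root_.not_le.2 (Nat.pow_lt_pow_right hp.out.one_lt (by norm_num)))

section Meet

variable {E A : Subgroup G} (iE : Idx p E) (iA : Idx p A) (hne : E ≠ A)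
include iE iA hne

theorem not_le : ¬ A ≤ E := fun h => by
  refine hne (eq_of_le_of_card_ge h ?_).symm
  exact (Nat.eq_of_mul_eq_mul_right hp.out.pos (iE.card_top.symm.trans iA.card_top)).le

theorem card_inf : Nat.card (E ⊓ A : Subgroup G) * p = Nat.card A := by
  haveI := iE.normal
  have hlt : E ⊓ A < A := lt_of_le_of_ne inf_le_right fun e =>
    not_le hG iE iA hne (e.ge.trans inf_le_left)
  refine le_antisymm (card_mul_le' hG hlt) ?_
  rw [← SectRank.card_mul_relIndex_of_le (E ⊓ A) A inf_le_right, inf_relIndex_right]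
  exact Nat.mul_le_mul_left _ (Nat.le_of_dvd hp.out.pos
    ((relIndex_dvd_index_of_normal E A).trans iE.index.dvd))

theorem card_inf_fr : Nat.card (E ⊓ A : Subgroup G) = Nat.card (fr p E) * p ^ 2 := by
  refine Nat.eq_of_mul_eq_mul_right hp.out.pos ?_
  rw [inf_comm, card_inf hG iA iE hne.symm, iE.card]; ring

theorem fr_le_inf : fr p E ≤ E ⊓ A :=
  le_inf fr_le (fr_le_of (fun x _ => iA.pow_mem x) fun x _ y _ => iA.comm_mem hG x y)

/-- The image of `fr E` modulo `fr A` has order at most `p`. -/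
theorem card_fr_sup_le : Nat.card (fr p E ⊔ fr p A : Subgroup G) ≤ Nat.card (fr p A) * p := by
  haveI := iE.normal
  haveI := iA.normal
  have hle : fr p E ⊔ fr p A ≤ E ⊓ A :=
    sup_le (fr_le_inf hG iE iA hne) (le_inf (fr_le_of (fun x _ => iE.pow_mem x) fun x _ y _ => iE.comm_mem hG x y) fr_le)
  have hWA : Nat.card (E ⊓ A : Subgroup G) = Nat.card (fr p A) * p ^ 2 := by
    rw [inf_comm]; exact card_inf_fr hG iA iE hne.symm
  have hlt : fr p E ⊔ fr p A < E ⊓ A := by
    refine lt_of_le_of_ne hle fun heq => ?_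
    obtain ⟨f, hfA, hfE⟩ := SetLike.not_le_iff_exists.1 (not_le hG iE iA hne)
    have hA : A = E ⊓ A ⊔ zpowers f :=
      eq_sup_zpowers hG inf_le_right (card_inf hG iE iA hne).ge hfA fun h => hfE h.1
    have hgen : A ≤ fr p E ⊔ zpowers f := le_of_le_sup_fr hG
      (sup_le ((fr_le_inf hG iE iA hne).trans inf_le_right) (zpowers_le.2 hfA))
      (hA.le.trans (by
        rw [← heq]
        exact sup_le (sup_le (le_sup_left.trans le_sup_left) le_sup_right)
          ((le_sup_right : zpowers f ≤ fr p E ⊔ zpowers f).trans le_sup_left)))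
    have hW : E ⊓ A ≤ fr p E ⊔ zpowers (f ^ p) := by
      intro w hw
      obtain ⟨k, hk, i, rfl⟩ := exists_of_mem_sup (hgen hw.2)
      have hi : f ^ i ∈ E := by simpa using E.mul_mem (E.inv_mem (fr_le hk)) hw.1
      refine mul_mem (mem_sup_left hk) (mem_sup_right ?_)
      by_cases h0 : (i : ZMod p) = 0
      · obtain ⟨j, rfl⟩ := (ZMod.intCast_zmod_eq_zero_iff_dvd _ _).1 h0
        exact mem_zpowers_iff.2 ⟨j, by rw [← zpow_natCast, ← zpow_mul]⟩
      · exact absurd (mem_of_zpow (iE.pow_mem f) h0 hi) hfE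
    have h1 := (card_le_of_le hW).trans (card_sup_zpowers_le (pow_mem_fr (iE.pow_mem f)))
    rw [card_inf_fr hG iE iA hne, sq, ← mul_assoc] at h1
    have h2 := Nat.le_of_mul_le_mul_left
      (h1.trans_eq (mul_one _).symm) (Nat.mul_pos Nat.card_pos hp.out.pos)
    exact absurd h2 (_root_.not_le.2 hp.out.one_lt)
  have h := card_mul_le' hG hlt
  rw [hWA, sq, ← mul_assoc] at h
  exact Nat.le_of_mul_le_mul_right h hp.out.pos

/-- `fr E` is central of exponent `p` modulo `fr A`. -/
theorem frattini_bound : pw p (fr p E) ⊔ ⁅fr p E, (⊤ : Subgroup G)⁆ ≤ fr p A := by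
  haveI := iE.normal
  haveI := iA.normal
  have h := card_fr_sup_le hG iE iA hne
  refine sup_le ((closure_le _).2 ?_)
    ((commutator_mono le_sup_left le_rfl).trans (comm_le_of_card_le hG le_sup_right h))
  rintro _ ⟨x, hx, rfl⟩
  exact pow_mem_of_card_le hG le_sup_right h (mem_sup_left hx)

/-- Commutators of the meet with the whole group lie one step lower. -/
theorem card_comm_inf : Nat.card (⁅E ⊓ A, (⊤ : Subgroup G)⁆ ⊔ fr p E : Subgroup G) ≤
    Nat.card (fr p E) * p := by
  haveI := iE.normal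
  haveI := iA.normal
  have hlt : ⁅E ⊓ A, (⊤ : Subgroup G)⁆ ⊔ fr p E < E ⊓ A := by
    refine lt_of_le_of_ne (sup_le (commutator_le_left _ _) (fr_le_inf hG iE iA hne)) fun e => ?_
    have h1 := card_le_of_le (le_of_le_comm_sup hG e.ge)
    rw [card_inf_fr hG iE iA hne] at h1
    exact absurd (Nat.le_of_mul_le_mul_left (h1.trans_eq (mul_one _).symm) Nat.card_pos)
      (_root_.not_le.2 (Nat.one_lt_pow two_ne_zero hp.out.one_lt))
  have h := card_mul_le' hG hlt
  rw [card_inf_fr hG iE iA hne, sq, ← mul_assoc] at h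
  exact Nat.le_of_mul_le_mul_right h hp.out.pos

theorem comm_comm_inf :
    ⁅⁅E ⊓ A, (⊤ : Subgroup G)⁆ ⊔ fr p E, (⊤ : Subgroup G)⁆ ≤ fr p E := by
  haveI := iE.normal
  haveI := iA.normal
  exact comm_le_of_card_le hG le_sup_right (card_comm_inf hG iE iA hne)

end Meet

/-- In the regular case every element outside `E` has a full block, from every element of `E`
outside a second subgroup. -/
theorem regular_mem {E A : Subgroup G} (iE : Idx p E) (iA : Idx p A) (hne : E ≠ A)
    (hreg : Regular p E) {r e : G} (hr : r ∉ E) (he : e ∈ E) (heA : e ∉ A) :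
    ⁅r, ⁅r, e⁆⁆ ∉ fr p E := by
  haveI := iE.normal
  haveI := iA.normal
  intro hde
  obtain ⟨x, u, hu, hxu⟩ := hreg
  refine hxu ?_
  set π := QuotientGroup.mk' (fr p E) with hπ
  have hab : ∀ a ∈ E, ∀ b ∈ E, Commute (π a) (π b) := fun a ha b hb =>
    commute_mk' (comm_mem_fr ha hb)
  set R := π r with hR
  have hd : ∀ v, v ∈ E → R * π v * R⁻¹ = π ⁅r, v⁆ * π v := fun v _ => by
    rw [hR, ← map_inv, ← map_mul, ← map_mul, ← map_mul, conj_eq_comm_mul]
  have hcE : ∀ v ∈ E, ⁅r, v⁆ ∈ E := fun v _ => iE.comm_mem hG r v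
  have hfix : ∀ v ∈ E, Commute R (π ⁅r, v⁆) := by
    intro v hv
    have hEW : E = E ⊓ A ⊔ zpowers e := eq_sup_zpowers hG inf_le_left
      (by rw [inf_comm]; exact (card_inf hG iA iE hne.symm).ge) he fun h => heA h.2
    obtain ⟨w, hw, i, rfl⟩ := exists_of_mem_sup (hEW.le hv)
    have e1 : Commute R (π ⁅r, e⁆) := commute_mk' hde
    have e2 : Commute R (π ⁅r, w⁆) := by
      refine commute_mk' ?_
      rw [← commutatorElement_inv]
      refine inv_mem (comm_comm_inf hG iE iA hne (commutator_mem_commutator (mem_sup_left ?_) (mem_top r)))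
      rw [← commutatorElement_inv]
      exact inv_mem (commutator_mem_commutator hw (mem_top r))
    have e3 : π ⁅r, w * e ^ i⁆ = π ⁅r, w⁆ * π ⁅r, e⁆ ^ i := by
      have h1 := hd _ hv
      rw [map_mul π w, map_zpow] at h1
      rw [show R * (π w * π e ^ i) * R⁻¹ = R * π w * R⁻¹ * (R * π e * R⁻¹) ^ i by
        rw [conj_zpow]; group, hd w hw.1, hd e he, (hab _ (hcE e he) _ he).mul_zpow] at h1
      rw [← mul_left_inj (π w * π e ^ i), ← h1]
      have hc : Commute (π w) (π ⁅r, e⁆ ^ i) := (hab _ hw.1 _ (hcE e he)).zpow_right i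
      simp only [mul_assoc]
      rw [hc.left_comm]
    rw [e3]
    exact e2.mul_right (e1.zpow_right i)
  obtain ⟨u0, hu0, j, rfl⟩ := exists_of_mem_sup ((iE.top_eq hG hr).le (mem_top x))
  have hconj : ∀ n : ℤ, R ^ n * π u * (R ^ n)⁻¹ = π ⁅r, u⁆ ^ n * π u := by
    intro n
    induction n using Int.induction_on with
    | zero => simp
    | succ n ih =>
      rw [zpow_add_one, show R ^ (n : ℤ) * R * π u * (R ^ (n : ℤ) * R)⁻¹ =
        R * (R ^ (n : ℤ) * π u * (R ^ (n : ℤ))⁻¹) * R⁻¹ by group, ih,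
        show R * (π ⁅r, u⁆ ^ (n : ℤ) * π u) * R⁻¹ =
          (R * π ⁅r, u⁆ ^ (n : ℤ) * R⁻¹) * (R * π u * R⁻¹) by group,
        ((hfix u hu).zpow_right _).eq, mul_inv_cancel_right, hd u hu, ← mul_assoc, ← zpow_add_one]
    | pred n ih =>
      have hi : R⁻¹ * π u * R = (π ⁅r, u⁆)⁻¹ * π u := by
        have h1 := hd u hu
        have h2 : Commute R⁻¹ (π ⁅r, u⁆)⁻¹ := (hfix u hu).inv_left.inv_right
        calc R⁻¹ * π u * R = R⁻¹ * (π ⁅r, u⁆)⁻¹ * (π ⁅r, u⁆ * π u) * R := by group
          _ = R⁻¹ * (π ⁅r, u⁆)⁻¹ * (R * π u * R⁻¹) * R := by rw [h1]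
          _ = (π ⁅r, u⁆)⁻¹ * π u := by rw [h2.eq]; group
      rw [zpow_sub_one, show R ^ (-(n : ℤ)) * R⁻¹ * π u * (R ^ (-(n : ℤ)) * R⁻¹)⁻¹ =
        R⁻¹ * (R ^ (-(n : ℤ)) * π u * (R ^ (-(n : ℤ)))⁻¹) * R by group, ih,
        show R⁻¹ * (π ⁅r, u⁆ ^ (-(n : ℤ)) * π u) * R =
          (R⁻¹ * π ⁅r, u⁆ ^ (-(n : ℤ)) * R) * (R⁻¹ * π u * R) by group,
        ((hfix u hu).inv_left.zpow_right _).eq, inv_mul_cancel_right, hi, ← mul_assoc, ← zpow_sub_one]
  rw [comm_mem_iff]
  show Commute (π (u0 * r ^ j)) (π ⁅u0 * r ^ j, u⁆)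
  have hu' : π ⁅u0 * r ^ j, u⁆ = π ⁅r, u⁆ ^ j := by
    rw [map_commutatorElement, map_mul, map_zpow, commutatorElement_def, mul_inv_rev,
      show π u0 * R ^ j * π u * ((R ^ j)⁻¹ * (π u0)⁻¹) * (π u)⁻¹ =
        π u0 * (R ^ j * π u * (R ^ j)⁻¹) * (π u0)⁻¹ * (π u)⁻¹ by group, hconj,
      (((hab _ hu0 _ (hcE u hu)).zpow_right j).mul_right (hab _ hu0 _ hu)).eq,
      mul_inv_cancel_right, mul_inv_cancel_right]
  rw [hu', map_mul, map_zpow]
  exact (((hab _ hu0 _ (hcE u hu)).zpow_right j)).mul_left ((hfix u hu).zpow_zpow j j)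

end Cfsg.Agent.Lib.RankThreeEss69
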