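import Cfsg.Agent.Lib.RankThreeEss69.TData

/-!
The element moved with weight `n ^ 2` lies in every subgroup of index `p` not containing `v`.
-/

set_option autoImplicit false
set_option linter.unusedSectionVars false

namespace Cfsg.Agent.Lib.RankThreeEss69

open Subgroup
open scoped commutatorElement

variable {G : Type*} [Group G] {p : ℕ}

theorem normal_between {E X : Subgroup G} (h1 : D1 p E ≤ X) (h2 : X ≤ fr p E) : X.Normal :=
  normal_of_comm_mem fun x hx g => h1 (by
    rw [← commutatorElement_inv]; exact inv_mem (comm_mem_D1 (h2 hx) g))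

/-- A subgroup of `fr E` above `D1 E` is moved by an element only inside itself. -/
theorem mem_normal_of {K X : Subgroup G} [K.Normal] {x : G} (hx : x ∈ X) (hK : K ≤ X)
    {y : G} (h : QuotientGroup.mk' K y = QuotientGroup.mk' K x) : y ∈ X := by
  have h1 : x⁻¹ * y ∈ K := (QuotientGroup.eq).1 h.symm
  simpa using X.mul_mem hx (hK h1)

namespace TData

variable {E : Subgroup G} {τ : MulAut G} {n m : ℤ} {r e v : G}
variable [hp : Fact p.Prime] [Finite G] (hG : IsPGroup p G) (T : TData p E τ n m r e v)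
include hG T

theorem r_mem (h5 : 5 ≤ p) (hr : Cfsg.SectionalPRankLE p 3 G) {A : Subgroup G} (iA : Idx p A)
    (hne : E ≠ A) (hv : v ∉ A) : r ∈ A := by
  haveI := T.iE.normal
  haveI := iA.normal
  have hp2 : p ≠ 2 := by omega
  set z := ⁅r, e⁆ with hz
  have hzE : z ∈ E := T.z_mem hG
  have hΦA := T.Phi_le hG iA hne
  have hzA : z ∈ A := hΦA (mem_sup_right (mem_zpowers z))
  obtain ⟨f, hf, l', hrf⟩ := exists_of_mem_sup ((iA.top_eq hG hv).le (mem_top r))
  set l : ℤ := -l' with hl
  have hfl : r * v ^ l ∈ A := by rw [hrf, hl, zpow_neg, mul_inv_cancel_right]; exact hf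
  obtain ⟨y, hy, j', hey⟩ := exists_of_mem_sup ((iA.top_eq hG hv).le (mem_top e))
  set j : ℤ := -j' with hj
  have hej : e * v ^ j ∈ A := by rw [hey, hj, zpow_neg, mul_inv_cancel_right]; exact hy
  have hejE : e * v ^ j ∈ E := E.mul_mem T.eE (E.zpow_mem T.vE j)
  -- the two congruence subgroups
  set K' := fr p A ⊓ fr p E with hK'
  have hbound := frattini_bound hG T.iE iA hne
  have hD1A : D1 p E ≤ fr p A := sup_le (sup_le (le_sup_left.trans hbound)
    (((commutator_mono le_rfl le_top).trans le_sup_right).trans hbound)) (le_sup_right.trans hbound)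
  have hD1K : D1 p E ≤ K' := le_inf hD1A (D1_le E)
  haveI : K'.Normal := by rw [hK']; infer_instance
  have hcard' : Nat.card (fr p E) ≤ Nat.card K' * p := by
    rw [← SectRank.card_mul_relIndex_of_le K' (fr p E) inf_le_right, hK', inf_relIndex_right]
    refine Nat.mul_le_mul_left _ ?_
    rw [← relIndex_sup_right (fr p E) (fr p A)]
    have h := card_fr_sup_le hG T.iE iA hne
    rw [← SectRank.card_mul_relIndex_of_le (fr p A) (fr p E ⊔ fr p A) le_sup_right] at h
    exact Nat.le_of_mul_le_mul_left h Nat.card_pos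
  have hnot : ¬ fr p E ≤ fr p A := by
    intro h
    have hfE : r * v ^ l ∉ E := fun h' => T.rE (by simpa using E.mul_mem h' (E.inv_mem (E.zpow_mem T.vE l)))
    have hzf : z ∈ fr p A := by
      set π := QuotientGroup.mk' (fr p E)
      have hc : ∀ (i : ℤ) (q : G ⧸ fr p E), Commute (π v ^ i) q := fun i q =>
        QuotientGroup.induction_on q fun g => (commute_mk' (T.v_central hG g)).zpow_left i
      refine mem_normal_of (K := fr p E) (comm_mem_fr hfl hej) h ?_
      rw [map_commutatorElement, map_commutatorElement, map_mul, map_mul, map_zpow, map_zpow,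
        comm_central (hc l) (hc j)]
    have hA : A = E ⊓ A ⊔ zpowers (r * v ^ l) :=
      eq_sup_zpowers hG inf_le_right (card_inf hG T.iE iA hne).ge hfl fun h' => hfE h'.1
    refine iA.not_two_gen hG hfl hej (hA.le.trans (sup_le ?_ ?_))
    · haveI : (fr p E ⊔ zpowers z).Normal := sup_zpowers_normal (T.z_central hG)
      have hW : E ⊓ A = fr p E ⊔ zpowers z ⊔ zpowers (e * v ^ j) := by
        refine eq_sup_zpowers hG (le_inf (sup_le fr_le (zpowers_le.2 hzE)) hΦA) ?_ ⟨hejE, hej⟩ ?_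
        · rw [card_inf_fr hG T.iE iA hne, T.card_Phi hG, sq, mul_assoc]
        · intro h'
          obtain ⟨k, hk, i, hi⟩ := exists_of_mem_sup h'
          have := (T.coord hG (a := -i) (b := 1) (c := j) (by
            rw [zpow_one, mul_assoc, hi, zpow_neg]
            have := Normal.conj_mem (H := fr p E) inferInstance k hk (z ^ i)⁻¹
            simpa [mul_assoc] using this)).2.1
          rw [Int.cast_one] at this
          exact one_ne_zero this
      rw [hW]
      exact sup_le (sup_le (h.trans (le_sup_left.trans le_sup_left))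
        ((zpowers_le.2 hzf).trans (le_sup_left.trans le_sup_left))) le_sup_right
    · exact (le_sup_right : zpowers (r * v ^ l) ≤ fr p A ⊔ zpowers (r * v ^ l)).trans le_sup_left
  have hK'lt : Nat.card K' * p ≤ Nat.card (fr p E) := card_mul_le' hG
    (lt_of_le_of_ne inf_le_right fun h => hnot (h.ge.trans inf_le_left))
  -- facts modulo `D1`
  set π := QuotientGroup.mk' (D1 p E) with hπ
  have hEm : ∀ {x}, x ∈ E → π x ∈ E.map π := fun h => mem_map_of_mem π h
  have T2 : Two p (E.map π) := two_map le_sup_right (commutator_le.2 fun x hx y _ => comm_mem_D1 hx y)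
    fun x hx => mem_sup_left (pow_mem_frK hx)
  have cen : ∀ x ∈ fr p E, ∀ g, Commute (π x) (π g) := fun x hx g => commute_mk' (comm_mem_D1 hx g)
  have powF : ∀ x ∈ fr p E, π x ^ p = 1 := fun x hx => by
    rw [← map_pow]; exact mk'_eq_one.2 (mem_sup_left (pow_mem_frK hx))
  set R := π r with hR
  have cr : ∀ y : G, R * π y * R⁻¹ = π ⁅r, y⁆ * π y := fun y => by
    rw [hR, ← map_inv, ← map_mul, ← map_mul, ← map_mul, conj_eq_comm_mul]
  have fixF : ∀ x ∈ fr p E, R * π x * R⁻¹ = π x := fun x hx => by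
    rw [(cen x hx r).symm.eq, mul_inv_cancel_right]
  have hzp : π z ^ p = 1 := by
    have h := fixF _ (pow_mem_fr T.eE)
    rw [map_pow, ← conj_pow, cr, T2.mul_pow_eq hp2 (hEm hzE) (hEm T.eE)] at h
    exact mul_eq_right.1 h
  have hzv : ⁅π z, π v⁆ = 1 := by
    have h := fixF _ (comm_mem_fr T.eE T.vE)
    have hφ : ∀ q, Commute (π ⁅r, v⁆) q := fun q => QuotientGroup.induction_on q fun g => cen _ T.rv g
    rw [map_commutatorElement, conj_comm, cr e, cr v, ← (hφ (π v)).eq.symm, ← mul_one (π z * π e),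
      comm_central (fun q => Commute.one_left q) hφ, T2.cl (hEm hzE) (hEm T.eE) (hEm T.vE)] at h
    exact mul_eq_right.1 h
  haveI : (fr p E ⊔ zpowers z).Normal := sup_zpowers_normal (T.z_central hG)
  have hΦp : ∀ x ∈ fr p E ⊔ zpowers z, π x ^ p = 1 := fun x hx => by
    obtain ⟨k, hk, i, rfl⟩ := exists_of_mem_sup hx
    rw [map_mul, map_zpow, ((cen k hk z).zpow_right i).mul_pow, powF k hk, one_mul, ← zpow_natCast,
      ← zpow_mul, mul_comm, zpow_mul, zpow_natCast, hzp, one_zpow]
  have hom : ∀ a b : G, (π a * π b) ^ p = π a ^ p * π b ^ p := fun a b =>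
    mul_pow_class3 h5 (Z1 := fr p E) (Z2 := fr p E ⊔ zpowers z) le_sup_right
      (commutator_le.2 fun x hx g _ => by
        obtain ⟨k, hk, i, rfl⟩ := exists_of_mem_sup hx
        rw [comm_mem_iff, map_mul, show QuotientGroup.mk' (fr p E) k = 1 from mk'_eq_one.2 hk, one_mul,
          map_zpow]
        exact (commute_mk' (T.z_central hG g)).zpow_left i)
      (commutator_le.2 fun x _ y _ => T.comm_mem hG x y)
      (fun x hx => mk'_eq_one.1 (by rw [map_pow]; exact hΦp x hx)) a b
  have hpz : ∀ (x : G) (i : ℤ), π (x ^ i) ^ p = π (x ^ p) ^ i := fun x i => by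
    rw [map_zpow, map_pow, ← zpow_natCast, ← zpow_mul, mul_comm, zpow_mul, zpow_natCast]
  have hzvK : ⁅z, v⁆ ∈ D1 p E := by rw [← mk'_eq_one, map_commutatorElement]; exact hzv
  have hezK : ⁅e, z⁆ ∈ K' := by
    refine mem_normal_of (K := D1 p E) (X := K') (x := ⁅e * v ^ j, z⁆)
      ⟨comm_mem_fr hej hzA, comm_mem_fr hejE hzE⟩ hD1K ?_
    rw [map_commutatorElement π e z, map_commutatorElement π (e * v ^ j) z, map_mul, map_zpow,
      T2.cl (hEm T.eE) (zpow_mem (hEm T.vE) j) (hEm hzE), T2.zl (hEm T.vE) (hEm hzE),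
      show ⁅π v, π z⁆ = 1 by rw [← commutatorElement_inv, hzv, inv_one], one_zpow, mul_one]
  have hrzK : ⁅r, z⁆ ∈ K' := by
    refine mem_normal_of (K := D1 p E) (X := K') (x := ⁅r * v ^ l, z⁆) (Subgroup.mem_inf.2 ⟨comm_mem_fr hfl hzA, ?_⟩) hD1K ?_
    · rw [← commutatorElement_inv]; exact inv_mem (T.z_central hG _)
    rw [map_commutatorElement π r z, map_commutatorElement π (r * v ^ l) z, map_mul, map_zpow,
      show ⁅π r * π v ^ l, π z⁆ = π r * ⁅π v ^ l, π z⁆ * (π r)⁻¹ * ⁅π r, π z⁆ by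
        simp only [commutatorElement_def]; group,
      T2.zl (hEm T.vE) (hEm hzE),
      show ⁅π v, π z⁆ = 1 by rw [← commutatorElement_inv, hzv, inv_one], one_zpow, mul_one,
      mul_inv_cancel, one_mul]
  have hfp : r ^ p * (v ^ p) ^ l ∈ K' := by
    refine mem_normal_of (K := D1 p E) (X := K') (x := (r * v ^ l) ^ p)
      ⟨pow_mem_fr hfl, T.pow_mem hG hp2 _⟩ hD1K ?_
    rw [map_pow, map_mul, map_mul, hom, hpz v l, map_pow, map_zpow, map_pow]
  have hepj : e ^ p * (v ^ p) ^ j ∈ K' := by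
    refine mem_normal_of (K := D1 p E) (X := K') (x := (e * v ^ j) ^ p)
      ⟨pow_mem_fr hej, pow_mem_fr hejE⟩ hD1K ?_
    rw [map_pow, map_mul, map_mul, hom, hpz v j, map_pow, map_zpow, map_pow]
  have hzpK : z ^ p ∈ D1 p E := by rw [← mk'_eq_one, map_pow]; exact hzp
  have hWV := T.card_zv hG
  by_cases hvp : v ^ p ∈ K'
  · -- an elementary abelian section of order `p ^ 4` below `fr E`
    exfalso
    have hrp : r ^ p ∈ K' := by simpa using mul_mem hfp (inv_mem (zpow_mem hvp l))
    have hep : e ^ p ∈ K' := by simpa using mul_mem hepj (inv_mem (zpow_mem hvp j))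
    set X := K' ⊔ zpowers ⁅e, v⁆ with hX
    haveI : X.Normal := normal_between (hD1K.trans le_sup_left)
      (sup_le inf_le_right (zpowers_le.2 (comm_mem_fr T.eE T.vE)))
    have hev : ⁅e, v⁆ ∈ X := mem_sup_right (mem_zpowers _)
    have hez : ⁅e, z⁆ ∈ X := mem_sup_left hezK
    have hzv' : ⁅z, v⁆ ∈ X := mem_sup_left (hD1K hzvK)
    have hFX : fr p E ≤ X := by
      refine fr_le_of_gen (s := {z, e, v}) ((T.gen' hG).trans le_sup_right) ?_ ?_
      · rintro a (rfl | rfl | rfl) b (rfl | rfl | rfl)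
        all_goals first
          | (rw [commutatorElement_self]; exact one_mem _)
          | assumption
          | (rw [← commutatorElement_inv]; exact inv_mem (by assumption))
      · rintro a (rfl | rfl | rfl)
        exacts [mem_sup_left (hD1K hzpK), mem_sup_left hep, mem_sup_left hvp]
    obtain ⟨k, hk, ε, hε⟩ := exists_of_mem_sup (hFX T.rv)
    set π' := QuotientGroup.mk' K' with hπ'
    have cen' : ∀ x ∈ fr p E, ∀ g, Commute (π' x) (π' g) := fun x hx g =>
      commute_mk' (hD1K (comm_mem_D1 hx g))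
    have T2' : Two p (E.map π') := two_map le_sup_right
      (commutator_le.2 fun x hx y _ => hD1K (comm_mem_D1 hx y))
      fun x hx => hD1K (mem_sup_left (pow_mem_frK hx))
    have hEm' : ∀ {x}, x ∈ E → π' x ∈ E.map π' := fun h => mem_map_of_mem π' h
    set u := r * e ^ (-ε) with hu
    have huv : ⁅u, v⁆ ∈ K' := by
      rw [← mk'_eq_one, map_commutatorElement, hu, map_mul, map_zpow,
        show ⁅π' r * π' e ^ (-ε), π' v⁆ = π' r * ⁅π' e ^ (-ε), π' v⁆ * (π' r)⁻¹ * ⁅π' r, π' v⁆ by
          simp only [commutatorElement_def]; group,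
        T2'.zl (hEm' T.eE) (hEm' T.vE), ← map_commutatorElement, ← map_commutatorElement,
        ((cen' _ (comm_mem_fr T.eE T.vE) r).symm.zpow_right _).eq, mul_inv_cancel_right, hε,
        map_mul, show π' k = 1 from mk'_eq_one.2 hk, one_mul, map_zpow, ← zpow_add, neg_add_cancel,
        zpow_zero]
    have huz : ⁅u, z⁆ ∈ K' := by
      rw [← mk'_eq_one, map_commutatorElement, hu, map_mul, map_zpow,
        show ⁅π' r * π' e ^ (-ε), π' z⁆ = π' r * ⁅π' e ^ (-ε), π' z⁆ * (π' r)⁻¹ * ⁅π' r, π' z⁆ by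
          simp only [commutatorElement_def]; group,
        T2'.zl (hEm' T.eE) (hEm' hzE), ← map_commutatorElement, ← map_commutatorElement,
        show π' ⁅e, z⁆ = 1 from mk'_eq_one.2 hezK, show π' ⁅r, z⁆ = 1 from mk'_eq_one.2 hrzK,
        one_zpow, mul_one, mul_one, mul_inv_cancel]
    have hup : u ^ p ∈ K' := by
      refine mem_normal_of (K := D1 p E) (X := K') (x := r ^ p * (e ^ p) ^ (-ε))
        (mul_mem hrp (zpow_mem hep _)) hD1K ?_
      rw [hu, map_pow π, map_mul π r, map_mul π (r ^ p), hom, hpz e (-ε), map_pow π r, map_zpow π (e ^ p)]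
    have huF : ∀ x ∈ fr p E, ∀ g, ⁅x, g⁆ ∈ K' := fun x hx g => hD1K (comm_mem_D1 hx g)
    refine false_of_gen hG hr (K := K') (s := (fr p E : Set G) ∪ {z, v, u}) ?_ ?_ ?_
    · rintro a (ha | rfl | rfl | rfl) b (hb | rfl | rfl | rfl)
      all_goals first
        | exact huF _ ha _
        | (rw [← commutatorElement_inv]; exact inv_mem (huF _ hb _))
        | (rw [commutatorElement_self]; exact one_mem _)
        | exact huv
        | exact huz
        | exact hD1K hzvK
        | (rw [← commutatorElement_inv]; exact inv_mem huv)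
        | (rw [← commutatorElement_inv]; exact inv_mem huz)
        | (rw [← commutatorElement_inv]; exact inv_mem (hD1K hzvK))
    · rintro a (ha | rfl | rfl | rfl)
      exacts [hD1K (mem_sup_left (pow_mem_frK ha)), hD1K hzpK, hvp, hup]
    · set S := K' ⊔ closure ((fr p E : Set G) ∪ {z, v, u})
      have hWS : fr p E ⊔ zpowers z ⊔ zpowers v ≤ S := sup_le (sup_le
        (fun x hx => mem_sup_right (subset_closure (Or.inl hx)))
        (zpowers_le.2 (mem_sup_right (subset_closure (Or.inr (by simp))))))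
        (zpowers_le.2 (mem_sup_right (subset_closure (Or.inr (by simp)))))
      have huS : u ∈ S := mem_sup_right (subset_closure (Or.inr (by simp)))
      have hlt : fr p E ⊔ zpowers z ⊔ zpowers v < S := lt_of_le_of_ne hWS fun h => T.rE (by
        have hu' : u ∈ E := sup_le (sup_le fr_le (zpowers_le.2 hzE)) (zpowers_le.2 T.vE) (h.ge huS)
        simpa [hu] using E.mul_mem hu' (E.zpow_mem T.eE ε))
      refine le_trans ?_ (card_mul_le' hG hlt)
      rw [hWV, show Nat.card K' * p ^ 4 = Nat.card K' * p * p * p * p by ring]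
      exact Nat.mul_le_mul_right p (Nat.mul_le_mul_right p (Nat.mul_le_mul_right p hK'lt))
  by_cases hrp : r ^ p ∈ D1 p E
  · -- `p` divides the exponent of `v`
    have hvl : (v ^ p) ^ l ∈ K' := by simpa using mul_mem (inv_mem (hD1K hrp)) hfp
    by_cases hl0 : (l : ZMod p) = 0
    · have hvlA : v ^ l ∈ A := (fr_le_inf hG T.iE iA hne).trans inf_le_right
        (zpow_mem_congr (pow_mem_fr T.vE) (i := 0) (by rw [hl0, Int.cast_zero])
          (by rw [zpow_zero]; exact one_mem _))
      simpa using A.mul_mem hfl (A.inv_mem hvlA)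
    · exact absurd (mem_of_zpow (hD1K (mem_sup_left (pow_mem_frK (pow_mem_fr T.vE)))) hl0 hvl) hvp
  -- the weights of `v ^ p` and `r ^ p` span `fr E`
  exfalso
  have hτD : D1 p E ≤ (D1 p E).comap τ.toMonoidHom := map_le_iff_le_comap.1 (map_D1_le τ T.tE)
  set τ' := QuotientGroup.map (D1 p E) (D1 p E) τ.toMonoidHom hτD with hτ'
  have hτπ : ∀ x, τ' (π x) = π (τ x) := fun x => rfl
  set V := π (v ^ p) with hV
  set R' := π (r ^ p) with hR'
  have hR'1 : R' ≠ 1 := fun h => hrp (mk'_eq_one.1 h)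
  have hV1 : V ≠ 1 := fun h => hvp (hD1K (mk'_eq_one.1 h))
  have hVp : V ^ p = 1 := powF _ (pow_mem_fr T.vE)
  have hR'p : R' ^ p = 1 := powF _ (T.pow_mem hG hp2 r)
  have hπc : ∀ {a b : G} {k : ℤ} {N : Subgroup G}, N ≤ fr p E ⊔ zpowers z → (a ^ k)⁻¹ * b ∈ N →
      ∃ w ∈ fr p E ⊔ zpowers z, b = a ^ k * w := fun hN h => ⟨_, hN h, (mul_inv_cancel_left _ _).symm⟩
  have hτV : τ' V = V := by
    obtain ⟨w, hw, hwe⟩ := hπc (k := 1) le_sup_left (by simpa using T.tv)
    rw [hV, hτπ, map_pow τ, hwe, zpow_one, map_pow, map_mul, hom, hΦp w hw, mul_one, map_pow]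
  have hτR : τ' R' = R' ^ (n * n) := by
    obtain ⟨w, hw, hwe⟩ := hπc le_rfl T.tr
    rw [hR', hτπ, map_pow τ, hwe, map_pow, map_mul, hom, hΦp w hw, mul_one, hpz]
  set Y1 := D1 p E ⊔ zpowers (v ^ p) with hY1
  haveI : Y1.Normal :=
    normal_between le_sup_left (sup_le (D1_le E) (zpowers_le.2 (pow_mem_fr T.vE)))
  have hk1 : ((n * n : ℤ) : ZMod p) - 1 ≠ 0 := by
    push_cast; rw [← sq]; exact sub_ne_zero.2 T.n2
  have hR'Y : r ^ p ∉ Y1 := fun h => by
    obtain ⟨k, hk, c, hc⟩ := exists_of_mem_sup h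
    have h1 : R' = V ^ c := by
      rw [hR', hc, map_mul, show π k = 1 from mk'_eq_one.2 hk, one_mul, map_zpow]
    have h2 : R' ^ (n * n - 1) = 1 := by
      rw [zpow_sub_one, ← hτR, h1, map_zpow, hτV, mul_inv_cancel]
    exact hk1 (by simpa using cast_zero_of_zpow hR'p hR'1 h2)
  have hY1card : Nat.card (fr p E) ≤ Nat.card Y1 * p := by
    have hs : SectRank.IsElemSection p Y1 (Y1 ⊔ closure ((fr p E : Set G) ∪ {z, v})) := by
      refine isElemSection_of_gen ?_ ?_
      · rintro a (ha | rfl | rfl) b (hb | rfl | rfl)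
        all_goals first
          | exact mem_sup_left (comm_mem_D1 ha _)
          | (rw [← commutatorElement_inv]; exact inv_mem (mem_sup_left (comm_mem_D1 hb _)))
          | (rw [commutatorElement_self]; exact one_mem _)
          | exact mem_sup_left hzvK
          | (rw [← commutatorElement_inv]; exact inv_mem (mem_sup_left hzvK))
      · rintro a (ha | rfl | rfl)
        exacts [mem_sup_left (mem_sup_left (pow_mem_frK ha)), mem_sup_left hzpK,
          mem_sup_right (mem_zpowers _)]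
    have hle : fr p E ⊔ zpowers z ⊔ zpowers v ≤ Y1 ⊔ closure ((fr p E : Set G) ∪ {z, v}) :=
      sup_le (sup_le (fun x hx => mem_sup_right (subset_closure (Or.inl hx)))
        (zpowers_le.2 (mem_sup_right (subset_closure (Or.inr (by simp))))))
        (zpowers_le.2 (mem_sup_right (subset_closure (Or.inr (by simp)))))
    have h := (card_le_of_le hle).trans (card_le_of_rank hG hr hs)
    rw [hWV, show p ^ 3 = p * p * p by ring, ← mul_assoc, ← mul_assoc] at h
    exact Nat.le_of_mul_le_mul_right (Nat.le_of_mul_le_mul_right h hp.out.pos) hp.out.pos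
  have hFY : fr p E = Y1 ⊔ zpowers (r ^ p) :=
    eq_sup_zpowers hG (sup_le (D1_le E) (zpowers_le.2 (pow_mem_fr T.vE))) hY1card
      (T.pow_mem hG hp2 r) hR'Y
  have hcomVR : Commute V R' := cen _ (pow_mem_fr T.vE) _
  have hcoord : ∀ x ∈ fr p E, ∃ a b : ℤ, π x = V ^ a * R' ^ b := by
    intro x hx
    obtain ⟨k, hk, b, rfl⟩ := exists_of_mem_sup (hFY.le hx)
    obtain ⟨k', hk', a, rfl⟩ := exists_of_mem_sup hk
    exact ⟨a, b, by rw [map_mul, map_mul, show π k' = 1 from mk'_eq_one.2 hk', one_mul, map_zpow,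
      map_zpow]⟩
  have hindep : ∀ a b : ℤ, V ^ a * R' ^ b = 1 → (a : ZMod p) = 0 ∧ (b : ZMod p) = 0 := by
    intro a b h
    have hb : (b : ZMod p) = 0 := by
      by_contra hb
      refine hR'Y (mem_of_zpow (mem_sup_left (mem_sup_left (pow_mem_frK (T.pow_mem hG hp2 r)))) hb ?_)
      have h1 : (v ^ p) ^ a * (r ^ p) ^ b ∈ D1 p E := by
        rw [← mk'_eq_one, map_mul, map_zpow, map_zpow]; exact h
      simpa using mul_mem (inv_mem (mem_sup_right (zpow_mem (mem_zpowers (v ^ p)) a) :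
        (v ^ p) ^ a ∈ Y1)) (mem_sup_left h1)
    refine ⟨?_, hb⟩
    rw [zpow_congr_mod hR'p (show (b : ZMod p) = ((0 : ℤ) : ZMod p) by rw [hb, Int.cast_zero]),
      zpow_zero, mul_one] at h
    exact cast_zero_of_zpow hVp hV1 h
  have hweight : ∀ x ∈ fr p E, ∀ ω : ℤ, τ' (π x) = π x ^ ω → ∃ a b : ℤ, π x = V ^ a * R' ^ b ∧
      (((ω : ZMod p) - 1) * a = 0 ∧ ((ω : ZMod p) - (n * n : ℤ)) * b = 0) := by
    intro x hx ω h
    obtain ⟨a, b, hab⟩ := hcoord x hx
    refine ⟨a, b, hab, ?_⟩
    rw [hab, map_mul, map_zpow, map_zpow, hτV, hτR, (hcomVR.zpow_zpow a b).mul_zpow, ← zpow_mul,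
      ← zpow_mul, ← zpow_mul] at h
    obtain ⟨ha, hb⟩ := hindep (a * ω - a) (b * ω - n * n * b) (by
      rw [zpow_sub, zpow_sub, ((hcomVR.zpow_zpow a (b * ω)).inv_left.mul_mul_mul_comm _ _), ← h,
        ← mul_inv_rev, (hcomVR.zpow_zpow a (n * n * b)).eq, mul_inv_cancel])
    push_cast at ha hb ⊢
    exact ⟨by linear_combination ha, by linear_combination hb⟩
  have hn0 : (n : ZMod p) ≠ 0 := fun h0 => by
    have := T.nm; push_cast at this; rw [h0, zero_mul] at this; exact zero_ne_one this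
  have hnm : (n : ZMod p) * (m : ZMod p) = 1 := by simpa using T.nm
  have hm1 : (m : ZMod p) - 1 ≠ 0 := sub_ne_zero.2 fun h => T.n1 (by rw [h, mul_one] at hnm; exact hnm)
  have hmk : (m : ZMod p) - (n * n : ℤ) ≠ 0 := sub_ne_zero.2 fun h => T.n3 (by
    rw [h] at hnm; push_cast at hnm; linear_combination hnm)
  have hkill : ∀ x ∈ fr p E, τ' (π x) = π x ^ m → x ∈ D1 p E := by
    intro x hx h
    obtain ⟨a, b, hab, ha, hb⟩ := hweight x hx m h
    rw [← mk'_eq_one, hab,
      zpow_congr_mod hVp (show (a : ZMod p) = ((0 : ℤ) : ZMod p) by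
        rw [(mul_eq_zero.1 ha).resolve_left hm1, Int.cast_zero]),
      zpow_congr_mod hR'p (show (b : ZMod p) = ((0 : ℤ) : ZMod p) by
        rw [(mul_eq_zero.1 hb).resolve_left hmk, Int.cast_zero]), zpow_zero, zpow_zero, mul_one]
  obtain ⟨we, hwe, hte⟩ : ∃ w ∈ fr p E, τ e = e ^ m * w := ⟨_, T.te, (mul_inv_cancel_left _ _).symm⟩
  obtain ⟨wv, hwv, htv⟩ : ∃ w ∈ fr p E, τ v = v * w := ⟨_, T.tv, (mul_inv_cancel_left _ _).symm⟩
  obtain ⟨wz, hwz, htz⟩ : ∃ w ∈ fr p E, τ z = z ^ n * w := ⟨_, T.tz, (mul_inv_cancel_left _ _).symm⟩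
  have hcq : ∀ x ∈ fr p E, ∀ q, Commute (π x) q := fun x hx q =>
    QuotientGroup.induction_on q fun g => cen x hx g
  have hepK : e ^ p ∈ D1 p E := hkill _ (pow_mem_fr T.eE) (by
    rw [hτπ, map_pow τ, hte, map_pow, map_mul, hom, powF we hwe, mul_one, hpz])
  have hγp : ⁅π e, π z⁆ ^ p = 1 := T2.pow _ (hEm T.eE) _ (hEm hzE)
  have hezD : ⁅e, z⁆ ∈ D1 p E := by
    obtain ⟨a, b, hab, -, hb⟩ := hweight _ (comm_mem_fr T.eE hzE) 1 (by
      rw [zpow_one, hτπ, map_commutatorElement τ, hte, htz, map_commutatorElement, map_commutatorElement,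
        map_mul, map_mul, map_zpow, map_zpow, comm_central (hcq we hwe) (hcq wz hwz),
        T2.zl (hEm T.eE) (zpow_mem (hEm hzE) n), T2.zr (hEm T.eE) (hEm hzE), ← zpow_mul]
      conv_rhs => rw [← zpow_one ⁅π e, π z⁆]
      exact zpow_congr_mod hγp (by push_cast; rw [hnm]))
    have hk : ((1 : ℤ) : ZMod p) - (n * n : ℤ) ≠ 0 := fun h => hk1 (by
      push_cast at h ⊢; linear_combination -h)
    rw [← mk'_eq_one, hab]
    rw [zpow_congr_mod hR'p (show (b : ZMod p) = ((0 : ℤ) : ZMod p) by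
      rw [(mul_eq_zero.1 hb).resolve_left hk, Int.cast_zero]), zpow_zero, mul_one] at hab ⊢
    by_cases ha : (a : ZMod p) = 0
    · rw [zpow_congr_mod hVp (show (a : ZMod p) = ((0 : ℤ) : ZMod p) by rw [ha, Int.cast_zero]),
        zpow_zero]
    · refine absurd (mem_of_zpow (hD1K (mem_sup_left (pow_mem_frK (pow_mem_fr T.vE)))) ha ?_) hvp
      refine mem_normal_of hezK hD1K ?_
      rw [map_zpow]
      exact hab.symm
  refine false_of_gen hG hr (K := D1 p E) (s := (fr p E : Set G) ∪ {z, e}) ?_ ?_ ?_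
  · rintro a (ha | rfl | rfl) b (hb | rfl | rfl)
    all_goals first
      | exact comm_mem_D1 ha _
      | (rw [← commutatorElement_inv]; exact inv_mem (comm_mem_D1 hb _))
      | (rw [commutatorElement_self]; exact one_mem _)
      | exact hezD
      | (rw [← commutatorElement_inv]; exact inv_mem hezD)
  · rintro a (ha | rfl | rfl)
    exacts [mem_sup_left (pow_mem_frK ha), hzpK, hepK]
  · set S := D1 p E ⊔ closure ((fr p E : Set G) ∪ {z, e})
    have h1 : Nat.card (D1 p E) * p ≤ Nat.card Y1 := card_mul_le' hG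
      (lt_of_le_of_ne le_sup_left fun h => hvp (hD1K (h.ge (mem_sup_right (mem_zpowers _)))))
    have h2 : Nat.card Y1 * p ≤ Nat.card (fr p E) := card_mul_le' hG
      (lt_of_le_of_ne (sup_le (D1_le E) (zpowers_le.2 (pow_mem_fr T.vE))) fun h =>
        hR'Y (h.ge (T.pow_mem hG hp2 r)))
    have hlt : fr p E ⊔ zpowers z < S := by
      refine lt_of_le_of_ne (sup_le (fun x hx => mem_sup_right (subset_closure (Or.inl hx)))
        (zpowers_le.2 (mem_sup_right (subset_closure (Or.inr (by simp)))))) fun h => ?_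
      have he : e ∈ fr p E ⊔ zpowers z := h.ge (mem_sup_right (subset_closure (Or.inr (by simp))))
      obtain ⟨k, hk, i, hi⟩ := exists_of_mem_sup he
      have := (T.coord hG (a := i) (b := -1) (c := 0) (by
        rw [zpow_zero, mul_one, zpow_neg_one]
        have h2 : e⁻¹ = (z ^ i)⁻¹ * k⁻¹ := by rw [← mul_inv_rev, ← hi]
        rw [show ⁅r, e⁆ ^ i * e⁻¹ = k⁻¹ by rw [← hz, h2, mul_inv_cancel_left]]
        exact inv_mem hk)).2.1
      rw [Int.cast_neg, Int.cast_one] at this
      exact one_ne_zero (neg_eq_zero.1 this)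
    refine le_trans ?_ (card_mul_le' hG hlt)
    rw [T.card_Phi hG, show Nat.card (D1 p E) * p ^ 4 = Nat.card (D1 p E) * p * p * p * p by ring]
    exact Nat.mul_le_mul_right p (Nat.mul_le_mul_right p ((Nat.mul_le_mul_right p h1).trans h2))

end TData

end Cfsg.Agent.Lib.RankThreeEss69
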