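import Cfsg.Agent.Lib.RankThreeEss69.Member

/-!
Automorphisms moving `E` keep `fr E`.
-/

set_option autoImplicit false
set_option linter.unusedSectionVars false

namespace Cfsg.Agent.Lib.RankThreeEss69

open Subgroup
open scoped commutatorElement

variable {G : Type*} [Group G] {p : ℕ}

theorem map_aut_mul (σ τ : MulAut G) (H : Subgroup G) :
    (H.map τ.toMonoidHom).map σ.toMonoidHom = H.map (σ * τ).toMonoidHom := by
  rw [map_map]; rfl

theorem map_aut_one (H : Subgroup G) : H.map (1 : MulAut G).toMonoidHom = H := map_id H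

theorem map_aut_pow_fix {σ : MulAut G} {H : Subgroup G} (h : H.map σ.toMonoidHom = H) :
    ∀ k : ℕ, H.map (σ ^ k).toMonoidHom = H := by
  intro k
  induction k with
  | zero => exact map_aut_one H
  | succ k ih => rw [pow_succ, ← map_aut_mul, h, ih]

theorem map_top_aut (σ : MulAut G) : (⊤ : Subgroup G).map σ.toMonoidHom = ⊤ :=
  map_top_of_surjective _ σ.surjective

namespace TData

variable {E : Subgroup G} {τ : MulAut G} {n m : ℤ} {r e v : G}
variable [hp : Fact p.Prime] [Finite G] (hG : IsPGroup p G) (T : TData p E τ n m r e v)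
include hG T

theorem map_Phi (hp2 : p ≠ 2) (σ : MulAut G) :
    (fr p E ⊔ zpowers ⁅r, e⁆).map σ.toMonoidHom = fr p E ⊔ zpowers ⁅r, e⁆ := by
  rw [← T.fr_top hG hp2, map_fr, map_top_aut]

theorem r_notMem_Phi : r ∉ fr p E ⊔ zpowers ⁅r, e⁆ := fun h =>
  T.rE (sup_le fr_le (zpowers_le.2 (T.z_mem hG)) h)

theorem card_r_line (hp2 : p ≠ 2) :
    Nat.card (fr p E ⊔ zpowers ⁅r, e⁆ ⊔ zpowers r : Subgroup G) = Nat.card (fr p E) * p * p := by
  haveI := T.iE.normal
  haveI := sup_zpowers_normal (T.z_central hG)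
  rw [card_sup_zpowers_eq hG (mem_sup_left (T.pow_mem hG hp2 r)) (T.r_notMem_Phi hG), T.card_Phi hG]

/-- Two subgroups of index `p` containing `r` and not `v` meet in the line of `r`. -/
theorem inf_eq_r (hp2 : p ≠ 2) {A B : Subgroup G} (iA : Idx p A) (iB : Idx p B) (hA : E ≠ A)
    (hB : E ≠ B) (hAB : A ≠ B) (hrA : r ∈ A) (hrB : r ∈ B) :
    A ⊓ B = fr p E ⊔ zpowers ⁅r, e⁆ ⊔ zpowers r := by
  refine (eq_of_le_of_card_ge (sup_le (le_inf (T.Phi_le hG iA hA) (T.Phi_le hG iB hB))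
    (zpowers_le.2 ⟨hrA, hrB⟩)) ?_).symm
  rw [T.card_r_line hG hp2, card_inf_fr hG iA iB hAB, sq, ← mul_assoc]
  refine Nat.mul_le_mul_right p (Nat.mul_le_mul_right p (Nat.le_of_mul_le_mul_right ?_ (pow_pos hp.out.pos 3)))
  rw [← iA.card, ← T.iE.card]
  exact (Nat.eq_of_mul_eq_mul_right hp.out.pos (iA.card_top.symm.trans T.iE.card_top)).le

variable (h5 : 5 ≤ p) (hr : Cfsg.SectionalPRankLE p 3 G)
include h5 hr

/-- An automorphism with an orbit of length `p` on `E` keeps `fr E`. -/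
theorem map_fr_of_orbit (σ : MulAut G) (hσp : E.map (σ ^ p).toMonoidHom = E)
    (hmove : ∀ j : ℕ, 0 < j → j < p → E.map (σ ^ j).toMonoidHom ≠ E) :
    (fr p E).map σ.toMonoidHom = fr p E := by
  have hp2 : p ≠ 2 := by omega
  by_contra hbad
  have hbadj : ∀ j : ℕ, 0 < j → j < p → (fr p E).map (σ ^ j).toMonoidHom ≠ fr p E := by
    intro j hj hjp heq
    refine hbad ?_
    obtain ⟨a, -, ha⟩ := Nat.exists_mul_mod_eq_one_of_coprime
      ((Nat.coprime_comm.1 ((Nat.Prime.coprime_iff_not_dvd hp.out).2 fun hd =>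
        absurd (Nat.le_of_dvd hj hd) (by omega)))) hp.out.one_lt
    have h1 := map_aut_pow_fix heq a
    rw [← pow_mul, show j * a = 1 + p * (j * a / p) by rw [← ha, Nat.mod_add_div], pow_add, pow_one,
      ← map_aut_mul] at h1
    rwa [pow_mul, map_aut_pow_fix (show (fr p E).map (σ ^ p).toMonoidHom = fr p E by
      rw [map_fr, hσp])] at h1
  have iA : ∀ j : ℕ, Idx p (E.map (σ ^ j).toMonoidHom) := fun j => map_aut_idx _ T.iE
  have hneA : ∀ j : ℕ, 0 < j → j < p → E ≠ E.map (σ ^ j).toMonoidHom := fun j h1 h2 =>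
    (hmove j h1 h2).symm
  have hrmem : ∀ j : ℕ, 0 < j → j < p → r ∈ E.map (σ ^ j).toMonoidHom := fun j h1 h2 =>
    T.r_mem hG h5 hr (iA j) (hneA j h1 h2) fun hv => hbadj j h1 h2 (by
      rw [map_fr]; exact (T.fr_eq_iff hG hp2 (iA j) (hneA j h1 h2)).2 hv)
  have hne23 : E.map (σ ^ 2).toMonoidHom ≠ E.map (σ ^ 3).toMonoidHom := fun h => by
    rw [show σ ^ 3 = σ ^ 2 * σ from pow_succ σ 2, ← map_aut_mul] at h
    exact hmove 1 one_pos hp.out.one_lt (by
      rw [pow_one]; exact (Subgroup.map_injective (σ ^ 2).injective h).symm)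
  have hinf := T.inf_eq_r hG hp2 (iA 2) (iA 3) (hneA 2 (by norm_num) (by omega))
    (hneA 3 (by norm_num) (by omega)) hne23 (hrmem 2 (by norm_num) (by omega))
    (hrmem 3 (by norm_num) (by omega))
  set L := fr p E ⊔ zpowers ⁅r, e⁆ ⊔ zpowers r with hL
  have hσr : σ r ∈ L := by
    rw [← hinf]
    constructor
    · rw [show σ ^ 2 = σ * σ ^ 1 from pow_succ' σ 1, ← map_aut_mul]
      exact mem_map_of_mem σ.toMonoidHom (hrmem 1 one_pos hp.out.one_lt)
    · rw [show σ ^ 3 = σ * σ ^ 2 from pow_succ' σ 2, ← map_aut_mul]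
      exact mem_map_of_mem σ.toMonoidHom (hrmem 2 (by norm_num) (by omega))
  have hσL : L.map σ.toMonoidHom = L := by
    refine eq_of_le_of_card_ge ?_ (card_map_of_injective σ.injective).ge
    rw [hL, Subgroup.map_sup, T.map_Phi hG hp2]
    exact sup_le le_sup_left (by rw [MonoidHom.map_zpowers]; exact zpowers_le.2 hσr)
  have h1 := hrmem 1 one_pos hp.out.one_lt
  rw [pow_one] at h1
  obtain ⟨x, hxE, hx⟩ := h1
  have hxL : x ∈ L := by
    have : σ.toMonoidHom x ∈ L.map σ.toMonoidHom := by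
      rw [hx, hσL]; exact mem_sup_right (mem_zpowers r)
    obtain ⟨y, hy, hye⟩ := this
    exact σ.injective hye ▸ hy
  haveI := T.iE.normal
  haveI := sup_zpowers_normal (T.z_central hG)
  obtain ⟨k, hk, i, hi⟩ := exists_of_mem_sup hxL
  have hxΦ : x ∈ fr p E ⊔ zpowers ⁅r, e⁆ := by
    have hkE : k ∈ E := sup_le fr_le (zpowers_le.2 (T.z_mem hG)) hk
    have hri : r ^ i ∈ E := by
      rw [show r ^ i = k⁻¹ * x by rw [hi, inv_mul_cancel_left]]
      exact E.mul_mem (E.inv_mem hkE) hxE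
    have hi0 : (i : ZMod p) = 0 := by
      by_contra h0; exact T.rE (mem_of_zpow (T.iE.pow_mem r) h0 hri)
    rw [hi]
    exact mul_mem hk (zpow_mem_congr (mem_sup_left (T.pow_mem hG hp2 r)) (i := 0)
      (by rw [hi0, Int.cast_zero]) (by rw [zpow_zero]; exact one_mem _))
  refine T.r_notMem_Phi hG ?_
  have := mem_map_of_mem σ.toMonoidHom hxΦ
  rwa [T.map_Phi hG hp2, hx] at this

omit h5 hr in
theorem map_zv_of_good (hp2 : p ≠ 2) (ρ : MulAut G) (hρ : (fr p E).map ρ.toMonoidHom = fr p E)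
    (σ : MulAut G) (hσ : (fr p E).map σ.toMonoidHom = fr p E) (hne : E ≠ E.map σ.toMonoidHom) :
    (fr p E ⊔ zpowers ⁅r, e⁆ ⊔ zpowers v).map ρ.toMonoidHom =
      fr p E ⊔ zpowers ⁅r, e⁆ ⊔ zpowers v := by
  have hvσ : v ∈ E.map σ.toMonoidHom :=
    (T.fr_eq_iff hG hp2 (map_aut_idx σ T.iE) hne).1 (by rw [← map_fr]; exact hσ)
  have key : ∀ δ : MulAut G, (fr p E).map δ.toMonoidHom = fr p E → v ∈ E.map δ.toMonoidHom := by
    intro δ hδ
    by_cases h : E = E.map δ.toMonoidHom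
    · exact h ▸ T.vE
    · exact (T.fr_eq_iff hG hp2 (map_aut_idx δ T.iE) h).1 (by rw [← map_fr]; exact hδ)
  refine (eq_of_le_of_card_ge ?_ (card_map_of_injective ρ.injective).le).symm
  refine sup_le ?_ (zpowers_le.2 ?_)
  · conv_lhs => rw [← T.map_Phi hG hp2 ρ]
    exact map_mono le_sup_left
  rw [← T.inf_eq_zv hG (map_aut_idx σ T.iE) hne hvσ, map_inf _ _ _ ρ.injective, map_aut_mul]
  exact ⟨key ρ hρ, key _ (by rw [← map_aut_mul, hσ, hρ])⟩

/-- With one good automorphism moving `E`, every automorphism of `p`-power order is good. -/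
theorem map_fr_of_pow (σ : MulAut G) (hσ : (fr p E).map σ.toMonoidHom = fr p E)
    (hne : E ≠ E.map σ.toMonoidHom) (ρ : MulAut G) {k : ℕ} (hρ : ρ ^ p ^ k = 1) :
    (fr p E).map ρ.toMonoidHom = fr p E := by
  have hp2 : p ≠ 2 := by omega
  set W := fr p E ⊔ zpowers ⁅r, e⁆ ⊔ zpowers v with hW
  set L := fr p E ⊔ zpowers ⁅r, e⁆ ⊔ zpowers r with hL
  have hvσ : v ∈ E.map σ.toMonoidHom :=
    (T.fr_eq_iff hG hp2 (map_aut_idx σ T.iE) hne).1 (by rw [← map_fr]; exact hσ)
  have bad : ∀ δ : MulAut G, (fr p E).map δ.toMonoidHom ≠ fr p E → W.map δ.toMonoidHom = L := by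
    intro δ hδ
    have hA : E ≠ E.map δ.toMonoidHom := fun h => hδ (by rw [map_fr, ← h])
    have hfr' : (fr p E).map (δ * σ).toMonoidHom = (fr p E).map δ.toMonoidHom := by
      rw [← map_aut_mul, hσ]
    have hB : E ≠ E.map (δ * σ).toMonoidHom := fun h => hδ (by rw [← hfr', map_fr, ← h])
    have hAB : E.map δ.toMonoidHom ≠ E.map (δ * σ).toMonoidHom := fun h => hne
      (Subgroup.map_injective δ.injective (by rw [map_aut_mul]; exact h))
    have iA := map_aut_idx δ T.iE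
    have iB := map_aut_idx (δ * σ) T.iE
    have hrA := T.r_mem hG h5 hr iA hA fun hv => hδ (by rw [map_fr]; exact (T.fr_eq_iff hG hp2 iA hA).2 hv)
    have hrB := T.r_mem hG h5 hr iB hB fun hv => hδ (by
      rw [← hfr', map_fr]; exact (T.fr_eq_iff hG hp2 iB hB).2 hv)
    rw [hW, ← T.inf_eq_zv hG (map_aut_idx σ T.iE) hne hvσ, map_inf _ _ _ δ.injective, map_aut_mul]
    exact T.inf_eq_r hG hp2 iA iB hA hB hAB hrA hrB
  by_contra hbad
  have h2 : (fr p E).map (ρ ^ 2).toMonoidHom = fr p E := by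
    by_contra hbad2
    have h1 := bad _ hbad2
    rw [sq, ← map_aut_mul, bad ρ hbad] at h1
    have h3 : W = L := Subgroup.map_injective ρ.injective ((bad ρ hbad).trans h1.symm)
    exact T.rE (sup_le (sup_le fr_le (zpowers_le.2 (T.z_mem hG))) (zpowers_le.2 T.vE)
      (h3.ge (mem_sup_right (mem_zpowers r))))
  refine hbad ?_
  obtain ⟨q, hq⟩ : Odd (p ^ k) := (hp.out.odd_of_ne_two hp2).pow
  have h4 := map_aut_pow_fix h2 q
  have h5' : ρ * (ρ ^ 2) ^ q = 1 := by rw [← pow_mul, ← pow_succ', ← hq, hρ]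
  have h6 := map_aut_mul ρ ((ρ ^ 2) ^ q) (fr p E)
  rw [h4, h5', map_aut_one] at h6
  exact h6

end TData

end Cfsg.Agent.Lib.RankThreeEss69
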