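import Cfsg.Agent.Lib.RankThreeEss69.Index

/-!
The regular case: three conjugate subgroups of index `p` force an invariant line on the first.
-/

set_option autoImplicit false
set_option linter.unusedSectionVars false

namespace Cfsg.Agent.Lib.RankThreeEss69

open Subgroup
open scoped commutatorElement

variable {G : Type*} [Group G] {p : ℕ}

/-- The subgroup `frK E` enlarged by the commutators of `fr E` with everything. -/
def D1 (p : ℕ) (E : Subgroup G) : Subgroup G := frK p E ⊔ ⁅fr p E, (⊤ : Subgroup G)⁆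

/-- One step further down. -/
def D2 (p : ℕ) (E : Subgroup G) : Subgroup G := frK p E ⊔ ⁅D1 p E, (⊤ : Subgroup G)⁆

instance D1_normal (E : Subgroup G) [E.Normal] : (D1 p E).Normal := by unfold D1; infer_instance
instance D2_normal (E : Subgroup G) [E.Normal] : (D2 p E).Normal := by unfold D2; infer_instance

theorem D1_le (E : Subgroup G) [E.Normal] : D1 p E ≤ fr p E :=
  sup_le (sup_le pw_le (commutator_le_left _ _)) (commutator_le_left _ _)

theorem D2_le (E : Subgroup G) [E.Normal] : D2 p E ≤ D1 p E :=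
  sup_le le_sup_left (commutator_le_left _ _)

theorem pow_mem_frK {E : Subgroup G} {x : G} (hx : x ∈ fr p E) : x ^ p ∈ frK p E :=
  mem_sup_left (pow_mem_pw hx)

theorem comm_mem_frK {E : Subgroup G} {x y : G} (hx : x ∈ fr p E) (hy : y ∈ E) : ⁅x, y⁆ ∈ frK p E :=
  mem_sup_right (commutator_mem_commutator hx hy)

theorem comm_mem_D1 {E : Subgroup G} {x : G} (hx : x ∈ fr p E) (g : G) : ⁅x, g⁆ ∈ D1 p E :=
  mem_sup_right (commutator_mem_commutator hx (mem_top g))

theorem comm_mem_D2 {E : Subgroup G} {x : G} (hx : x ∈ D1 p E) (g : G) : ⁅x, g⁆ ∈ D2 p E :=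
  mem_sup_right (commutator_mem_commutator hx (mem_top g))

/-- The data of two regular subgroups. -/
structure Pair (p : ℕ) (E A : Subgroup G) (r e : G) : Prop where
  iE : Idx p E
  iA : Idx p A
  ne : E ≠ A
  rA : r ∈ A
  rE : r ∉ E
  eE : e ∈ E
  eA : e ∉ A
  hd : ⁅r, ⁅r, e⁆⁆ ∉ fr p E
  hg : ⁅e, ⁅e, r⁆⁆ ∉ fr p A

namespace Pair

variable {E A : Subgroup G} {r e : G} (P : Pair p E A r e)
variable [hp : Fact p.Prime] [Finite G] (hG : IsPGroup p G)
include P hG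

theorem c_mem : ⁅r, e⁆ ∈ E ⊓ A := ⟨P.iE.comm_mem hG r e, P.iA.comm_mem hG r e⟩

theorem d_mem : ⁅r, ⁅r, e⁆⁆ ∈ E ⊓ A := ⟨P.iE.comm_mem hG _ _, P.iA.comm_mem hG _ _⟩

theorem d_mem_X : ⁅r, ⁅r, e⁆⁆ ∈ ⁅E ⊓ A, (⊤ : Subgroup G)⁆ ⊔ fr p E := by
  rw [← commutatorElement_inv]
  exact inv_mem (mem_sup_left (commutator_mem_commutator (P.c_mem hG) (mem_top r)))

theorem X_eq : ⁅E ⊓ A, (⊤ : Subgroup G)⁆ ⊔ fr p E = fr p E ⊔ zpowers ⁅r, ⁅r, e⁆⁆ :=
  eq_sup_zpowers hG le_sup_right (card_comm_inf hG P.iE P.iA P.ne) (P.d_mem_X hG) P.hd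

theorem m_mem : ⁅r, ⁅r, ⁅r, e⁆⁆⁆ ∈ fr p E := by
  rw [← commutatorElement_inv]
  exact inv_mem (comm_comm_inf hG P.iE P.iA P.ne
    (commutator_mem_commutator (P.d_mem_X hG) (mem_top r)))

theorem c_notMem : ⁅r, e⁆ ∉ fr p E ⊔ zpowers ⁅r, ⁅r, e⁆⁆ := fun h => P.hd (by
  rw [← P.X_eq hG] at h
  rw [← commutatorElement_inv]
  exact inv_mem (comm_comm_inf hG P.iE P.iA P.ne (commutator_mem_commutator h (mem_top r))))

theorem inf_eq : E ⊓ A = fr p E ⊔ zpowers ⁅r, ⁅r, e⁆⁆ ⊔ zpowers ⁅r, e⁆ := by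
  have hle := fr_le_inf hG P.iE P.iA P.ne
  refine eq_sup_zpowers hG (sup_le hle (zpowers_le.2 (P.d_mem hG))) ?_ (P.c_mem hG) (P.c_notMem hG)
  rw [card_inf_fr hG P.iE P.iA P.ne, sq, ← mul_assoc]
  haveI := P.iE.normal
  exact Nat.mul_le_mul_right _ (card_mul_le' hG (lt_of_le_of_ne le_sup_left fun e' =>
    P.hd (e'.ge (mem_sup_right (mem_zpowers _)))))

theorem E_eq : E = E ⊓ A ⊔ zpowers e :=
  eq_sup_zpowers hG inf_le_left (by rw [inf_comm]; exact (card_inf hG P.iA P.iE P.ne.symm).ge)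
    P.eE fun h => P.eA h.2

theorem A_eq : A = E ⊓ A ⊔ zpowers r :=
  eq_sup_zpowers hG inf_le_right (card_inf hG P.iE P.iA P.ne).ge P.rA fun h => P.rE h.1

/-- What commutes with all the generators modulo `K` is central modulo `K`. -/
theorem central_of {K : Subgroup G} [K.Normal] {x : G} (hF : ∀ y ∈ fr p E, ⁅x, y⁆ ∈ K)
    (hr : ⁅x, r⁆ ∈ K) (he : ⁅x, e⁆ ∈ K) (hc : ⁅x, ⁅r, e⁆⁆ ∈ K) (hd' : ⁅x, ⁅r, ⁅r, e⁆⁆⁆ ∈ K)
    (g : G) : ⁅x, g⁆ ∈ K := by
  set π := QuotientGroup.mk' K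
  have key : ∀ y, ⁅x, y⁆ ∈ K ↔ y ∈ (centralizer ({π x} : Set (G ⧸ K))).comap π := fun y => by
    rw [comm_mem_iff, mem_comap, mem_centralizer_singleton_iff]
    exact ⟨fun h => h.eq.symm, fun h => h.symm⟩
  rw [key]
  refine (?_ : (⊤ : Subgroup G) ≤ _) (mem_top g)
  rw [P.iE.top_eq hG P.rE, P.E_eq hG, P.inf_eq hG]
  exact sup_le (sup_le (sup_le (sup_le (fun y hy => (key y).1 (hF y hy))
    (zpowers_le.2 ((key _).1 hd'))) (zpowers_le.2 ((key _).1 hc))) (zpowers_le.2 ((key _).1 he)))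
    (zpowers_le.2 ((key _).1 hr))

omit hp [Finite G] in
theorem two_D1 [E.Normal] : Two p (E.map (QuotientGroup.mk' (D1 p E))) := by
  exact two_map le_sup_right (commutator_le.2 fun x hx y _ => comm_mem_D1 hx y)
    fun x hx => mem_sup_left (pow_mem_frK hx)

theorem mem_D1_facts (hp2 : p ≠ 2) : ⁅r, e⁆ ^ p ∈ D1 p E ∧ ⁅r, ⁅r, e⁆⁆ ^ p ∈ D1 p E ∧
    ⁅⁅r, e⁆, ⁅r, ⁅r, e⁆⁆⁆ ∈ D1 p E ∧ ⁅e, ⁅r, ⁅r, e⁆⁆⁆ ∈ D1 p E := by
  haveI := P.iE.normal
  set π := QuotientGroup.mk' (D1 p E) with hπ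
  set c := ⁅r, e⁆ with hc
  set d := ⁅r, c⁆ with hd
  set R := π r
  set m := ⁅r, d⁆ with hm
  have hce : c ∈ E := (P.c_mem hG).1
  have hde : d ∈ E := (P.d_mem hG).1
  have hme : m ∈ E := P.iE.comm_mem hG r d
  have cen : ∀ x ∈ fr p E, ∀ g, Commute (π x) (π g) := fun x hx g => commute_mk' (comm_mem_D1 hx g)
  have T := P.two_D1 hG
  have hEm : ∀ {x}, x ∈ E → π x ∈ E.map π := fun h => mem_map_of_mem π h
  have cr : ∀ x y : G, R * π y * R⁻¹ = π ⁅r, y⁆ * π y ∧ (x = x) := fun x y => ⟨by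
    rw [← map_inv, ← map_mul, ← map_mul, ← map_mul, conj_eq_comm_mul], rfl⟩
  have re : R * π e * R⁻¹ = π c * π e := (cr 1 e).1
  have rc : R * π c * R⁻¹ = π d * π c := (cr 1 c).1
  have rd : R * π d * R⁻¹ = π m * π d := (cr 1 d).1
  have fixF : ∀ x ∈ fr p E, R * π x * R⁻¹ = π x := fun x hx => by
    rw [(cen x hx r).symm.eq, mul_inv_cancel_right]
  have hC : π c ^ p = 1 := by
    have h := fixF _ (pow_mem_fr P.eE)
    rw [map_pow, ← conj_pow, re, T.mul_pow_eq hp2 (hEm hce) (hEm P.eE)] at h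
    exact mul_eq_right.1 h
  have hD : π d ^ p = 1 := by
    have h := fixF _ (pow_mem_fr hce)
    rw [map_pow, ← conj_pow, rc, T.mul_pow_eq hp2 (hEm hde) (hEm hce)] at h
    exact mul_eq_right.1 h
  have hMc : Commute (π c) (π m) := (cen m (P.m_mem hG) c).symm
  have hMe : Commute (π e) (π m) := (cen m (P.m_mem hG) e).symm
  have h1 : ⁅π c, π d⁆ * ⁅π e, π d⁆ = 1 := by
    have h := fixF _ (comm_mem_fr P.eE hce)
    rw [map_commutatorElement, conj_comm, re, rc, T.cl (hEm hce) (hEm P.eE)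
      (mul_mem (hEm hde) (hEm hce)), T.cr (hEm hce) (hEm hde) (hEm hce), commutatorElement_self,
      mul_one, T.cr (hEm P.eE) (hEm hde) (hEm hce), ← mul_assoc] at h
    exact mul_eq_right.1 h
  have h2 : ⁅π c, π d⁆ = 1 := by
    have h := fixF _ (comm_mem_fr P.eE hde)
    rw [map_commutatorElement, conj_comm, re, rd, T.cl (hEm hce) (hEm P.eE)
      (mul_mem (hEm hme) (hEm hde)), T.cr (hEm hce) (hEm hme) (hEm hde),
      T.cr (hEm P.eE) (hEm hme) (hEm hde), commutatorElement_eq_one_iff_commute.2 hMc,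
      commutatorElement_eq_one_iff_commute.2 hMe, one_mul, one_mul] at h
    exact mul_eq_right.1 h
  rw [h2, one_mul] at h1
  refine ⟨?_, ?_, ?_, ?_⟩
  · rwa [← mk'_eq_one (K := D1 p E), map_pow]
  · rwa [← mk'_eq_one (K := D1 p E), map_pow]
  · rwa [← mk'_eq_one (K := D1 p E), map_commutatorElement]
  · rwa [← mk'_eq_one (K := D1 p E), map_commutatorElement]

variable (hp2 : p ≠ 2) (hr : Cfsg.SectionalPRankLE p 3 G)
include hp2 hr

theorem card_fr_le : Nat.card (fr p E) ≤ Nat.card (D1 p E) * p := by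
  haveI := P.iE.normal
  obtain ⟨hc, hd', hcd, -⟩ := P.mem_D1_facts hG hp2
  have hdc : ⁅⁅r, ⁅r, e⁆⁆, ⁅r, e⁆⁆ ∈ D1 p E := by rw [← commutatorElement_inv]; exact inv_mem hcd
  have hFx : ∀ x, ∀ y ∈ fr p E, ⁅x, y⁆ ∈ D1 p E := fun x y hy => by
    rw [← commutatorElement_inv]; exact inv_mem (comm_mem_D1 hy x)
  set s : Set G := (fr p E : Set G) ∪ {⁅r, ⁅r, e⁆⁆, ⁅r, e⁆}
  have hW : E ⊓ A ≤ D1 p E ⊔ closure s := by
    rw [P.inf_eq hG]
    refine le_sup_of_le_right (sup_le (sup_le (fun x hx => subset_closure (Or.inl hx)) ?_) ?_)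
    · exact zpowers_le.2 (subset_closure (Or.inr (Set.mem_insert _ _)))
    · exact zpowers_le.2 (subset_closure (Or.inr (Set.mem_insert_of_mem _ rfl)))
  have hs : SectRank.IsElemSection p (D1 p E) (D1 p E ⊔ closure s) := by
    refine isElemSection_of_gen ?_ ?_
    · rintro a (ha | rfl | rfl) b (hb | rfl | rfl)
      all_goals first
        | exact comm_mem_D1 ha _
        | exact hFx _ _ hb
        | (rw [commutatorElement_self]; exact one_mem _)
        | exact hcd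
        | exact hdc
    · rintro a (ha | rfl | rfl)
      exacts [mem_sup_left (pow_mem_frK ha), hd', hc]
  have h := (card_le_of_le hW).trans (card_le_of_rank hG hr hs)
  rw [card_inf_fr hG P.iE P.iA P.ne, show p ^ 3 = p * p ^ 2 by ring, ← mul_assoc] at h
  exact Nat.le_of_mul_le_mul_right h (pow_pos hp.out.pos 2)

omit hr hp2 in
theorem not_le_fr : ¬ fr p E ≤ fr p A := by
  intro h
  have hd' : ⁅r, ⁅r, e⁆⁆ ∈ fr p A := comm_mem_fr P.rA (P.c_mem hG).2
  refine P.iA.not_two_gen hG P.rA (P.c_mem hG).2 ((P.A_eq hG).le.trans (sup_le ?_ ?_))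
  · rw [P.inf_eq hG]
    exact sup_le (sup_le (h.trans (le_sup_left.trans le_sup_left))
      ((zpowers_le.2 hd').trans (le_sup_left.trans le_sup_left))) le_sup_right
  · exact (le_sup_right : zpowers r ≤ fr p A ⊔ zpowers r).trans le_sup_left

omit hr hp2 in
theorem D1_le_frA : D1 p E ≤ fr p A := by
  haveI := P.iE.normal
  have h := frattini_bound hG P.iE P.iA P.ne
  refine sup_le (sup_le (le_sup_left.trans h) ?_) (le_sup_right.trans h)
  exact ((commutator_mono le_rfl le_top).trans le_sup_right).trans h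

theorem inter_le : fr p E ⊓ fr p A ≤ D1 p E := by
  haveI := P.iE.normal
  have hlt : fr p E ⊓ fr p A < fr p E := lt_of_le_of_ne inf_le_left fun e' =>
    P.not_le_fr hG (e'.ge.trans inf_le_right)
  have h := (card_mul_le' hG hlt).trans (P.card_fr_le hG hp2 hr)
  exact (eq_of_le_of_card_ge (le_inf (D1_le E) (P.D1_le_frA hG))
    (Nat.le_of_mul_le_mul_right h hp.out.pos)).ge

theorem gamma_notMem : ⁅e, ⁅r, e⁆⁆ ∉ D1 p E := fun h => P.hg (by
  haveI := P.iA.normal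
  have h' := P.D1_le_frA hG h
  rw [comm_mem_iff] at h' ⊢
  rw [← commutatorElement_inv r e, map_inv]
  exact h'.inv_right)

theorem m_mem_D1 : ⁅r, ⁅r, ⁅r, e⁆⁆⁆ ∈ D1 p E :=
  P.inter_le hG hp2 hr ⟨P.m_mem hG, comm_mem_fr P.rA (P.d_mem hG).2⟩

theorem d_central (g : G) : ⁅⁅r, ⁅r, e⁆⁆, g⁆ ∈ D1 p E := by
  haveI := P.iE.normal
  obtain ⟨-, -, hcd, hed⟩ := P.mem_D1_facts hG hp2
  refine P.central_of hG (fun y hy => ?_) ?_ ?_ ?_ ?_ g
  · rw [← commutatorElement_inv]; exact inv_mem (comm_mem_D1 hy _)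
  · rw [← commutatorElement_inv]; exact inv_mem (P.m_mem_D1 hG hp2 hr)
  · rw [← commutatorElement_inv]; exact inv_mem hed
  · rw [← commutatorElement_inv]; exact inv_mem hcd
  · rw [commutatorElement_self]; exact one_mem _

/-- Decomposition of `E` and the coefficient of `e`. -/
theorem exists_decomp {x : G} (hx : x ∈ E) :
    ∃ f ∈ fr p E, ∃ k j i : ℤ, x = f * ⁅r, ⁅r, e⁆⁆ ^ k * ⁅r, e⁆ ^ j * e ^ i := by
  haveI := P.iE.normal
  haveI := P.iA.normal
  haveI : (fr p E ⊔ zpowers ⁅r, ⁅r, e⁆⁆).Normal := P.X_eq hG ▸ inferInstance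
  obtain ⟨w, hw, i, rfl⟩ := exists_of_mem_sup ((P.E_eq hG).le hx)
  obtain ⟨w', hw', j, rfl⟩ := exists_of_mem_sup ((P.inf_eq hG).le hw)
  obtain ⟨f, hf, k, rfl⟩ := exists_of_mem_sup hw'
  exact ⟨f, hf, k, j, i, rfl⟩

theorem exists_pow_r : ∃ a : ℤ, (⁅r, ⁅r, e⁆⁆ ^ a)⁻¹ * r ^ p ∈ D1 p E := by
  haveI := P.iE.normal
  obtain ⟨f, hf, k, j, i, hx⟩ := P.exists_decomp hG hp2 hr (P.iE.pow_mem r)
  set π := QuotientGroup.mk' (fr p E) with hπ
  have hab : ∀ a ∈ E, ∀ b ∈ E, Commute (π a) (π b) := fun a ha b hb =>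
    commute_mk' (comm_mem_fr ha hb)
  set c := ⁅r, e⁆ with hc
  set d := ⁅r, c⁆ with hd
  have hce : c ∈ E := (P.c_mem hG).1
  have hde : d ∈ E := (P.d_mem hG).1
  have hf1 : π f = 1 := mk'_eq_one.2 hf
  have cr : ∀ y : G, π r * π y * (π r)⁻¹ = π ⁅r, y⁆ * π y := fun y => by
    rw [← map_inv, ← map_mul, ← map_mul, ← map_mul, conj_eq_comm_mul]
  have hdfix : π r * π d * (π r)⁻¹ = π d := by
    rw [cr, show π ⁅r, d⁆ = 1 from mk'_eq_one.2 (P.m_mem hG), one_mul]
  have h0 : π d ^ j * π c ^ i = 1 := by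
    have h := cr (r ^ p)
    rw [show π ⁅r, r ^ p⁆ = 1 by
      rw [commutatorElement_eq_one_iff_commute.2 (Commute.self_pow r p), map_one], one_mul, hx,
      map_mul, map_mul, map_mul, hf1, one_mul, map_zpow, map_zpow, map_zpow,
      show π r * (π d ^ k * π c ^ j * π e ^ i) * (π r)⁻¹ = (π r * π d * (π r)⁻¹) ^ k *
        (π r * π c * (π r)⁻¹) ^ j * (π r * π e * (π r)⁻¹) ^ i by
          rw [conj_zpow, conj_zpow, conj_zpow]; group,
      hdfix, cr c, cr e, (hab d hde c hce).mul_zpow, (hab c hce e P.eE).mul_zpow] at h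
    rw [show π d ^ k * (π d ^ j * π c ^ j) * (π c ^ i * π e ^ i) =
      (π d ^ j * π c ^ i) * (π d ^ k * π c ^ j * π e ^ i) by
        rw [← mul_assoc, ← mul_assoc, ← mul_assoc, ← mul_assoc]
        rw [((hab d hde d hde).zpow_zpow k j).eq, mul_assoc (π d ^ j * π d ^ k),
          ((hab c hce c hce).zpow_zpow j i).eq, ← mul_assoc,
          mul_assoc (π d ^ j) (π d ^ k), ((hab d hde c hce).zpow_zpow k i).eq]
        simp only [mul_assoc]] at h
    exact mul_eq_right.1 h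
  have hi : (i : ZMod p) = 0 := by
    by_contra hi
    refine P.c_notMem hG (mem_of_zpow (mem_sup_left (pow_mem_fr hce)) hi ?_)
    have : d ^ j * c ^ i ∈ fr p E := by
      rw [← mk'_eq_one, map_mul, map_zpow, map_zpow]; exact h0
    simpa using mul_mem (inv_mem (mem_sup_right (zpow_mem (mem_zpowers d) j) :
      d ^ j ∈ fr p E ⊔ zpowers d)) (mem_sup_left this)
  have hj : (j : ZMod p) = 0 := by
    by_contra hj
    refine P.hd (mem_of_zpow (pow_mem_fr hde) hj ?_)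
    rw [← mk'_eq_one, map_zpow]
    rw [zpow_congr_mod (j := 0) (show π c ^ p = 1 by rw [← map_pow]; exact mk'_eq_one.2 (pow_mem_fr hce))
      (by rw [hi, Int.cast_zero]), zpow_zero, mul_one] at h0
    exact h0
  refine ⟨k, P.inter_le hG hp2 hr (Subgroup.mem_inf.2 ⟨?_, ?_⟩)⟩
  · rw [← mk'_eq_one, map_mul, map_inv, hx, map_mul, map_mul, map_mul, hf1, one_mul, map_zpow,
      map_zpow, map_zpow,
      zpow_congr_mod (i := j) (j := 0) (show π c ^ p = 1 by rw [← map_pow]; exact mk'_eq_one.2 (pow_mem_fr hce))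
        (by rw [hj, Int.cast_zero]),
      zpow_congr_mod (i := i) (j := 0) (show π e ^ p = 1 by rw [← map_pow]; exact mk'_eq_one.2 (pow_mem_fr P.eE))
        (by rw [hi, Int.cast_zero]), zpow_zero, zpow_zero, mul_one, mul_one, inv_mul_cancel]
  · exact mul_mem (inv_mem (zpow_mem (comm_mem_fr P.rA (P.c_mem hG).2) k)) (pow_mem_fr P.rA)

/-- The relation forced when the descent does not stop. -/
theorem key (h5 : 5 ≤ p) (hD : ¬ D1 p E ≤ D2 p E) : e ^ p ∉ D1 p E ∧
    ∀ a : ℤ, (⁅r, ⁅r, e⁆⁆ ^ a)⁻¹ * r ^ p ∈ D1 p E → e ^ p * ⁅e, ⁅r, e⁆⁆ ^ a ∈ D1 p E := by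
  haveI := P.iE.normal
  obtain ⟨hcp, hdp, hcd, hed⟩ := P.mem_D1_facts hG hp2
  set π := QuotientGroup.mk' (D2 p E) with hπ
  set c := ⁅r, e⁆ with hc
  set d := ⁅r, c⁆ with hd
  set m := ⁅r, d⁆ with hm
  set R := π r
  have hce : c ∈ E := (P.c_mem hG).1
  have hde : d ∈ E := (P.d_mem hG).1
  have hme : m ∈ E := P.iE.comm_mem hG r d
  have hmD : m ∈ D1 p E := P.m_mem_D1 hG hp2 hr
  have cenD : ∀ x ∈ D1 p E, ∀ g, Commute (π x) (π g) := fun x hx g => commute_mk' (comm_mem_D2 hx g)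
  have fixD : ∀ x ∈ D1 p E, R * π x * R⁻¹ = π x := fun x hx => by
    rw [(cenD x hx r).symm.eq, mul_inv_cancel_right]
  have T : Two p (E.map π) := two_map le_sup_right
    (commutator_le.2 fun x hx y hy => mem_sup_left (comm_mem_frK hx hy))
    fun x hx => mem_sup_left (pow_mem_frK hx)
  have hEm : ∀ {x}, x ∈ E → π x ∈ E.map π := fun h => mem_map_of_mem π h
  have cenF : ∀ x ∈ fr p E, ∀ y ∈ E, Commute (π x) (π y) := fun x hx y hy =>
    commute_mk' (mem_sup_left (comm_mem_frK hx hy))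
  have powF : ∀ x ∈ fr p E, π x ^ p = 1 := fun x hx => by
    rw [← map_pow]; exact mk'_eq_one.2 (mem_sup_left (pow_mem_frK hx))
  have cr : ∀ y : G, R * π y * R⁻¹ = π ⁅r, y⁆ * π y := fun y => by
    rw [← map_inv, ← map_mul, ← map_mul, ← map_mul, conj_eq_comm_mul]
  have rμ : R * π e ^ p * R⁻¹ = π c ^ p * π e ^ p := by
    rw [← conj_pow, cr, T.mul_pow_eq hp2 (hEm hce) (hEm P.eE)]
  have hD' : π d ^ p = 1 := by
    have h := fixD _ hcp
    rw [map_pow, ← conj_pow, cr, T.mul_pow_eq hp2 (hEm hde) (hEm hce)] at h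
    exact mul_eq_right.1 h
  have hMc : Commute (π c) (π m) := (cenD m hmD c).symm
  have hMe : Commute (π e) (π m) := (cenD m hmD e).symm
  have h2 : ⁅π c, π d⁆ = 1 := by
    have h := fixD _ hed
    rw [map_commutatorElement, conj_comm, cr e, cr d, T.cl (hEm hce) (hEm P.eE)
      (mul_mem (hEm hme) (hEm hde)), T.cr (hEm hce) (hEm hme) (hEm hde),
      T.cr (hEm P.eE) (hEm hme) (hEm hde), commutatorElement_eq_one_iff_commute.2 hMc,
      commutatorElement_eq_one_iff_commute.2 hMe, one_mul, one_mul] at h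
    exact mul_eq_right.1 h
  have rγ : R * ⁅π e, π c⁆ * R⁻¹ = ⁅π e, π d⁆ * ⁅π e, π c⁆ := by
    rw [conj_comm, cr e, cr c, T.cl (hEm hce) (hEm P.eE) (mul_mem (hEm hde) (hEm hce)),
      T.cr (hEm hce) (hEm hde) (hEm hce), commutatorElement_self, mul_one, h2, one_mul,
      T.cr (hEm P.eE) (hEm hde) (hEm hce)]
  have hν : π c ^ p ≠ 1 := by
    intro h
    have hdc : ⁅d, c⁆ ∈ D2 p E := comm_mem_iff.2 (commutatorElement_eq_one_iff_commute.1 h2).symm
    set s : Set G := (fr p E : Set G) ∪ {d, c}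
    have hW : E ⊓ A ≤ D2 p E ⊔ closure s := by
      rw [P.inf_eq hG]
      refine le_sup_of_le_right (sup_le (sup_le (fun x hx => subset_closure (Or.inl hx)) ?_) ?_)
      · exact zpowers_le.2 (subset_closure (Or.inr (Set.mem_insert _ _)))
      · exact zpowers_le.2 (subset_closure (Or.inr (Set.mem_insert_of_mem _ rfl)))
    have hfd : ∀ x ∈ fr p E, ∀ y ∈ E, ⁅y, x⁆ ∈ D2 p E := fun x hx y hy =>
      comm_mem_iff.2 (cenF x hx y hy).symm
    have hs : SectRank.IsElemSection p (D2 p E) (D2 p E ⊔ closure s) := by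
      refine isElemSection_of_gen ?_ ?_
      · rintro a (ha | rfl | rfl) b (hb | rfl | rfl)
        all_goals first
          | exact mem_sup_left (comm_mem_frK ha (fr_le hb))
          | exact mem_sup_left (comm_mem_frK ha hde)
          | exact mem_sup_left (comm_mem_frK ha hce)
          | exact hfd _ hb _ hde
          | exact hfd _ hb _ hce
          | (rw [commutatorElement_self]; exact one_mem _)
          | exact hdc
          | (rw [← commutatorElement_inv]; exact inv_mem hdc)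
      · rintro a (ha | rfl | rfl)
        · exact mem_sup_left (pow_mem_frK ha)
        · rw [← mk'_eq_one, map_pow]; exact hD'
        · rw [← mk'_eq_one, map_pow]; exact h
    have h1 := (card_le_of_le hW).trans (card_le_of_rank hG hr hs)
    have h3 : Nat.card (D2 p E) * p ≤ Nat.card (D1 p E) :=
      card_mul_le' hG (lt_of_le_of_ne (D2_le E) fun e' => hD e'.ge)
    have h4 : Nat.card (D1 p E) * p ≤ Nat.card (fr p E) :=
      card_mul_le' hG (lt_of_le_of_ne (D1_le E) fun e' => P.not_le_fr hG (e'.ge.trans (P.D1_le_frA hG)))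
    rw [card_inf_fr hG P.iE P.iA P.ne] at h1
    have h5' := (Nat.mul_le_mul_right (p ^ 2) ((Nat.mul_le_mul_right p h3).trans h4)).trans h1
    rw [show Nat.card (D2 p E) * p * p * p ^ 2 = Nat.card (D2 p E) * p ^ 4 by ring] at h5'
    exact absurd (Nat.le_of_mul_le_mul_left h5' Nat.card_pos)
      (_root_.not_le.2 (Nat.pow_lt_pow_right hp.out.one_lt (by norm_num)))
  have hμ : e ^ p ∉ D1 p E := fun h => hν (by
    have := fixD _ h
    rw [map_pow, rμ] at this
    exact mul_eq_right.1 this)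
  refine ⟨hμ, fun a ha => ?_⟩
  set φ := (d ^ a)⁻¹ * r ^ p with hφdef
  have hiter : ∀ n : ℕ, R ^ n * π e * (R ^ n)⁻¹ =
      π c ^ n * π d ^ n.choose 2 * π m ^ n.choose 3 * π e := by
    intro n
    induction n with
    | zero => simp
    | succ n ih =>
      rw [pow_succ', show R * R ^ n * π e * (R * R ^ n)⁻¹ = R * (R ^ n * π e * (R ^ n)⁻¹) * R⁻¹ by
        group, ih,
        show R * (π c ^ n * π d ^ n.choose 2 * π m ^ n.choose 3 * π e) * R⁻¹ =
          (R * π c * R⁻¹) ^ n * (R * π d * R⁻¹) ^ n.choose 2 * (R * π m * R⁻¹) ^ n.choose 3 *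
            (R * π e * R⁻¹) by rw [conj_pow, conj_pow, conj_pow]; group,
        cr c, cr d, cr e, fixD m hmD]
      have hcd' : Commute (π c) (π d) := commutatorElement_eq_one_iff_commute.1 h2
      have hmd : Commute (π m) (π d) := cenD m hmD d
      rw [hcd'.symm.mul_pow, hmd.mul_pow, Nat.choose_succ_succ n 1, Nat.choose_one_right,
        show (n + 1).choose 3 = n.choose 2 + n.choose 3 from Nat.choose_succ_succ n 2,
        show Nat.succ 1 = 2 from rfl, pow_add, pow_add, pow_add, pow_one]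
      have e1 := (hcd'.pow_pow 1 n); rw [pow_one] at e1
      have m2 : ∀ k l : ℕ, Commute (π m ^ k) (π d ^ l) := fun k l => hmd.pow_pow k l
      have mc : ∀ k : ℕ, Commute (π m ^ k) (π c) := fun k => hMc.symm.pow_left k
      calc π d ^ n * π c ^ n * (π m ^ n.choose 2 * π d ^ n.choose 2) * π m ^ n.choose 3 * (π c * π e)
          = π c ^ n * (π d ^ n * π d ^ n.choose 2) * (π m ^ n.choose 2 * π m ^ n.choose 3) *
              (π c * π e) := by
            rw [(hcd'.symm.pow_pow n n).eq, (m2 _ _).eq]; simp only [mul_assoc]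
        _ = π c ^ n * (π d ^ n * π d ^ n.choose 2) * π c *
              (π m ^ n.choose 2 * π m ^ n.choose 3) * π e := by
            rw [mul_assoc _ (π m ^ _ * π m ^ _), ← mul_assoc (π m ^ _ * π m ^ _),
              ((mc _).mul_left (mc _)).eq]
            simp only [mul_assoc]
        _ = π c ^ n * π c * (π d ^ n * π d ^ n.choose 2) *
              (π m ^ n.choose 2 * π m ^ n.choose 3) * π e := by
            rw [mul_assoc (π c ^ n) _ (π c), ((hcd'.symm.pow_left n).mul_left (hcd'.symm.pow_left _)).eq]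
            simp only [mul_assoc]
  have hlt3 : 3 < p := by omega
  obtain ⟨q2, hq2⟩ := hp.out.dvd_choose_self (k := 2) (by norm_num) (by omega)
  obtain ⟨q3, hq3⟩ := hp.out.dvd_choose_self (k := 3) (by norm_num) (by omega)
  have hν1 : R ^ p * π e * (R ^ p)⁻¹ = π c ^ p * π e := by
    rw [hiter, hq2, hq3, pow_mul, pow_mul, hD', powF m (D1_le E hmD), one_pow, one_pow, mul_one, mul_one]
  have hν2 : π c ^ p = ⁅π d, π e⁆ ^ a := by
    have h : R ^ p = π d ^ a * π φ := by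
      rw [← map_pow, ← map_zpow, ← map_mul, hφdef, mul_inv_cancel_left]
    rw [h, show π d ^ a * π φ * π e * (π d ^ a * π φ)⁻¹ =
      π d ^ a * (π φ * π e * (π φ)⁻¹) * (π d ^ a)⁻¹ by group, (cenD φ ha e).eq,
      mul_inv_cancel_right] at hν1
    rw [← T.zl (hEm hde) (hEm P.eE), commutatorElement_def, hν1, mul_inv_cancel_right]
  have hx : Commute R (π (e ^ p * ⁅e, c⁆ ^ a)) := by
    rw [Commute, SemiconjBy, ← mul_inv_eq_iff_eq_mul, map_mul, map_pow, map_zpow,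
      map_commutatorElement,
      show R * (π e ^ p * ⁅π e, π c⁆ ^ a) * R⁻¹ =
        (R * π e ^ p * R⁻¹) * (R * ⁅π e, π c⁆ * R⁻¹) ^ a by rw [conj_zpow]; group,
      rμ, rγ, (T.comm _ (hEm P.eE) _ (hEm hde) _ (by
        rw [← map_commutatorElement]; exact mem_map_of_mem π (fr_le (comm_mem_fr (p := p) P.eE hce)))).mul_zpow]
    have hed' : Commute (π e ^ p) (⁅π e, π d⁆ ^ a) := by
      rw [← map_commutatorElement, ← map_pow, ← map_zpow]
      exact (cenD _ (zpow_mem hed a) _).symm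
    rw [show π c ^ p * π e ^ p * (⁅π e, π d⁆ ^ a * ⁅π e, π c⁆ ^ a) =
      π c ^ p * ⁅π e, π d⁆ ^ a * (π e ^ p * ⁅π e, π c⁆ ^ a) by
        simp only [mul_assoc]; rw [hed'.left_comm],
      hν2, ← commutatorElement_inv (π e) (π d), inv_zpow, inv_mul_cancel, one_mul]
  by_contra hxD
  refine hD (sup_le le_sup_left (commutator_le.2 fun y hy g _ => ?_))
  have hxF : e ^ p * ⁅e, c⁆ ^ a ∈ fr p E :=
    mul_mem (pow_mem_fr P.eE) (zpow_mem (comm_mem_fr P.eE hce) a)
  have e2 : fr p E = D1 p E ⊔ zpowers (e ^ p * ⁅e, c⁆ ^ a) :=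
    eq_sup_zpowers hG (D1_le E) (P.card_fr_le hG hp2 hr) hxF hxD
  have hyr : ⁅y, r⁆ ∈ D2 p E := by
    obtain ⟨w, hw, i, rfl⟩ := exists_of_mem_sup (e2.le hy)
    rw [comm_mem_iff, map_mul, map_zpow]
    exact (cenD w hw r).mul_left (hx.symm.zpow_left i)
  exact P.central_of hG (fun z hz => mem_sup_left (comm_mem_frK hy (fr_le hz))) hyr
    (mem_sup_left (comm_mem_frK hy P.eE)) (mem_sup_left (comm_mem_frK hy hce))
    (mem_sup_left (comm_mem_frK hy hde)) g

end Pair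

end Cfsg.Agent.Lib.RankThreeEss69
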