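import Cfsg.Agent.Lib.RankThreeEss69.Regular

/-!
The invariant line in the regular case.
-/

set_option autoImplicit false
set_option linter.unusedSectionVars false

namespace Cfsg.Agent.Lib.RankThreeEss69

open Subgroup
open scoped commutatorElement

variable {G : Type*} [Group G] {p : ℕ} [hp : Fact p.Prime] [Finite G] (hG : IsPGroup p G)
include hG

theorem int_cast_two_ne_zero (h5 : 5 ≤ p) : (2 : ZMod p) ≠ 0 := fun h => by
  have h' : ((2 : ℕ) : ZMod p) = 0 := by simpa using h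
  rw [ZMod.natCast_eq_zero_iff] at h'
  exact absurd (Nat.le_of_dvd two_pos h') (by omega)

/-- The descent stops: `fr E` is central in the whole group modulo `frK E`. -/
theorem D1_le_frK (h5 : 5 ≤ p) (hr : Cfsg.SectionalPRankLE p 3 G) {E A B : Subgroup G} {r e : G}
    (P : Pair p E A r e) (iB : Idx p B) (hEB : E ≠ B) (hAB : A ≠ B) (heB : e ∉ B)
    (hregE : Regular p E) (hregB : Regular p B) : D1 p E ≤ frK p E := by
  haveI := P.iE.normal
  haveI := iB.normal
  have hp2 : p ≠ 2 := by omega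
  by_contra hne
  have hD : ¬ D1 p E ≤ D2 p E := fun h => hne (le_of_le_comm_sup hG (by
    refine h.trans ?_
    rw [D2, sup_comm]))
  obtain ⟨hμ, hkey⟩ := P.key hG hp2 hr h5 hD
  obtain ⟨a, ha⟩ := P.exists_pow_r hG hp2 hr
  have hx := hkey a ha
  have hWB : E ⊓ A ≤ B := by
    rw [P.inf_eq hG]
    exact sup_le (sup_le ((fr_le_inf hG P.iE iB hEB).trans inf_le_right)
      (zpowers_le.2 (iB.comm_mem hG _ _))) (zpowers_le.2 (iB.comm_mem hG _ _))
  obtain ⟨x, hx', t, hxt⟩ := exists_of_mem_sup ((iB.top_eq hG heB).le (mem_top r))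
  have hrj : r * e ^ (-t) ∈ B := by
    rw [hxt, zpow_neg, mul_inv_cancel_right]; exact hx'
  set j : ℤ := -t with hj
  have hj0 : (j : ZMod p) ≠ 0 := by
    intro h0
    have hrB : r ∈ B := by
      have h1 : e ^ j ∈ B := by
        have := zpow_mem_congr (iB.pow_mem e) (i := 0) (j := j) (by rw [h0, Int.cast_zero])
          (by rw [zpow_zero]; exact one_mem _)
        exact this
      simpa using B.mul_mem hrj (B.inv_mem h1)
    refine hAB (eq_of_le_of_card_ge ((P.A_eq hG).le.trans (sup_le hWB (zpowers_le.2 hrB))) ?_)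
    exact (Nat.eq_of_mul_eq_mul_right hp.out.pos (iB.card_top.symm.trans P.iA.card_top)).le
  have hrjE : r * e ^ j ∉ E := fun h => P.rE (by
    simpa using E.mul_mem h (E.inv_mem (E.zpow_mem P.eE j)))
  have heA' : r * e ^ j ∈ B := hrj
  have Q : Pair p E B (r * e ^ j) e :=
    ⟨P.iE, iB, hEB, hrj, hrjE, P.eE, heB, regular_mem hG P.iE iB hEB hregE hrjE P.eE heB,
      regular_mem hG iB P.iE hEB.symm hregB heB hrj hrjE⟩
  obtain ⟨a', ha'⟩ := Q.exists_pow_r hG hp2 hr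
  have hc' : ⁅r * e ^ j, e⁆ = ⁅r, e⁆ := by simp only [commutatorElement_def]; group
  rw [hc'] at ha'
  set π := QuotientGroup.mk' (D1 p E) with hπ
  set c := ⁅r, e⁆ with hc
  set d := ⁅r, c⁆ with hd
  have hce : c ∈ E := (P.c_mem hG).1
  have hde : d ∈ E := (P.d_mem hG).1
  have T := P.two_D1 hG
  have hEm : ∀ {x}, x ∈ E → π x ∈ E.map π := fun h => mem_map_of_mem π h
  have cen : ∀ y ∈ fr p E, ∀ g, Commute (π y) (π g) := fun y hy g => commute_mk' (comm_mem_D1 hy g)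
  have dcen : ∀ g, Commute (π d) (π g) := fun g => commute_mk' (P.d_central hG hp2 hr g)
  have hγF : ⁅e, c⁆ ∈ fr p E := comm_mem_fr P.eE hce
  set γ := π ⁅e, c⁆ with hγ
  have hγp : γ ^ p = 1 := by
    rw [hγ, ← map_pow]; exact mk'_eq_one.2 (mem_sup_left (pow_mem_frK hγF))
  have hd' : π ⁅r * e ^ j, c⁆ = γ ^ j * π d := by
    rw [show ⁅r * e ^ j, c⁆ = r * ⁅e ^ j, c⁆ * r⁻¹ * ⁅r, c⁆ by
      simp only [commutatorElement_def]; group, map_mul, map_mul, map_mul, map_inv,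
      map_commutatorElement π (e ^ j) c, map_zpow, T.zl (hEm P.eE) (hEm hce),
      ← map_commutatorElement, ← hγ, ((cen _ hγF r).symm.zpow_right j).eq, mul_inv_cancel_right]
  have hdp : π d ^ p = 1 := by
    rw [← map_pow]; exact mk'_eq_one.2 (P.mem_D1_facts hG hp2).2.1
  obtain ⟨hcp, -, hcd, hed⟩ := P.mem_D1_facts hG hp2
  have hZ2p : ∀ y ∈ E ⊓ A, y ^ p ∈ D1 p E := by
    intro y hy
    rw [P.inf_eq hG] at hy
    haveI : (fr p E ⊔ zpowers d).Normal := P.X_eq hG ▸ (by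
      haveI := P.iA.normal; infer_instance)
    obtain ⟨w, hw, i, rfl⟩ := exists_of_mem_sup hy
    obtain ⟨f, hf, k, rfl⟩ := exists_of_mem_sup hw
    have hcd' : Commute (π c) (π d) := (dcen c).symm
    rw [← mk'_eq_one, map_pow, map_mul, map_mul, map_zpow, map_zpow,
      (((cen f hf c).zpow_right i).mul_left (hcd'.symm.zpow_zpow k i)).mul_pow,
      ((cen f hf d).zpow_right k).mul_pow]
    rw [show π f ^ p = 1 by rw [← map_pow]; exact mk'_eq_one.2 (mem_sup_left (pow_mem_frK hf)),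
      ← zpow_natCast (π d ^ k), ← zpow_natCast (π c ^ i), ← zpow_mul, ← zpow_mul, mul_comm k,
      mul_comm i, zpow_mul, zpow_mul, zpow_natCast, zpow_natCast, hdp,
      show π c ^ p = 1 by rw [← map_pow]; exact mk'_eq_one.2 hcp, one_zpow, one_zpow, one_mul, one_mul]
  haveI := P.iA.normal
  have hcls := mul_pow_class3 (K := D1 p E) h5 (Z1 := ⁅E ⊓ A, (⊤ : Subgroup G)⁆ ⊔ fr p E) (Z2 := E ⊓ A)
    (by
      rw [P.X_eq hG, commutator_le]
      intro y hy g _
      obtain ⟨f, hf, k, rfl⟩ := exists_of_mem_sup hy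
      rw [comm_mem_iff, map_mul, map_zpow]
      exact (cen f hf g).mul_left ((dcen g).zpow_left k))
    le_sup_left
    (commutator_le.2 fun y _ z _ => ⟨P.iE.comm_mem hG y z, P.iA.comm_mem hG y z⟩)
    hZ2p r (e ^ j)
  have hrp : π r ^ p = π d ^ a := by
    have h : π ((d ^ a)⁻¹ * r ^ p) = 1 := mk'_eq_one.2 ha
    rw [map_mul, map_inv, map_zpow, inv_mul_eq_one, map_pow] at h
    exact h.symm
  have h1 : π (r * e ^ j) ^ p = (γ ^ j * π d) ^ a' := by
    have h : π ((⁅r * e ^ j, c⁆ ^ a')⁻¹ * (r * e ^ j) ^ p) = 1 := mk'_eq_one.2 ha'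
    rw [map_mul, map_inv, map_zpow, inv_mul_eq_one, map_pow, hd'] at h
    exact h.symm
  set μ := π (e ^ p) with hμdef
  rw [map_mul, hcls, hrp, map_zpow, ← zpow_natCast (π e ^ j), ← zpow_mul, mul_comm j, zpow_mul,
    zpow_natCast, ← map_pow, ← hμdef, ((cen _ hγF d).zpow_left j).mul_zpow, ← zpow_mul] at h1
  have haa : (a : ZMod p) = (a' : ZMod p) := by
    rw [← sub_eq_zero]
    by_contra hne'
    refine P.hd (mem_of_zpow (pow_mem_fr hde) (i := a - a') (by push_cast; exact hne') ?_)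
    have hFm : π (d ^ (a - a')) ∈ (fr p E).map π := by
      have h2 : π d ^ (a - a') = γ ^ (j * a') * (μ ^ j)⁻¹ := by
        have hc2 : Commute (μ ^ j) (π d) := (cen _ (pow_mem_fr P.eE) d).zpow_left j
        have h3 : π d ^ a = γ ^ (j * a') * π d ^ a' * (μ ^ j)⁻¹ := eq_mul_inv_of_mul_eq h1
        rw [zpow_sub, h3, mul_assoc, mul_assoc, ((hc2.inv_left.zpow_right a').inv_right).eq,
          mul_inv_cancel_left]
      rw [map_zpow, h2]
      exact mul_mem (zpow_mem (mem_map_of_mem π hγF) _)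
        (inv_mem (zpow_mem (mem_map_of_mem π (pow_mem_fr P.eE)) _))
    obtain ⟨y, hy, hye⟩ := hFm
    have : y⁻¹ * d ^ (a - a') ∈ D1 p E := (QuotientGroup.eq).1 hye
    simpa using mul_mem hy ((D1_le E) this)
  rw [← zpow_congr_mod hdp haa] at h1
  have h4 : μ ^ j = γ ^ (j * a') := by
    have hc2 : Commute (π d ^ a) (μ ^ j) := ((dcen (e ^ p)).zpow_zpow a j)
    rw [hc2.eq] at h1
    exact mul_right_cancel h1
  rw [zpow_congr_mod hγp (show ((j * a' : ℤ) : ZMod p) = ((a * j : ℤ) : ZMod p) by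
    push_cast; rw [haa]; ring), zpow_mul] at h4
  have h5' : γ ^ a = μ⁻¹ := by
    have h : π (e ^ p * ⁅e, c⁆ ^ a) = 1 := mk'_eq_one.2 hx
    rw [map_mul, map_zpow] at h
    exact (eq_inv_of_mul_eq_one_right h)
  rw [h5', inv_zpow, ← mul_eq_one_iff_eq_inv, ← zpow_add] at h4
  refine hμ (mk'_eq_one.1 ?_)
  by_contra hμ1
  have := cast_zero_of_zpow (x := μ) (by
    rw [hμdef, ← map_pow]; exact mk'_eq_one.2 (mem_sup_left (pow_mem_frK (pow_mem_fr P.eE)))) hμ1 h4
  push_cast at this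
  rw [← two_mul] at this
  exact hj0 ((mul_eq_zero.1 this).resolve_left (int_cast_two_ne_zero hG h5))

/-- In the regular case every automorphism of `E` keeps a line of `E / fr E`. -/
theorem regular_invariant (h5 : 5 ≤ p) (hr : Cfsg.SectionalPRankLE p 3 G) {E : Subgroup G}
    (iE : Idx p E) (hreg : Regular p E) (σ : MulAut G)
    (h01 : E ≠ E.map σ.toMonoidHom) (h02 : E ≠ (E.map σ.toMonoidHom).map σ.toMonoidHom)
    (h12 : E.map σ.toMonoidHom ≠ (E.map σ.toMonoidHom).map σ.toMonoidHom) :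
    ∃ r e : G, r ∉ E ∧ e ∈ E ∧ ⁅r, ⁅r, e⁆⁆ ∉ fr p E ∧
      ⁅r, e⁆ ∉ fr p E ⊔ zpowers ⁅r, ⁅r, e⁆⁆ ∧ ⁅r, ⁅r, ⁅r, e⁆⁆⁆ ∈ fr p E ∧
      (∀ x ∈ E, ∃ f ∈ fr p E, ∃ k j i : ℤ, x = f * ⁅r, ⁅r, e⁆⁆ ^ k * ⁅r, e⁆ ^ j * e ^ i) ∧
      ∀ (α : MulAut E) (u : E), (u : G) ∈ fr p E ⊔ zpowers ⁅r, ⁅r, e⁆⁆ →
        (α u : G) ∈ fr p E ⊔ zpowers ⁅r, ⁅r, e⁆⁆ := by
  haveI := iE.normal
  have hp2 : p ≠ 2 := by omega
  set A := E.map σ.toMonoidHom with hA
  set B := A.map σ.toMonoidHom with hB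
  have iA : Idx p A := map_aut_idx σ iE
  have iB : Idx p B := map_aut_idx σ iA
  have hregA : Regular p A := map_aut_regular σ hreg
  obtain ⟨r, hrA, hrE⟩ := SetLike.not_le_iff_exists.1 (not_le hG iE iA h01)
  obtain ⟨e, heE, heA, heB⟩ : ∃ e ∈ E, e ∉ A ∧ e ∉ B := by
    obtain ⟨x, hxE, hxA⟩ := SetLike.not_le_iff_exists.1 (not_le hG iA iE h01.symm)
    obtain ⟨y, hyE, hyB⟩ := SetLike.not_le_iff_exists.1 (not_le hG iB iE h02.symm)
    by_cases hxB : x ∈ B
    · by_cases hyA : y ∈ A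
      · exact ⟨x * y, E.mul_mem hxE hyE, fun h => hxA ((mul_mem_cancel_right hyA).1 h),
          fun h => hyB ((mul_mem_cancel_left hxB).1 h)⟩
      · exact ⟨y, hyE, hyA, hyB⟩
    · exact ⟨x, hxE, hxA, hxB⟩
  have P : Pair p E A r e :=
    ⟨iE, iA, h01, hrA, hrE, heE, heA, regular_mem hG iE iA h01 hreg hrE heE heA,
      regular_mem hG iA iE h01.symm hregA heA hrA hrE⟩
  have hD := D1_le_frK hG h5 hr P iB h02 h12 heB hreg (map_aut_regular σ hregA)
  refine ⟨r, e, hrE, heE, P.hd, P.c_notMem hG, P.m_mem hG,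
    fun x hx => P.exists_decomp hG hp2 hr hx, ?_⟩
  set π := QuotientGroup.mk' (D1 p E) with hπ
  set c := ⁅r, e⁆ with hc
  set d := ⁅r, c⁆ with hd
  have hce : c ∈ E := (P.c_mem hG).1
  have hde : d ∈ E := (P.d_mem hG).1
  have cen : ∀ y ∈ fr p E, ∀ g, Commute (π y) (π g) := fun y hy g => commute_mk' (comm_mem_D1 hy g)
  have dcen : ∀ g, Commute (π d) (π g) := fun g => commute_mk' (P.d_central hG hp2 hr g)
  have T := P.two_D1 hG
  have hEm : ∀ {x}, x ∈ E → π x ∈ E.map π := fun h => mem_map_of_mem π h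
  have hK : frK p E ≤ D1 p E := le_sup_left
  intro α u hu
  have hzero : ∀ w ∈ E, ⁅(α u : G), w⁆ ∈ D1 p E := by
    intro w hw
    obtain ⟨w', hw'⟩ := α.surjective ⟨w, hw⟩
    have h1 : ⁅(u : G), (w' : G)⁆ ∈ frK p E := by
      refine hD ?_
      obtain ⟨f, hf, k, hk⟩ := exists_of_mem_sup hu
      rw [comm_mem_iff, hk, map_mul, map_zpow]
      exact (cen f hf _).mul_left ((dcen _).zpow_left k)
    have h2 : E.subtype (α ⁅u, w'⁆) ∈ frK p E :=
      apply_mem_frK (p := p) E (E.subtype.comp α.toMonoidHom) E (fun x => (α x).2) (x := ⁅u, w'⁆) h1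
    rw [map_commutatorElement, hw', map_commutatorElement] at h2
    exact hK h2
  obtain ⟨f, hf, k, j, i, hx⟩ := P.exists_decomp hG hp2 hr (α u).2
  set γ := ⁅π e, π c⁆ with hγ
  have hγ1 : γ ≠ 1 := fun h => P.gamma_notMem hG hp2 hr (by
    rwa [← mk'_eq_one (K := D1 p E), map_commutatorElement])
  have hγp : γ ^ p = 1 := T.pow _ (hEm heE) _ (hEm hce)
  have hui : ∀ y ∈ E, Commute (π (α u : G)) (π y) := fun y hy => commute_mk' (hzero y hy)
  have hbase : Commute (π f * π d ^ k) (π c) := (cen f hf c).mul_left ((dcen c).zpow_left k)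
  have hbase' : Commute (π f * π d ^ k) (π e) := (cen f hf e).mul_left ((dcen e).zpow_left k)
  have hm1 : π f * π d ^ k ∈ E.map π := mul_mem (hEm (fr_le hf)) (zpow_mem (hEm hde) k)
  have hi : (i : ZMod p) = 0 := by
    refine cast_zero_of_zpow hγp hγ1 ?_
    have h := commutatorElement_eq_one_iff_commute.2 (hui c hce)
    rw [hx, map_mul, map_mul, map_mul, map_zpow, map_zpow, map_zpow,
      T.cl (mul_mem hm1 (zpow_mem (hEm hce) j)) (zpow_mem (hEm heE) i) (hEm hce),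
      T.cl hm1 (zpow_mem (hEm hce) j) (hEm hce), commutatorElement_eq_one_iff_commute.2 hbase,
      commutatorElement_eq_one_iff_commute.2 ((Commute.refl (π c)).zpow_left j), one_mul, one_mul,
      T.zl (hEm heE) (hEm hce)] at h
    exact h
  have hj : (j : ZMod p) = 0 := by
    refine cast_zero_of_zpow hγp hγ1 ?_
    have h := commutatorElement_eq_one_iff_commute.2 (hui e heE)
    rw [hx, map_mul, map_mul, map_mul, map_zpow, map_zpow, map_zpow,
      T.cl (mul_mem hm1 (zpow_mem (hEm hce) j)) (zpow_mem (hEm heE) i) (hEm heE),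
      T.cl hm1 (zpow_mem (hEm hce) j) (hEm heE), commutatorElement_eq_one_iff_commute.2 hbase',
      commutatorElement_eq_one_iff_commute.2 ((Commute.refl (π e)).zpow_left i), mul_one, one_mul,
      T.zl (hEm hce) (hEm heE), ← commutatorElement_inv, inv_zpow, inv_eq_one] at h
    exact h
  rw [hx]
  refine mul_mem (mul_mem (mul_mem (mem_sup_left hf) (mem_sup_right (zpow_mem (mem_zpowers d) k)))
    (mem_sup_left ?_)) (mem_sup_left ?_)
  · exact zpow_mem_congr (pow_mem_fr hce) (i := 0) (by rw [hj, Int.cast_zero])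
      (by rw [zpow_zero]; exact one_mem _)
  · exact zpow_mem_congr (pow_mem_fr heE) (i := 0) (by rw [hi, Int.cast_zero])
      (by rw [zpow_zero]; exact one_mem _)

end Cfsg.Agent.Lib.RankThreeEss69
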