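import Cfsg.Agent.Lib.RankThreeEss69.Regular

/-!
The transvection case: weights of a torus on a subgroup of index `p` with three generators.
-/

set_option autoImplicit false
set_option linter.unusedSectionVars false

namespace Cfsg.Agent.Lib.RankThreeEss69

open Subgroup
open scoped commutatorElement

variable {G : Type*} [Group G] {p : ℕ}

theorem normal_of_comm_mem {H : Subgroup G} (h : ∀ x ∈ H, ∀ g : G, ⁅g, x⁆ ∈ H) : H.Normal :=
  ⟨fun n hn g => by rw [conj_eq_comm_mul]; exact H.mul_mem (h n hn g) hn⟩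

theorem sup_zpowers_normal {K : Subgroup G} [hK : K.Normal] {x : G} (h : ∀ g, ⁅x, g⁆ ∈ K) :
    (K ⊔ zpowers x).Normal := by
  refine normal_of_comm_mem fun y hy g => mem_sup_left ?_
  obtain ⟨k, hk, i, rfl⟩ := exists_of_mem_sup hy
  have h2 : Commute (QuotientGroup.mk' K g) (QuotientGroup.mk' K x) := (commute_mk' (h g)).symm
  rw [comm_mem_iff, map_mul, map_zpow]
  refine Commute.mul_right ?_ (h2.zpow_right i)
  rw [show QuotientGroup.mk' K k = 1 from mk'_eq_one.2 hk]
  exact Commute.one_right _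

/-- Central factors do not change a commutator. -/
theorem comm_central {a b x y : G} (ha : ∀ q, Commute a q) (hb : ∀ q, Commute b q) :
    ⁅x * a, y * b⁆ = ⁅x, y⁆ := by
  rw [commutatorElement_def, commutatorElement_def, mul_inv_rev, mul_inv_rev]
  calc x * a * (y * b) * (a⁻¹ * x⁻¹) * (b⁻¹ * y⁻¹)
      = x * (a * (y * b) * a⁻¹) * (x⁻¹ * b⁻¹) * y⁻¹ := by group
    _ = x * (y * b) * (b⁻¹ * x⁻¹) * y⁻¹ := by
      rw [(ha _).eq, mul_inv_cancel_right, ((hb x⁻¹).inv_left).eq]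
    _ = x * y * x⁻¹ * y⁻¹ := by group

/-- Generators commuting modulo `K` commute modulo `K`. -/
theorem comm_mem_of_gen {K : Subgroup G} [K.Normal] {s : Set G}
    (hc : ∀ a ∈ s, ∀ b ∈ s, ⁅a, b⁆ ∈ K) {x y : G} (hx : x ∈ K ⊔ closure s)
    (hy : y ∈ K ⊔ closure s) : ⁅x, y⁆ ∈ K := by
  set π := QuotientGroup.mk' K
  have hmem : ∀ x ∈ K ⊔ closure s, π x ∈ closure (π '' s) := fun x hx => by
    have h := mem_map_of_mem π hx
    rwa [Subgroup.map_sup, QuotientGroup.map_mk'_self, bot_sup_eq, MonoidHom.map_closure] at h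
  rw [comm_mem_iff]
  have hcm : ∀ x ∈ closure (π '' s), ∀ y ∈ closure (π '' s), Commute x y := by
    intro x hx y hy
    induction hx, hy using closure_induction₂ with
    | mem a b ha hb =>
      obtain ⟨a, ha, rfl⟩ := ha
      obtain ⟨b, hb, rfl⟩ := hb
      exact commute_mk' (hc a ha b hb)
    | one_left b _ => exact Commute.one_left b
    | one_right a _ => exact Commute.one_right a
    | mul_left a b c _ _ _ h1 h2 => exact h1.mul_left h2
    | mul_right a b c _ _ _ h1 h2 => exact h1.mul_right h2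
    | inv_left a b _ _ h => exact h.inv_left
    | inv_right a b _ _ h => exact h.inv_right
  exact hcm _ (hmem x hx) _ (hmem y hy)

theorem map_D1_le {E : Subgroup G} (τ : MulAut G) (h : E.map τ.toMonoidHom = E) :
    (D1 p E).map τ.toMonoidHom ≤ D1 p E := by
  rw [D1, Subgroup.map_sup, map_frK, map_commutator, map_fr, h]
  exact sup_le_sup_left (commutator_mono le_rfl le_top) _

/-- A subgroup whose element `z` is `⁅r, e⁆`, with a torus of the given weights. -/
structure TData (p : ℕ) (E : Subgroup G) (τ : MulAut G) (n m : ℤ) (r e v : G) : Prop where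
  iE : Idx p E
  rE : r ∉ E
  eE : e ∈ E
  vE : v ∈ E
  gen : E ≤ fr p E ⊔ zpowers ⁅r, e⁆ ⊔ zpowers e ⊔ zpowers v
  rz : ⁅r, ⁅r, e⁆⁆ ∈ fr p E
  rv : ⁅r, v⁆ ∈ fr p E
  tE : E.map τ.toMonoidHom = E
  nm : ((n * m : ℤ) : ZMod p) = 1
  n1 : (n : ZMod p) ≠ 1
  n2 : (n : ZMod p) ^ 2 ≠ 1
  n3 : (n : ZMod p) ^ 3 ≠ 1
  n5 : (n : ZMod p) ^ 5 ≠ 1
  tz : (⁅r, e⁆ ^ n)⁻¹ * τ ⁅r, e⁆ ∈ fr p E
  te : (e ^ m)⁻¹ * τ e ∈ fr p E
  tv : v⁻¹ * τ v ∈ fr p E
  tr : (r ^ (n * n))⁻¹ * τ r ∈ fr p E ⊔ zpowers ⁅r, e⁆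

namespace TData

variable {E : Subgroup G} {τ : MulAut G} {n m : ℤ} {r e v : G}
variable [hp : Fact p.Prime] [Finite G] (hG : IsPGroup p G) (T : TData p E τ n m r e v)
include hG T

theorem z_mem : ⁅r, e⁆ ∈ E := T.iE.comm_mem hG r e

theorem gen' : E ≤ closure {⁅r, e⁆, e, v} := by
  refine le_of_le_sup_fr (p := p) hG ((closure_le _).2 ?_) (T.gen.trans ?_)
  · rintro x (rfl | rfl | rfl)
    exacts [T.z_mem hG, T.eE, T.vE]
  · refine sup_le (sup_le (sup_le le_sup_right ?_) ?_) ?_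
    all_goals exact (zpowers_le.2 (subset_closure (by simp))).trans le_sup_left

/-- Coordinates modulo `fr E` are unique. -/
theorem coord {a b c : ℤ} (h : ⁅r, e⁆ ^ a * e ^ b * v ^ c ∈ fr p E) :
    (a : ZMod p) = 0 ∧ (b : ZMod p) = 0 ∧ (c : ZMod p) = 0 := by
  haveI := T.iE.normal
  set z := ⁅r, e⁆ with hz
  have hzE : z ∈ E := T.z_mem hG
  have big : ∀ x y : G, x ∈ E → y ∈ E → E ≤ fr p E ⊔ zpowers x ⊔ zpowers y → False :=
    fun x y hx hy hle => T.iE.not_two_gen hG hx hy hle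
  have hF : fr p E ≤ fr p E ⊔ zpowers z ⊔ zpowers e := le_sup_left.trans le_sup_left
  have hc : (c : ZMod p) = 0 := by
    by_contra hc
    refine big z e hzE T.eE (T.gen.trans (sup_le le_rfl (zpowers_le.2 ?_)))
    refine mem_of_zpow (hF (pow_mem_fr T.vE)) hc ?_
    rw [show v ^ c = (z ^ a * e ^ b)⁻¹ * (z ^ a * e ^ b * v ^ c) by group]
    exact mul_mem (inv_mem (mul_mem (mem_sup_left (mem_sup_right (zpow_mem (mem_zpowers z) a)))
      (mem_sup_right (zpow_mem (mem_zpowers e) b)))) (hF h)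
  have hvc : v ^ c ∈ fr p E := zpow_mem_congr (pow_mem_fr T.vE) (i := 0) (by rw [hc, Int.cast_zero])
    (by rw [zpow_zero]; exact one_mem _)
  have h' : z ^ a * e ^ b ∈ fr p E := by simpa using mul_mem h (inv_mem hvc)
  have hb : (b : ZMod p) = 0 := by
    by_contra hb
    have he : e ∈ fr p E ⊔ zpowers z := by
      refine mem_of_zpow (mem_sup_left (pow_mem_fr T.eE)) hb ?_
      rw [show e ^ b = (z ^ a)⁻¹ * (z ^ a * e ^ b) by group]
      exact mul_mem (inv_mem (mem_sup_right (zpow_mem (mem_zpowers z) a))) (mem_sup_left h')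
    exact big z v hzE T.vE (T.gen.trans (sup_le_sup_right (sup_le le_rfl (zpowers_le.2 he)) _))
  have heb : e ^ b ∈ fr p E := zpow_mem_congr (pow_mem_fr T.eE) (i := 0) (by rw [hb, Int.cast_zero])
    (by rw [zpow_zero]; exact one_mem _)
  refine ⟨?_, hb, hc⟩
  by_contra ha
  have hz' : z ∈ fr p E :=
    mem_of_zpow (pow_mem_fr hzE) ha (by simpa using mul_mem h' (inv_mem heb))
  exact big e v T.eE T.vE (T.gen.trans (sup_le_sup_right
    (sup_le_sup_right (sup_le le_rfl (zpowers_le.2 hz')) _) _))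

theorem exists_coord {x : G} (hx : x ∈ E) :
    ∃ f ∈ fr p E, ∃ a b c : ℤ, x = f * ⁅r, e⁆ ^ a * e ^ b * v ^ c := by
  haveI := T.iE.normal
  have key : ∀ (K : Subgroup G) (y : G), fr p E ≤ K → K ≤ E → ∀ w ∈ K ⊔ zpowers y, y ∈ E →
      ∃ k ∈ K, ∃ i : ℤ, w = k * y ^ i := by
    intro K y hK hKE w hw hy
    have hle : zpowers y ≤ normalizer (K : Set G) := by
      refine zpowers_le.2 (mem_normalizer_iff.2 fun k => ⟨fun hk => ?_, fun hk => ?_⟩)
      · rw [conj_eq_comm_mul]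
        exact K.mul_mem (hK (comm_mem_fr hy (hKE hk))) hk
      · have := K.mul_mem (hK (comm_mem_fr (E.inv_mem hy) (hKE hk))) hk
        rw [← conj_eq_comm_mul] at this
        simpa [mul_assoc] using this
    rw [← SetLike.mem_coe, Subgroup.coe_mul_of_right_le_normalizer_left K (zpowers y) hle] at hw
    obtain ⟨k, hk, _, ⟨i, rfl⟩, rfl⟩ := hw
    exact ⟨k, hk, i, rfl⟩
  obtain ⟨k, hk, c, rfl⟩ := key _ v (le_sup_left.trans le_sup_left)
    (sup_le (sup_le fr_le (zpowers_le.2 (T.z_mem hG))) (zpowers_le.2 T.eE)) _ (T.gen hx) T.vE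
  obtain ⟨k', hk', b, rfl⟩ := key _ e le_sup_left (sup_le fr_le (zpowers_le.2 (T.z_mem hG))) _ hk T.eE
  obtain ⟨f, hf, a, rfl⟩ := key _ _ le_rfl fr_le _ hk' (T.z_mem hG)
  exact ⟨f, hf, a, b, c, rfl⟩

/-- What is central on the generators modulo `K` is central modulo `K`. -/
theorem central_of {K : Subgroup G} [K.Normal] {x : G} (hr : ⁅x, r⁆ ∈ K) (he : ⁅x, e⁆ ∈ K)
    (hv : ⁅x, v⁆ ∈ K) (hz : ⁅x, ⁅r, e⁆⁆ ∈ K) (g : G) : ⁅x, g⁆ ∈ K := by
  set π := QuotientGroup.mk' K
  have key : ∀ y, ⁅x, y⁆ ∈ K ↔ y ∈ (centralizer ({π x} : Set (G ⧸ K))).comap π := fun y => by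
    rw [comm_mem_iff, mem_comap, mem_centralizer_singleton_iff]
    exact ⟨fun h => h.eq.symm, fun h => h.symm⟩
  rw [key]
  refine (?_ : (⊤ : Subgroup G) ≤ _) (mem_top g)
  rw [T.iE.top_eq hG T.rE]
  refine sup_le ((T.gen' hG).trans ((closure_le _).2 ?_)) (zpowers_le.2 ((key _).1 hr))
  rintro y (rfl | rfl | rfl)
  exacts [(key _).1 hz, (key _).1 he, (key _).1 hv]

theorem z_central (g : G) : ⁅⁅r, e⁆, g⁆ ∈ fr p E := by
  haveI := T.iE.normal
  refine T.central_of hG ?_ (comm_mem_fr (T.z_mem hG) T.eE) (comm_mem_fr (T.z_mem hG) T.vE)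
    (by rw [commutatorElement_self]; exact one_mem _) g
  rw [← commutatorElement_inv]
  exact inv_mem T.rz

theorem v_central (g : G) : ⁅v, g⁆ ∈ fr p E := by
  haveI := T.iE.normal
  refine T.central_of hG ?_ (comm_mem_fr T.vE T.eE) (by rw [commutatorElement_self]; exact one_mem _)
    (comm_mem_fr T.vE (T.z_mem hG)) g
  rw [← commutatorElement_inv]
  exact inv_mem T.rv

theorem comm_mem (x y : G) : ⁅x, y⁆ ∈ fr p E ⊔ zpowers ⁅r, e⁆ := by
  haveI := T.iE.normal
  haveI : (fr p E ⊔ zpowers ⁅r, e⁆).Normal := sup_zpowers_normal (T.z_central hG)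
  set K := fr p E ⊔ zpowers ⁅r, e⁆
  have htop : ∀ g : G, g ∈ K ⊔ closure {r, e, v} := fun g => by
    refine (?_ : (⊤ : Subgroup G) ≤ _) (mem_top g)
    rw [T.iE.top_eq hG T.rE]
    refine sup_le (T.gen.trans (sup_le (sup_le le_sup_left ?_) ?_)) ?_
    all_goals exact (zpowers_le.2 (subset_closure (by simp))).trans le_sup_right
  refine comm_mem_of_gen ?_ (htop x) (htop y)
  have h1 : ⁅r, e⁆ ∈ K := mem_sup_right (mem_zpowers _)
  have h2 : ⁅r, v⁆ ∈ K := mem_sup_left T.rv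
  have h3 : ⁅e, v⁆ ∈ K := mem_sup_left (comm_mem_fr T.eE T.vE)
  rintro a (rfl | rfl | rfl) b (rfl | rfl | rfl)
  all_goals first
    | (rw [commutatorElement_self]; exact one_mem _)
    | assumption
    | (rw [← commutatorElement_inv]; exact inv_mem (by assumption))

theorem two_top [E.Normal] : Two p ((⊤ : Subgroup G).map (QuotientGroup.mk' (fr p E))) := by
  refine two_map (M := fr p E ⊔ zpowers ⁅r, e⁆) (commutator_le.2 fun x _ y _ => T.comm_mem hG x y)
    (commutator_le.2 fun x hx g _ => ?_) fun x hx => ?_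
  · obtain ⟨k, hk, i, rfl⟩ := exists_of_mem_sup hx
    rw [comm_mem_iff, map_mul, show QuotientGroup.mk' (fr p E) k = 1 from mk'_eq_one.2 hk, one_mul,
      map_zpow]
    exact (commute_mk' (T.z_central hG g)).zpow_left i
  · exact pow_mem_fr (sup_le fr_le (zpowers_le.2 (T.z_mem hG)) hx)

theorem pow_mem (hp2 : p ≠ 2) (g : G) : g ^ p ∈ fr p E := by
  haveI := T.iE.normal
  set π := QuotientGroup.mk' (fr p E) with hπ
  have hab : ∀ a ∈ E, ∀ b ∈ E, Commute (π a) (π b) := fun a ha b hb =>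
    commute_mk' (comm_mem_fr ha hb)
  set z := ⁅r, e⁆ with hz
  have hzE : z ∈ E := T.z_mem hG
  have hexp : ∀ x ∈ E, π x ^ p = 1 := fun x hx => by
    rw [← map_pow]; exact mk'_eq_one.2 (pow_mem_fr hx)
  have hπc : ∀ {a b : G} {k : ℤ}, (a ^ k)⁻¹ * b ∈ fr p E → π b = π a ^ k := fun {a b k} h => by
    have h1 : π ((a ^ k)⁻¹ * b) = 1 := mk'_eq_one.2 h
    rw [map_mul, map_inv, map_zpow, inv_mul_eq_one] at h1
    exact h1.symm
  have ind : ∀ a b c : ℤ, π z ^ a * π e ^ b * π v ^ c = 1 →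
      (a : ZMod p) = 0 ∧ (b : ZMod p) = 0 ∧ (c : ZMod p) = 0 := fun a b c h =>
    T.coord hG (mk'_eq_one.1 (by simp only [map_mul, map_zpow]; exact h))
  obtain ⟨f, hf, a, b, c, hx⟩ := T.exists_coord hG (T.iE.pow_mem r)
  have hx' : π r ^ p = π z ^ a * π e ^ b * π v ^ c := by
    rw [← map_pow, hx, map_mul, map_mul, map_mul, show π f = 1 from mk'_eq_one.2 hf, one_mul,
      map_zpow, map_zpow, map_zpow]
  have hzc : Commute (π z) (π r) := commute_mk' (T.z_central hG r)
  have hvc : Commute (π v) (π r) := commute_mk' (T.v_central hG r)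
  have hre : π r * π e * (π r)⁻¹ = π z * π e := by
    rw [← map_inv, ← map_mul, ← map_mul, ← map_mul, conj_eq_comm_mul]
  have hb : (b : ZMod p) = 0 := by
    refine (ind b 0 0 ?_).1
    rw [zpow_zero, zpow_zero, mul_one, mul_one]
    have h1 : π r * π r ^ p * (π r)⁻¹ = π r ^ p := by
      rw [(Commute.self_pow (π r) p).eq, mul_inv_cancel_right]
    rw [hx', show π r * (π z ^ a * π e ^ b * π v ^ c) * (π r)⁻¹ = (π r * π z * (π r)⁻¹) ^ a *
      (π r * π e * (π r)⁻¹) ^ b * (π r * π v * (π r)⁻¹) ^ c by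
        rw [conj_zpow, conj_zpow, conj_zpow]; group,
      hre, hzc.symm.eq, mul_inv_cancel_right, hvc.symm.eq, mul_inv_cancel_right,
      (hab z hzE e T.eE).mul_zpow, ← mul_assoc (π z ^ a),
      ((Commute.refl (π z)).zpow_zpow a b).eq, mul_assoc (π z ^ b), mul_assoc (π z ^ b)] at h1
    exact mul_eq_right.1 h1
  rw [zpow_congr_mod (hexp e T.eE) (show (b : ZMod p) = ((0 : ℤ) : ZMod p) by rw [hb, Int.cast_zero]),
    zpow_zero, mul_one] at hx'
  have h1 : π (τ (r ^ p)) = π z ^ (n * a) * π v ^ c := by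
    have hfr : τ f ∈ fr p E := by
      have h := mem_map_of_mem τ.toMonoidHom hf
      rwa [map_fr, T.tE] at h
    rw [hx, map_mul, map_mul, map_mul, map_mul, map_mul, map_mul, show π (τ f) = 1 from
      mk'_eq_one.2 hfr, one_mul, map_zpow, map_zpow, map_zpow, map_zpow, map_zpow, map_zpow,
      hπc T.tz, hπc T.te, show π (τ v) = π v by simpa using hπc (k := 1) (by simpa using T.tv),
      ← zpow_mul, ← zpow_mul,
      zpow_congr_mod (hexp e T.eE) (show ((m * b : ℤ) : ZMod p) = ((0 : ℤ) : ZMod p) by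
        push_cast; rw [hb, mul_zero]), zpow_zero, mul_one]
  have h2 : π (τ (r ^ p)) = π z ^ (n * n * a) * π v ^ (n * n * c) := by
    obtain ⟨w, hw, hwe⟩ : ∃ w ∈ fr p E ⊔ zpowers z, τ r = r ^ (n * n) * w :=
      ⟨_, T.tr, (mul_inv_cancel_left _ _).symm⟩
    have hwc : Commute (π (r ^ (n * n))) (π w) := by
      obtain ⟨k, hk, i, rfl⟩ := exists_of_mem_sup hw
      rw [map_mul, show π k = 1 from mk'_eq_one.2 hk, one_mul, map_zpow π z]
      exact (commute_mk' (T.z_central hG _)).symm.zpow_right i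
    rw [map_pow, hwe, map_pow, map_mul, hwc.mul_pow,
      hexp w (sup_le fr_le (zpowers_le.2 hzE) hw), mul_one, map_zpow, ← zpow_natCast,
      ← zpow_mul, mul_comm, zpow_mul, zpow_natCast, hx',
      (hab z hzE v T.vE |>.zpow_zpow a c).mul_zpow, ← zpow_mul, ← zpow_mul, mul_comm a, mul_comm c]
  rw [h1] at h2
  obtain ⟨ha', -, hc'⟩ := ind (n * a - n * n * a) 0 (c - n * n * c) (by
    rw [zpow_zero, mul_one, zpow_sub, zpow_sub]
    have hcm := (hab z hzE v T.vE)
    calc π z ^ (n * a) * (π z ^ (n * n * a))⁻¹ * (π v ^ c * (π v ^ (n * n * c))⁻¹)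
        = π z ^ (n * a) * π v ^ c * (π z ^ (n * n * a) * π v ^ (n * n * c))⁻¹ := by
          have e1 : Commute ((π z ^ (n * n * a))⁻¹) (π v ^ c) := (hcm.zpow_zpow _ _).inv_left
          have e2 : Commute ((π z ^ (n * n * a))⁻¹) (π v ^ (n * n * c))⁻¹ :=
            (hcm.zpow_zpow _ _).inv_left.inv_right
          rw [mul_inv_rev, ← e2.eq]
          rw [← mul_assoc, mul_assoc (π z ^ (n * a)), e1.eq]
          simp only [mul_assoc]
      _ = 1 := by rw [h2, mul_inv_cancel])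
  push_cast at ha' hc'
  have hn0 : (n : ZMod p) ≠ 0 := fun h0 => by
    have := T.nm; push_cast at this; rw [h0, zero_mul] at this; exact zero_ne_one this
  have ha : (a : ZMod p) = 0 := by
    have h0 : ((n : ZMod p) * (1 - n)) * a = 0 := by linear_combination ha'
    exact (mul_eq_zero.1 h0).resolve_left (mul_ne_zero hn0 (sub_ne_zero.2 (Ne.symm T.n1)))
  have hc : (c : ZMod p) = 0 := by
    have h0 : (1 - (n : ZMod p) ^ 2) * c = 0 := by linear_combination hc'
    exact (mul_eq_zero.1 h0).resolve_left (sub_ne_zero.2 (Ne.symm T.n2))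
  have hr : π r ^ p = 1 := by
    rw [hx', zpow_congr_mod (hexp z hzE) (show (a : ZMod p) = ((0 : ℤ) : ZMod p) by rw [ha, Int.cast_zero]),
      zpow_congr_mod (hexp v T.vE) (show (c : ZMod p) = ((0 : ℤ) : ZMod p) by rw [hc, Int.cast_zero]),
      zpow_zero, zpow_zero, mul_one]
  obtain ⟨u, hu, j, hg⟩ := exists_of_mem_sup ((T.iE.top_eq hG T.rE).le (mem_top g))
  rw [← mk'_eq_one, map_pow, hg, map_mul, map_zpow,
    (T.two_top hG).mul_pow_eq hp2 (mem_map_of_mem _ (mem_top u))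
      (by rw [← map_zpow]; exact mem_map_of_mem _ (mem_top _)),
    hexp u hu, ← zpow_natCast, ← zpow_mul, mul_comm, zpow_mul, zpow_natCast, hr, one_zpow, mul_one]

/-- The Frattini subgroup of the whole group. -/
theorem fr_top (hp2 : p ≠ 2) : fr p (⊤ : Subgroup G) = fr p E ⊔ zpowers ⁅r, e⁆ :=
  le_antisymm (fr_le_of (fun x _ => mem_sup_left (T.pow_mem hG hp2 x)) fun x _ y _ => T.comm_mem hG x y)
    (sup_le (fr_mono le_top) (zpowers_le.2 (comm_mem_fr (mem_top r) (mem_top e))))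

theorem zv_normal : (fr p E ⊔ zpowers ⁅r, e⁆ ⊔ zpowers v).Normal := by
  haveI := T.iE.normal
  haveI := sup_zpowers_normal (T.z_central hG)
  exact sup_zpowers_normal fun g => mem_sup_left (T.v_central hG g)

theorem card_Phi : Nat.card (fr p E ⊔ zpowers ⁅r, e⁆ : Subgroup G) = Nat.card (fr p E) * p := by
  haveI := T.iE.normal
  refine card_sup_zpowers_eq hG (pow_mem_fr (T.z_mem hG)) fun h => ?_
  have := (T.coord hG (a := 1) (b := 0) (c := 0) (by simpa using h)).1
  rw [Int.cast_one] at this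
  exact one_ne_zero this

theorem v_notMem : v ∉ fr p E ⊔ zpowers ⁅r, e⁆ := fun h => by
  haveI := T.iE.normal
  obtain ⟨k, hk, i, hi⟩ := exists_of_mem_sup h
  have := (T.coord hG (a := i) (b := 0) (c := -1) (by
    rw [zpow_zero, mul_one, zpow_neg_one, hi, mul_inv_rev, mul_inv_cancel_left]
    exact inv_mem hk)).2.2
  rw [Int.cast_neg, Int.cast_one] at this
  exact one_ne_zero (neg_eq_zero.1 this)

theorem card_zv : Nat.card (fr p E ⊔ zpowers ⁅r, e⁆ ⊔ zpowers v : Subgroup G) =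
    Nat.card (fr p E) * p * p := by
  haveI := T.iE.normal
  haveI := sup_zpowers_normal (T.z_central hG)
  rw [card_sup_zpowers_eq hG (mem_sup_left (pow_mem_fr T.vE)) (T.v_notMem hG), T.card_Phi hG]

theorem Phi_le {A : Subgroup G} (iA : Idx p A) (hne : E ≠ A) :
    fr p E ⊔ zpowers ⁅r, e⁆ ≤ A :=
  sup_le ((fr_le_inf hG T.iE iA hne).trans inf_le_right) (zpowers_le.2 (iA.comm_mem hG r e))

theorem inf_eq_zv {A : Subgroup G} (iA : Idx p A) (hne : E ≠ A) (hv : v ∈ A) :
    E ⊓ A = fr p E ⊔ zpowers ⁅r, e⁆ ⊔ zpowers v := by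
  refine (eq_of_le_of_card_ge (le_inf (sup_le (sup_le fr_le (zpowers_le.2 (T.z_mem hG)))
    (zpowers_le.2 T.vE)) (sup_le (T.Phi_le hG iA hne) (zpowers_le.2 hv))) ?_).symm
  rw [T.card_zv hG, card_inf_fr hG T.iE iA hne, sq, ← mul_assoc]

theorem fr_eq_iff (hp2 : p ≠ 2) {A : Subgroup G} (iA : Idx p A) (hne : E ≠ A) :
    fr p A = fr p E ↔ v ∈ A := by
  haveI := T.iE.normal
  constructor
  · intro heq
    haveI := iA.normal
    by_contra hv
    obtain ⟨x, hx, j, hrx⟩ := exists_of_mem_sup ((iA.top_eq hG hv).le (mem_top r))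
    obtain ⟨y, hy, k, hey⟩ := exists_of_mem_sup ((iA.top_eq hG hv).le (mem_top e))
    have h1 : ⁅x, y⁆ ∈ fr p E := heq ▸ comm_mem_fr hx hy
    set π := QuotientGroup.mk' (fr p E)
    have hvc : ∀ g, Commute (π v) (π g) := fun g => commute_mk' (T.v_central hG g)
    have hxy : π ⁅x, y⁆ = π ⁅r, e⁆ := by
      have hc : ∀ (i : ℤ) (q : G ⧸ fr p E), Commute (π v ^ i) q := fun i q =>
        QuotientGroup.induction_on q fun g => (hvc g).zpow_left i
      rw [hrx, hey, map_commutatorElement, map_commutatorElement, map_mul, map_mul, map_zpow, map_zpow,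
        comm_central (hc j) (hc k)]
    rw [← mk'_eq_one, hxy, mk'_eq_one] at h1
    have := (T.coord hG (a := 1) (b := 0) (c := 0) (by simpa using h1)).1
    rw [Int.cast_one] at this
    exact one_ne_zero this
  · intro hv
    obtain ⟨f, hfA, hfE⟩ := SetLike.not_le_iff_exists.1 (not_le hG T.iE iA hne)
    have hA : A = E ⊓ A ⊔ zpowers f :=
      eq_sup_zpowers hG inf_le_right (card_inf hG T.iE iA hne).ge hfA fun h => hfE h.1
    have hle : fr p A ≤ fr p E := by
      refine fr_le_of_gen (s := {⁅r, e⁆, v, f}) ?_ ?_ fun a _ => T.pow_mem hG hp2 a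
      · refine hA.le.trans ?_
        rw [T.inf_eq_zv hG iA hne hv]
        refine sup_le (sup_le (sup_le le_sup_left ?_) ?_) ?_
        all_goals exact (zpowers_le.2 (subset_closure (by simp))).trans le_sup_right
      · have h1 := fun g => T.z_central hG g
        have h2 := fun g => T.v_central hG g
        rintro a (rfl | rfl | rfl) b (rfl | rfl | rfl)
        all_goals first
          | exact h1 _
          | exact h2 _
          | (rw [commutatorElement_self]; exact one_mem _)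
          | (rw [← commutatorElement_inv]; exact inv_mem (h1 _))
          | (rw [← commutatorElement_inv]; exact inv_mem (h2 _))
    refine eq_of_le_of_card_ge hle (Nat.le_of_mul_le_mul_right ?_ (pow_pos hp.out.pos 3))
    rw [← T.iE.card, ← iA.card]
    exact (Nat.eq_of_mul_eq_mul_right hp.out.pos (T.iE.card_top.symm.trans iA.card_top)).le

end TData

end Cfsg.Agent.Lib.RankThreeEss69
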