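import Cfsg.Agent.Lib.RankThreeEss69.Orbit
import Cfsg.Agent.Lib.RankThreeEss69.Setup
import Cfsg.Agent.Lib.FusionOrderFive.Torus

/-!
The torus of an essential subgroup on which the normaliser induces transvections.
-/

set_option autoImplicit false
set_option linter.unusedSectionVars false

namespace Cfsg.Agent.Lib.RankThreeEss69

open Cfsg Cfsg.FusionSystem Cfsg.Agent.Lib.Fusion Cfsg.Agent.Lib.Fusion87 Cfsg.Agent.Lib.FusionOrderFive
  Cfsg.Agent.Lib.Fusion87.RankThree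
open scoped commutatorElement

universe u

theorem exists_units {p : ℕ} [hp : Fact p.Prime] (h5 : 5 ≤ p) : ∃ n : ZMod p,
    n ≠ 0 ∧ n ≠ 1 ∧ n ^ 2 ≠ 1 ∧ n ^ 3 ≠ 1 ∧ n ^ 5 ≠ 1 := by
  obtain ⟨g, hg⟩ := IsCyclic.exists_generator (α := (ZMod p)ˣ)
  have ho : orderOf g = p - 1 := by
    rw [orderOf_eq_card_of_forall_mem_zpowers hg, Nat.card_eq_fintype_card, ZMod.card_units]
  have key : ∀ k : ℕ, 0 < k → ¬ (p - 1) ∣ k → (g : ZMod p) ^ k ≠ 1 := fun k _ hk h => hk (by
    rw [← ho]; exact orderOf_dvd_of_pow_eq_one (Units.ext (by rw [Units.val_pow_eq_pow_val, h, Units.val_one])))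
  refine ⟨g, g.ne_zero, by simpa using key 1 one_pos (fun h => absurd (Nat.le_of_dvd one_pos h) (by omega)),
    key 2 two_pos (fun h => absurd (Nat.le_of_dvd two_pos h) (by omega)),
    key 3 three_pos (fun h => absurd (Nat.le_of_dvd three_pos h) (by omega)), key 5 (by norm_num) fun h => ?_⟩
  have h1 := Nat.le_of_dvd (by norm_num) h
  rcases (show p = 5 ∨ p = 6 by omega) with rfl | rfl
  · norm_num at h
  · exact absurd hp.out (by decide)

variable {Ω : Type u} [Group Ω] {S : Subgroup Ω} [Finite S] {F : FusionSystem S} {p : ℕ}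
  [hp : Fact p.Prime] (hS : IsPGroup p S) (hF : F.IsSaturated p) {E : Subgroup Ω}
  (hE : F.IsEssential p E) (h5 : 5 ≤ p) (hrk : (frattini E).index = p ^ 3)

include hS hF hE h5 hrk

theorem exists_tdata (hreg : ¬ Regular p (E.subgroupOf (normalizerIn S E))) :
    ∃ τ ∈ F.autGroup (normalizerIn S E), ∃ (n m : ℤ) (r e v : normalizerIn S E),
      TData p (E.subgroupOf (normalizerIn S E)) τ n m r e v := by
  classical
  have hES := hE.1.1
  haveI := finite_of_le hES
  have hp2 : p ≠ 2 := by omega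
  set N := normalizerIn S E with hN
  have hNS : N ≤ S := inf_le_left
  haveI : Finite N := finite_of_le hNS
  have hG : IsPGroup p N := hS.to_le hNS
  have hEN : E ≤ N := le_normalizerIn hES
  set Eb := E.subgroupOf N with hEb
  have iE : Idx p Eb := idx_bar hS hF hE hp2 hrk
  haveI := iE.normal
  set ι := Subgroup.inclusion hEN with hι
  have hιE : ∀ x : E, ι x ∈ Eb := fun x => x.2
  have hPp := hS.to_le hES
  letI := quotCommGroup hPp
  have hexp := pow_quot hPp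
  have hmem : ∀ x : E, x ∈ frattini E ↔ ι x ∈ fr p Eb := fun x => (mem_fr_bar hS hES x).symm
  have mk_eq : ∀ a b : E, (a : E ⧸ frattini E) = b ↔ (ι a)⁻¹ * ι b ∈ fr p Eb := fun a b => by
    rw [QuotientGroup.eq, hmem, map_mul, map_inv]
  set π := QuotientGroup.mk' (fr p Eb) with hπ
  have mk_π : ∀ a b : E, (a : E ⧸ frattini E) = b ↔ π (ι a) = π (ι b) := fun a b => by
    rw [mk_eq]; exact (QuotientGroup.eq).symm
  -- an element outside `E`
  obtain ⟨r0, -, hr0⟩ : ∃ r0 ∈ (⊤ : Subgroup N), r0 ∉ Eb := SetLike.exists_of_lt (lt_top_iff_ne_top.2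
    fun h => by
      have := iE.index
      rw [h, Subgroup.index_top] at this
      exact hp.out.ne_one this.symm)
  have hr0S : (r0 : Ω) ∈ S := hNS r0.2
  set rn := (r0 : N).2.2
  set a := conjAut E (r0 : Ω) rn with ha'
  have haS : a ∈ autInducedBy S E := mem_autInducedBy_normalizer.2 ⟨r0, rn, hr0S, rfl⟩
  have ha1 : quotHom E a ≠ 1 := fun h => hr0 (mem_of_trivial hS hF hE hr0S rn h)
  have haι : ∀ x : E, ι (a x) = r0 * ι x * r0⁻¹ := fun x => Subtype.ext rfl
  set t := quotHom E a with ht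
  have htd : ∀ x : E, t (x : E ⧸ frattini E) = ((a x : E) : E ⧸ frattini E) := fun x => rfl
  have hab := comm_quot hPp
  set f := dispHom hab t with hf
  have hfr2 : ∀ (g : N) (x : E), ⁅g, ⁅g, ι x⁆⁆ ∈ fr p Eb := fun g x => by
    by_contra h
    exact hreg ⟨g, ι x, hιE x, h⟩
  have hff : ∀ w, t (f w) = f w := by
    intro w
    induction w using QuotientGroup.induction_on with
    | _ x =>
    show t (t _ * _⁻¹) = t _ * _⁻¹
    rw [htd, ← QuotientGroup.mk_inv, ← QuotientGroup.mk_mul, htd, mk_π]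
    rw [haι, map_mul ι, map_inv ι, haι, map_mul π, map_mul π, map_inv π r0]
    have h : Commute (π r0) (π ⁅r0, ι x⁆) := commute_mk' (hfr2 r0 x)
    rw [show r0 * ι x * r0⁻¹ * (ι x)⁻¹ = ⁅r0, ι x⁆ from rfl, h.eq, mul_inv_cancel_right]
  have hV : Nat.card (E ⧸ frattini E) = p ^ 3 := by rw [← Subgroup.index_eq_card, hrk]
  have hVp : IsPGroup p (E ⧸ frattini E) := IsPGroup.of_card hV
  have hDK : f.range ≤ f.ker := by
    rintro _ ⟨w, rfl⟩
    exact disp_eq_one.2 (hff w)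
  obtain ⟨j, hj⟩ := IsPGroup.iff_card.1 (hVp.to_subgroup f.range)
  obtain ⟨i, hi⟩ := IsPGroup.iff_card.1 (hVp.to_subgroup f.ker)
  have hij : i + j = 3 := by
    have h := Subgroup.card_mul_index f.ker
    rw [Subgroup.index_ker, hi, hj, hV, ← pow_add] at h
    exact Nat.pow_right_injective hp.out.two_le h
  have hji : j ≤ i := (Nat.pow_le_pow_iff_right hp.out.one_lt).1 (by
    rw [← hi, ← hj]; exact Subgroup.card_le_of_le hDK)
  obtain ⟨z, hzD, hz1⟩ := f.range.bot_or_exists_ne_one.resolve_left fun h => ha1 (MulEquiv.ext fun w =>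
    disp_eq_one.1 (Subgroup.mem_bot.1 (h ▸ (⟨w, rfl⟩ : disp t w ∈ f.range))))
  have hDz : f.range = Subgroup.zpowers z := (Subgroup.eq_of_le_of_card_ge (Subgroup.zpowers_le.2 hzD) (by
    rw [hj, Nat.card_zpowers, orderOf_eq_prime (hexp z) hz1]
    exact (Nat.pow_le_pow_right hp.out.pos (show j ≤ 1 by omega)).trans (pow_one p).le)).symm
  have htz : t z = z := disp_eq_one.1 (hDK hzD)
  have hmove : ∀ w, ∃ i : ℤ, t w = w * z ^ i := fun w => by
    obtain ⟨i, hi⟩ := Subgroup.mem_zpowers_iff.1 (hDz.le ⟨w, rfl⟩ : f w ∈ Subgroup.zpowers z)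
    refine ⟨i, ?_⟩
    rw [apply_eq t w, mul_comm]
    exact congrArg (w * ·) hi.symm
  obtain ⟨g, hg, hgz⟩ := exists_moved hS hF hE hp2 (Or.inr hrk) haS ha1 htz hmove
  obtain ⟨nz, hn0, hn1, hn2, hn3, hn5⟩ := exists_units (p := p) h5
  obtain ⟨n, hn⟩ := exists_intCast nz
  obtain ⟨m, hm⟩ := exists_intCast (nz⁻¹)
  have hnm : ((n * m : ℤ) : ZMod p) = 1 := by push_cast; rw [hn, hm, mul_inv_cancel₀ hn0]
  obtain ⟨hte, β, hβ, b1, b2, b3, hdec, b5⟩ :=
    exists_torus_aut hS hF hE hp2 (Or.inr hrk) haS ha1 htz hmove hg hgz hnm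
  set e0 := quotHom E g z with he0
  obtain ⟨w, hw⟩ : ∃ w, w ∉ Subgroup.zpowers z ⊔ Subgroup.zpowers e0 := by
    by_contra hall
    push Not at hall
    have htop : Subgroup.zpowers z ⊔ Subgroup.zpowers e0 = ⊤ := (Subgroup.eq_top_iff' _).2 hall
    have h := card_gen2_le (p := p) (K := (⊥ : Subgroup (E ⧸ frattini E))) (x := z) (y := e0)
      (Subgroup.mem_bot.2 (commutatorElement_eq_one_iff_commute.2 (hab z e0)))
      (Subgroup.mem_bot.2 (hexp z)) (Subgroup.mem_bot.2 (hexp e0))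
    rw [bot_sup_eq, htop, Subgroup.card_top, Subgroup.card_bot, one_mul, hV] at h
    exact absurd h (_root_.not_le.2 (Nat.pow_lt_pow_right hp.out.one_lt (by norm_num)))
  obtain ⟨i₁, j₁, l, hl, hl', hwl⟩ := hdec w
  have hlV : l ∉ Subgroup.zpowers z ⊔ Subgroup.zpowers e0 := fun h => hw (hwl ▸ mul_mem (mul_mem
    (Subgroup.mem_sup_left (Subgroup.zpow_mem _ (Subgroup.mem_zpowers z) _))
    (Subgroup.mem_sup_right (Subgroup.zpow_mem _ (Subgroup.mem_zpowers e0) _))) h)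
  have hgenV : ∀ u : E ⧸ frattini E, ∃ a b c : ℤ, u = z ^ a * e0 ^ b * l ^ c := by
    have hlt : Subgroup.zpowers z ⊔ Subgroup.zpowers e0 <
        Subgroup.zpowers z ⊔ Subgroup.zpowers e0 ⊔ Subgroup.zpowers l :=
      lt_of_le_of_ne le_sup_left fun h => hlV (h.ge (Subgroup.mem_sup_right (Subgroup.mem_zpowers l)))
    have hlt' : Subgroup.zpowers z < Subgroup.zpowers z ⊔ Subgroup.zpowers e0 :=
      lt_of_le_of_ne le_sup_left fun h => hgz (h.ge (Subgroup.mem_sup_right (Subgroup.mem_zpowers e0)))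
    have htop : Subgroup.zpowers z ⊔ Subgroup.zpowers e0 ⊔ Subgroup.zpowers l = ⊤ := by
      refine Subgroup.eq_top_of_le_card _ ?_
      refine le_trans ?_ (card_mul_le' hVp hlt)
      rw [hV, show p ^ 3 = p * p * p by ring]
      refine Nat.mul_le_mul_right p (le_trans ?_ (card_mul_le' hVp hlt'))
      rw [Nat.card_zpowers, orderOf_eq_prime (hexp z) hz1]
    intro u
    have hu := htop.ge (Subgroup.mem_top u)
    rw [Subgroup.mem_sup] at hu
    obtain ⟨x, hx, _, ⟨c, rfl⟩, rfl⟩ := hu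
    rw [Subgroup.mem_sup] at hx
    obtain ⟨_, ⟨a, rfl⟩, _, ⟨b, rfl⟩, rfl⟩ := hx
    exact ⟨a, b, c, rfl⟩
  obtain ⟨i, hi0⟩ := hmove e0
  have hi1 : (i : ZMod p) ≠ 0 := fun h0 => hte (by
    rw [hi0, zpow_congr_mod (hexp z) (show (i : ZMod p) = ((0 : ℤ) : ZMod p) by rw [h0, Int.cast_zero]),
      zpow_zero, mul_one])
  obtain ⟨zE, hzE⟩ := QuotientGroup.mk_surjective z
  obtain ⟨eE, heE⟩ := QuotientGroup.mk_surjective e0
  obtain ⟨vE, hvE⟩ := QuotientGroup.mk_surjective l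
  obtain ⟨τ, hτ, hτx⟩ := exists_extend hS hF hE.2.1 hβ b5
  have hτι : ∀ x : E, τ (ι x) = ι (β x) := fun x => Subtype.ext (hτx x _)
  have hτE : Eb.map τ.toMonoidHom = Eb := by
    refine Subgroup.eq_of_le_of_card_ge ?_ (Subgroup.card_map_of_injective τ.injective).ge
    rintro _ ⟨x, hx, rfl⟩
    show τ x ∈ Eb
    rw [show x = ι ⟨(x : Ω), hx⟩ from Subtype.ext rfl, hτι]
    exact hιE _
  set R := π r0 with hR
  set Z := π (ι zE) with hZ
  set Ee := π (ι eE) with hEe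
  set L := π (ι vE) with hL
  have cv : ∀ x : E, R * π (ι x) * R⁻¹ = π (ι (a x)) := fun x => by
    rw [haι, map_mul, map_mul, map_inv]
  have hRZ : Commute R Z := by
    rw [Commute, SemiconjBy, ← mul_inv_eq_iff_eq_mul, cv, ← mk_π, ← htd, hzE, htz]
  have hRL : Commute R L := by
    rw [Commute, SemiconjBy, ← mul_inv_eq_iff_eq_mul, cv, ← mk_π, ← htd, hvE, hl]
  have hRE : R * Ee * R⁻¹ = Ee * Z ^ i := by
    rw [cv, hEe, hZ, ← map_zpow π, ← map_zpow ι, ← map_mul π, ← map_mul ι, ← mk_π, ← htd,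
      QuotientGroup.mk_mul, QuotientGroup.mk_zpow, heE, hzE, hi0]
  have hEab : ∀ x ∈ Eb, ∀ y ∈ Eb, Commute (π x) (π y) := fun x hx y hy => commute_mk' (comm_mem_fr hx hy)
  have hEexp : ∀ x ∈ Eb, π x ^ p = 1 := fun x hx => by rw [← map_pow]; exact mk'_eq_one.2 (pow_mem_fr hx)
  have hcomm0 : π ⁅r0, ι eE⁆ = Z ^ i := by
    rw [map_commutatorElement, commutatorElement_def, ← hR, ← hEe, hRE,
      ((hEab _ (hιE eE) _ (hιE zE)).zpow_right i).eq, mul_inv_cancel_right]
  have hgenE : ∀ x ∈ Eb, ∃ a b c : ℤ, π x = Z ^ a * Ee ^ b * L ^ c := by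
    intro x hx
    obtain ⟨a', b', c', h⟩ := hgenV ((⟨(x : Ω), hx⟩ : E) : E ⧸ frattini E)
    refine ⟨a', b', c', ?_⟩
    rw [hZ, hEe, hL, ← map_zpow π, ← map_zpow π, ← map_zpow π, ← map_zpow ι, ← map_zpow ι, ← map_zpow ι,
      ← map_mul π, ← map_mul π, ← map_mul ι, ← map_mul ι]
    rw [show x = ι ⟨(x : Ω), hx⟩ from Subtype.ext rfl, ← mk_π, h]
    rw [QuotientGroup.mk_mul, QuotientGroup.mk_mul, QuotientGroup.mk_zpow, QuotientGroup.mk_zpow,
      QuotientGroup.mk_zpow, hzE, heE, hvE]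
  have hτF : fr p Eb ≤ (fr p Eb).comap τ.toMonoidHom := Subgroup.map_le_iff_le_comap.1 (by rw [map_fr, hτE])
  set τ' := QuotientGroup.map (fr p Eb) (fr p Eb) τ.toMonoidHom hτF with hτ'
  have hτπ : ∀ x, τ' (π x) = π (τ x) := fun x => rfl
  have hτv : ∀ (x : E) (y : E ⧸ frattini E), quotHom E β (x : E ⧸ frattini E) = y →
      ∀ x' : E, (x' : E ⧸ frattini E) = y → τ' (π (ι x)) = π (ι x') := by
    intro x y h x' hx'
    rw [hτπ, hτι, ← mk_π, ← quotHom_mk, h, hx']
  have hτZ : τ' Z = Z ^ n := by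
    rw [hτv zE (z ^ n) (by rw [hzE]; exact b1) (zE ^ n) (by rw [QuotientGroup.mk_zpow, hzE]), map_zpow, map_zpow]
  have hτEe : τ' Ee = Ee ^ m := by
    rw [hτv eE (e0 ^ m) (by rw [heE]; exact b2) (eE ^ m) (by rw [QuotientGroup.mk_zpow, heE]), map_zpow, map_zpow]
  have hτL : τ' L = L := hτv vE l (by rw [hvE]; exact b3 l hl hl') vE hvE
  -- the image of `r0`
  obtain ⟨u, huE, k, hτr⟩ := exists_of_mem_sup ((iE.top_eq hG hr0).le (Subgroup.mem_top (τ r0)))
  have hconjk : ∀ k : ℤ, R ^ k * Ee * (R ^ k)⁻¹ = Ee * Z ^ (i * k) := by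
    intro k
    have hZE : ∀ c : ℤ, Commute Ee (Z ^ c) := fun c => (hEab _ (hιE eE) _ (hιE zE)).zpow_right c
    induction k using Int.induction_on with
    | zero => simp
    | succ k ih =>
      rw [zpow_add_one, show R ^ (k : ℤ) * R * Ee * (R ^ (k : ℤ) * R)⁻¹ =
        R * (R ^ (k : ℤ) * Ee * (R ^ (k : ℤ))⁻¹) * R⁻¹ by group, ih,
        show R * (Ee * Z ^ (i * (k : ℤ))) * R⁻¹ = R * Ee * R⁻¹ * (R * Z ^ (i * (k : ℤ)) * R⁻¹) by group,
        hRE, (hRZ.zpow_right _).eq, mul_inv_cancel_right, mul_assoc, ← zpow_add]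
      congr 2
      ring
    | pred k ih =>
      rw [zpow_sub_one, show R ^ (-(k : ℤ)) * R⁻¹ * Ee * (R ^ (-(k : ℤ)) * R⁻¹)⁻¹ =
        R⁻¹ * (R ^ (-(k : ℤ)) * Ee * (R ^ (-(k : ℤ)))⁻¹) * R by group, ih]
      have hi' : R⁻¹ * Ee * R = Ee * Z ^ (-i) := by
        have h2 : Commute R (Z ^ (-i)) := hRZ.zpow_right _
        calc R⁻¹ * Ee * R = R⁻¹ * (Ee * Z ^ i * Z ^ (-i)) * R := by group
          _ = R⁻¹ * (R * Ee * R⁻¹ * Z ^ (-i)) * R := by rw [hRE]
          _ = Ee * (R⁻¹ * (Z ^ (-i) * R)) := by group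
          _ = Ee * Z ^ (-i) := by rw [← h2.eq, inv_mul_cancel_left]
      rw [show R⁻¹ * (Ee * Z ^ (i * -(k : ℤ))) * R = R⁻¹ * Ee * R * (R⁻¹ * Z ^ (i * -(k : ℤ)) * R) by group,
        hi', ((hRZ.zpow_right _).inv_left).eq, inv_mul_cancel_right, mul_assoc, ← zpow_add]
      congr 2
      ring
  have hk : (k : ZMod p) = (n : ZMod p) * n := by
    have hRU : τ' R = π u * R ^ k := by rw [hR, hτπ, hτr, map_mul, map_zpow]
    have h := congrArg τ' hRE
    rw [map_mul, map_mul, map_inv, map_mul, map_zpow, hτEe, hτZ, ← zpow_mul, hRU,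
      show π u * R ^ k * Ee ^ m * (π u * R ^ k)⁻¹ = π u * (R ^ k * Ee * (R ^ k)⁻¹) ^ m * (π u)⁻¹ by
        rw [conj_zpow]; group,
      hconjk, ((hEab _ (hιE eE) _ (hιE zE)).zpow_right _).mul_zpow, ← zpow_mul,
      (((hEab _ huE _ (hιE eE)).zpow_right m).mul_right ((hEab _ huE _ (hιE zE)).zpow_right _)).eq,
      mul_inv_cancel_right, mul_right_inj] at h
    have hz' : Z ≠ 1 := fun h' => hz1 (by
      rw [← hzE, QuotientGroup.eq_one_iff, hmem]; exact mk'_eq_one.1 h')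
    have h2 : Z ^ (i * k * m - n * i) = 1 := by rw [zpow_sub, h, mul_inv_cancel]
    have h3 := cast_zero_of_zpow (hEexp _ (hιE zE)) hz' h2
    push_cast at h3
    have hnm' : (n : ZMod p) * m = 1 := by simpa using hnm
    have h4 : (i : ZMod p) * ((k : ZMod p) - n * n) = 0 := by
      linear_combination (n : ZMod p) * h3 - (i : ZMod p) * k * hnm'
    exact sub_eq_zero.1 ((mul_eq_zero.1 h4).resolve_left hi1)
  -- adjust `r0`
  obtain ⟨a', b', c', hu'⟩ := hgenE u huE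
  obtain ⟨s, hs⟩ := exists_intCast ((b' : ZMod p) / ((k : ZMod p) - (m : ZMod p)))
  obtain ⟨t', ht'⟩ := exists_intCast ((c' : ZMod p) / ((k : ZMod p) - 1))
  have hkm : (k : ZMod p) - (m : ZMod p) ≠ 0 := by
    rw [hk, hn, hm]
    intro h
    exact hn3 (by field_simp at h; linear_combination h)
  have hk1 : (k : ZMod p) - 1 ≠ 0 := by
    rw [hk, hn]; exact sub_ne_zero.2 (fun h => hn2 (by rw [sq]; exact h))
  set r : N := r0 * ι eE ^ s * ι vE ^ t' with hr
  have hrE : r ∉ Eb := fun h => hr0 (by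
    have h1 := Eb.mul_mem h (Eb.inv_mem (Eb.zpow_mem (hιE vE) t'))
    have h2 := Eb.mul_mem h1 (Eb.inv_mem (Eb.zpow_mem (hιE eE) s))
    simpa [hr, mul_assoc] using h2)
  have hrr : π r = R * Ee ^ s * L ^ t' := by rw [hr, map_mul, map_mul, map_zpow, map_zpow]
  have hEL : Commute Ee L := hEab _ (hιE eE) _ (hιE vE)
  have hz'eq : π ⁅r, ι eE⁆ = Z ^ i := by
    rw [map_commutatorElement, hrr, ← hEe, mul_assoc,
      show ⁅R * (Ee ^ s * L ^ t'), Ee⁆ = R * ⁅Ee ^ s * L ^ t', Ee⁆ * R⁻¹ * ⁅R, Ee⁆ by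
        simp only [commutatorElement_def]; group,
      commutatorElement_eq_one_iff_commute.2 (((Commute.refl Ee).zpow_left s).mul_left (hEL.symm.zpow_left t')),
      mul_one, mul_inv_cancel, one_mul, hR, hEe, ← map_commutatorElement, hcomm0]
  have hzEb : ⁅r, ι eE⁆ ∈ Eb := iE.comm_mem hG _ _
  have hmemF : ∀ {x y : N}, π x = π y → x⁻¹ * y ∈ fr p Eb := fun h => QuotientGroup.eq.1 h
  refine ⟨τ, hτ, n, m, r, ι eE, ι vE, ?_⟩
  refine ⟨iE, hrE, hιE eE, hιE vE, ?_, hfr2 r eE, ?_, hτE, hnm, by rw [hn]; exact hn1,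
    by rw [hn]; exact hn2, by rw [hn]; exact hn3, by rw [hn]; exact hn5, ?_, ?_, ?_, ?_⟩
  · intro x hx
    obtain ⟨a1, b1, c1, hx1⟩ := hgenE x hx
    obtain ⟨i', hi'⟩ := exists_intCast ((i : ZMod p)⁻¹)
    have hzz : π (⁅r, ι eE⁆ ^ (i' * a1) * ι eE ^ b1 * ι vE ^ c1) = π x := by
      rw [hx1, map_mul, map_mul, map_zpow, map_zpow, map_zpow, hz'eq, ← zpow_mul,
        zpow_congr_mod (hEexp _ (hιE zE)) (show ((i * (i' * a1) : ℤ) : ZMod p) = (a1 : ZMod p) by
          push_cast; rw [hi', ← mul_assoc, mul_inv_cancel₀ hi1, one_mul])]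
    have h := mul_mem (mul_mem (mul_mem
      (Subgroup.mem_sup_left (Subgroup.mem_sup_left (Subgroup.mem_sup_right
        (Subgroup.zpow_mem _ (Subgroup.mem_zpowers ⁅r, ι eE⁆) (i' * a1)))))
      (Subgroup.mem_sup_left (Subgroup.mem_sup_right (Subgroup.zpow_mem _ (Subgroup.mem_zpowers (ι eE)) b1))))
      (Subgroup.mem_sup_right (Subgroup.zpow_mem _ (Subgroup.mem_zpowers (ι vE)) c1)))
      (Subgroup.mem_sup_left (Subgroup.mem_sup_left (Subgroup.mem_sup_left (hmemF hzz))) :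
        _ ∈ fr p Eb ⊔ Subgroup.zpowers ⁅r, ι eE⁆ ⊔ Subgroup.zpowers (ι eE) ⊔ Subgroup.zpowers (ι vE))
    rwa [mul_inv_cancel_left] at h
  · rw [← mk'_eq_one, map_commutatorElement, hrr, ← hL, mul_assoc,
      show ⁅R * (Ee ^ s * L ^ t'), L⁆ = R * ⁅Ee ^ s * L ^ t', L⁆ * R⁻¹ * ⁅R, L⁆ by
        simp only [commutatorElement_def]; group,
      commutatorElement_eq_one_iff_commute.2 ((hEL.zpow_left s).mul_left ((Commute.refl L).zpow_left t')),
      commutatorElement_eq_one_iff_commute.2 hRL, mul_one, mul_one, mul_inv_cancel]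
  · refine hmemF ?_
    rw [map_zpow, hz'eq, ← hτπ, hz'eq, map_zpow, hτZ, ← zpow_mul, ← zpow_mul, mul_comm]
  · refine hmemF ?_
    rw [map_zpow, ← hτπ, ← hEe, hτEe]
  · refine hmemF ?_
    rw [← hτπ, ← hL, hτL]
  · set Φ := fr p Eb ⊔ Subgroup.zpowers ⁅r, ι eE⁆ with hΦ
    have hr0p : r0 ^ p ∈ Eb := iE.pow_mem r0
    have hzc : ∀ x : N, ⁅⁅r, ι eE⁆, x⁆ ∈ fr p Eb := by
      intro x
      obtain ⟨w', hw', j, rfl⟩ := exists_of_mem_sup ((iE.top_eq hG hr0).le (Subgroup.mem_top x))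
      rw [comm_mem_iff, hz'eq, map_mul, map_zpow]
      exact ((hEab _ (hιE zE) _ hw').mul_right (hRZ.symm.zpow_right j)).zpow_left i
    haveI : Φ.Normal := sup_zpowers_normal hzc
    set π2 := QuotientGroup.mk' Φ with hπ2
    have hlift : ∀ x y : N, π x = π y → π2 x = π2 y := fun x y h =>
      QuotientGroup.eq.2 (Subgroup.mem_sup_left (hmemF h))
    have hZ1 : π2 (ι zE) = 1 := by
      refine mk'_eq_one.2 (mem_of_zpow (Subgroup.mem_sup_left (pow_mem_fr (hιE zE))) hi1 ?_)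
      have h : π (ι zE ^ i) = π ⁅r, ι eE⁆ := by rw [map_zpow, hz'eq]
      have h2 := mk'_eq_one.1 ((hlift _ _ h).trans (mk'_eq_one.2 (Subgroup.mem_sup_right (Subgroup.mem_zpowers _))))
      exact h2
    have hlift' : ∀ x : N, ∀ (α β γ δ : ℤ), π x = R ^ α * Z ^ β * Ee ^ γ * L ^ δ →
        π2 x = π2 r0 ^ α * π2 (ι eE) ^ γ * π2 (ι vE) ^ δ := by
      intro x α β γ δ h
      rw [hlift x (r0 ^ α * ι zE ^ β * ι eE ^ γ * ι vE ^ δ)
        (by rw [h, map_mul π, map_mul π, map_mul π, map_zpow, map_zpow, map_zpow, map_zpow]),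
        map_mul, map_mul, map_mul, map_zpow, map_zpow, map_zpow, map_zpow, hZ1, one_zpow, mul_one]
    have c1 : Commute (π2 r0) (π2 (ι eE)) := commute_mk' (by
      have h : π ⁅r0, ι eE⁆ = π ⁅r, ι eE⁆ := by rw [hcomm0, hz'eq]
      exact mk'_eq_one.1 ((hlift _ _ h).trans (mk'_eq_one.2 (Subgroup.mem_sup_right (Subgroup.mem_zpowers _)))))
    have c2 : Commute (π2 r0) (π2 (ι vE)) := commute_mk' (Subgroup.mem_sup_left (comm_mem_iff.2 hRL))
    have c3 : Commute (π2 (ι eE)) (π2 (ι vE)) :=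
      commute_mk' (Subgroup.mem_sup_left (comm_mem_fr (hιE eE) (hιE vE)))
    have e1 : π2 (τ r) = π2 r0 ^ k * π2 (ι eE) ^ (b' + m * s) * π2 (ι vE) ^ (c' + t') := by
      have h1 : π2 (τ r0) = π2 r0 ^ k * π2 (ι eE) ^ b' * π2 (ι vE) ^ c' := by
        have hu2 : π2 u = π2 (ι eE) ^ b' * π2 (ι vE) ^ c' := by
          have h := hlift' u 0 a' b' c' (by rw [hu', zpow_zero, one_mul])
          rwa [zpow_zero, one_mul] at h
        rw [hτr, map_mul, map_zpow, hu2,
          ((c1.zpow_zpow k b').mul_right (c2.zpow_zpow k c')).symm.eq, mul_assoc]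
      have h2 : π2 (τ (ι eE)) = π2 (ι eE) ^ m := by
        rw [← map_zpow]; exact hlift _ _ (by rw [← hτπ, ← hEe, hτEe, map_zpow])
      have h3 : π2 (τ (ι vE)) = π2 (ι vE) := hlift _ _ (by rw [← hτπ, ← hL, hτL])
      rw [hr, map_mul τ, map_mul τ, map_zpow τ, map_zpow τ, map_mul π2, map_mul π2, map_zpow π2 (τ (ι eE)),
        map_zpow π2 (τ (ι vE)), h1, h2, h3, ← zpow_mul, zpow_add (π2 (ι eE)), zpow_add (π2 (ι vE))]
      simp only [mul_assoc]
      rw [(c3.zpow_zpow (m * s) c').symm.left_comm]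
    have e2 : π2 (r ^ (n * n)) = π2 r0 ^ (n * n) * π2 (ι eE) ^ (s * (n * n)) * π2 (ι vE) ^ (t' * (n * n)) := by
      rw [map_zpow, hr, map_mul, map_mul, map_zpow, map_zpow,
        ((c2.zpow_right t').mul_left ((c3.zpow_zpow s t'))).mul_zpow, (c1.zpow_right s).mul_zpow,
        ← zpow_mul, ← zpow_mul]
    refine QuotientGroup.eq.1 ?_
    show π2 (r ^ (n * n)) = π2 (τ r)
    have hEp : ∀ x ∈ Eb, π2 x ^ p = 1 := fun x hx => by
      rw [← map_pow]; exact mk'_eq_one.2 (Subgroup.mem_sup_left (pow_mem_fr hx))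
    rw [e1, e2]
    congr 1
    congr 1
    · have hR0 : π2 r0 ^ (k - n * n) = 1 := by
        obtain ⟨q, hq⟩ : (p : ℤ) ∣ k - n * n := (ZMod.intCast_zmod_eq_zero_iff_dvd _ _).1 (by
          push_cast; rw [hk, sub_self])
        rw [hq, zpow_mul, zpow_natCast, ← map_pow]
        obtain ⟨a1, b1, c1', h⟩ := hgenE _ hr0p
        have hfix : Commute R (π (r0 ^ p)) := by rw [map_pow]; exact Commute.self_pow R p
        have hb : (b1 : ZMod p) = 0 := by
          rw [h] at hfix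
          have hE' : Commute R (Ee ^ b1) := by
            have := (hRZ.zpow_right a1).inv_right.mul_right (hfix.mul_right (hRL.zpow_right c1').inv_right)
            rwa [mul_inv_cancel_right, inv_mul_cancel_left] at this
          have h' : R * Ee ^ b1 * R⁻¹ = Ee ^ b1 := by rw [hE'.eq, mul_inv_cancel_right]
          rw [← conj_zpow, hRE, (((hEab _ (hιE eE) _ (hιE zE))).zpow_right i).mul_zpow, ← zpow_mul,
            mul_eq_left] at h'
          have h5' := cast_zero_of_zpow (hEexp _ (hιE zE)) (fun h' => hz1 (by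
            rw [← hzE, QuotientGroup.eq_one_iff, hmem]; exact mk'_eq_one.1 h')) h'
          push_cast at h5'
          exact (mul_eq_zero.1 h5').resolve_left hi1
        have := hlift' (r0 ^ p) 0 a1 0 c1' (by
          rw [h, zpow_zero, one_mul, zpow_congr_mod (hEexp _ (hιE eE))
            (show (b1 : ZMod p) = ((0 : ℤ) : ZMod p) by rw [hb, Int.cast_zero])])
        rw [this, zpow_zero, zpow_zero, one_mul, one_mul]
        -- the residual power of `v` is killed by the weights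
        have hc : (c1' : ZMod p) = 0 := by
          have hp' : π2 (τ (r0 ^ p)) = π2 (ι vE) ^ c1' := by
            have h' : π (τ (r0 ^ p)) = R ^ (0 : ℤ) * Z ^ (n * a1) * Ee ^ (m * b1) * L ^ c1' := by
              rw [← hτπ, h, map_mul, map_mul, map_zpow, map_zpow, map_zpow, hτZ, hτEe, hτL, ← zpow_mul,
                ← zpow_mul, zpow_zero, one_mul]
            rw [hlift' _ 0 _ _ _ h', zpow_zero, one_mul,
              zpow_congr_mod (hEp _ (hιE eE)) (show ((m * b1 : ℤ) : ZMod p) = ((0 : ℤ) : ZMod p) by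
                push_cast; rw [hb, mul_zero]), zpow_zero, one_mul]
          have hr' : π2 (τ (r0 ^ p)) = (π2 r0 ^ p) ^ k := by
            have hu2 : π2 u = π2 (ι eE) ^ b' * π2 (ι vE) ^ c' := by
              have h := hlift' u 0 a' b' c' (by rw [hu', zpow_zero, one_mul])
              rwa [zpow_zero, one_mul] at h
            rw [map_pow τ, map_pow π2, hτr, map_mul, map_zpow, hu2,
              (((c1.zpow_zpow k b').mul_right (c2.zpow_zpow k c')).symm).mul_pow,
              show (π2 (ι eE) ^ b' * π2 (ι vE) ^ c') ^ p = 1 by rw [← hu2]; exact hEp u huE, one_mul,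
              ← zpow_natCast, ← zpow_mul, mul_comm, zpow_mul, zpow_natCast]
          rw [← map_pow π2 r0, this, zpow_zero, zpow_zero, one_mul, one_mul, hp', ← zpow_mul] at hr'
          have hv1 : π2 (ι vE) ≠ 1 := by
            intro h'
            obtain ⟨f', hf', j', hj'⟩ := exists_of_mem_sup (mk'_eq_one.1 h')
            refine hlV ?_
            rw [← hvE]
            have h2 : π (ι vE) = π (ι (zE ^ (i * j'))) := by
              rw [hj', map_mul, show π f' = 1 from mk'_eq_one.2 hf', one_mul, map_zpow π, hz'eq,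
                map_zpow ι, map_zpow π, ← hZ, ← zpow_mul]
            rw [(mk_π _ _).2 h2, QuotientGroup.mk_zpow, hzE]
            exact Subgroup.mem_sup_left (Subgroup.zpow_mem _ (Subgroup.mem_zpowers z) _)
          have h6 : π2 (ι vE) ^ (c1' * k - c1') = 1 := by rw [zpow_sub, ← hr', mul_inv_cancel]
          have h7 := cast_zero_of_zpow (hEp _ (hιE vE)) hv1 h6
          push_cast at h7
          exact (mul_eq_zero.1 (show ((k : ZMod p) - 1) * c1' = 0 by linear_combination h7)).resolve_left hk1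
        rw [zpow_congr_mod (hEp _ (hιE vE)) (show (c1' : ZMod p) = ((0 : ℤ) : ZMod p) by rw [hc, Int.cast_zero]),
          zpow_zero, one_zpow]
      rw [← mul_inv_eq_one, ← zpow_sub, show n * n - k = -(k - n * n) by ring, zpow_neg, hR0, inv_one]
    · refine zpow_congr_mod (hEp _ (hιE eE)) ?_
      push_cast
      rw [hs, ← hk]
      field_simp
      ring
    · refine zpow_congr_mod (hEp _ (hιE vE)) ?_
      push_cast
      rw [ht', ← hk]
      field_simp
      ring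

end Cfsg.Agent.Lib.RankThreeEss69
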